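import Cfsg.Agent.Lib.SUClassNumber.Dual

/-!
Isometries of finite order of a bilinear space: the polynomial calculus of the adjoint.
-/

set_option autoImplicit false
set_option linter.unusedSectionVars false

namespace CfsgLib.IsometryClasses

open Polynomial

universe u v

variable {K : Type u} [Field K]

/-- The substitution of `X ^ (N - 1)` for `X`. -/
noncomputable def rev (N : ℕ) (r : K[X]) : K[X] := r.comp (X ^ (N - 1))

/-- The monic reversed polynomial. -/
noncomputable abbrev du (p : K[X]) : K[X] := SUClassNumber.dualP (RingHom.id K) p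

variable {N : ℕ}

theorem rev_add (r s : K[X]) : rev N (r + s) = rev N r + rev N s := add_comp

theorem rev_sub (r s : K[X]) : rev N (r - s) = rev N r - rev N s := sub_comp ..

theorem rev_mul (r s : K[X]) : rev N (r * s) = rev N r * rev N s := mul_comp r s _

theorem rev_pow (r : K[X]) (j : ℕ) : rev N (r ^ j) = rev N r ^ j := pow_comp r _ j

theorem rev_C (c : K) : rev N (C c) = C c := C_comp

theorem rev_one : rev N (1 : K[X]) = 1 := one_comp

theorem rev_X : rev N (X : K[X]) = X ^ (N - 1) := X_comp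

theorem du_du {p : K[X]} (hp : p.Monic) (hp0 : p.coeff 0 ≠ 0) : du (du p) = p :=
  SUClassNumber.dualP_dualP (fun _ => rfl) hp hp0

theorem du_props [Fintype K] {p : K[X]} (hp : p.Monic ∧ Irreducible p) (hp0 : p.coeff 0 ≠ 0) :
    (du p).Monic ∧ Irreducible (du p) ∧ (du p).coeff 0 ≠ 0 ∧ (du p).natDegree = p.natDegree :=
  ⟨SUClassNumber.monic_dualP hp0, SUClassNumber.irreducible_dualP (fun _ => rfl) hp hp0,
    by rw [du, SUClassNumber.coeff_zero_dualP hp.1]; exact inv_ne_zero hp0,
    SUClassNumber.natDegree_dualP hp0⟩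

theorem coeff_zero_ne_of_dvd (hN : 0 < N) {p : K[X]} (h : p ∣ X ^ N - 1) : p.coeff 0 ≠ 0 := by
  intro h0
  have h1 := dvd_trans (X_dvd_iff.mpr h0) h
  rw [X_dvd_iff, coeff_sub, coeff_X_pow, if_neg hN.ne, coeff_one_zero, zero_sub, neg_eq_zero] at h1
  exact one_ne_zero h1

/-- Congruence is preserved by composition. -/
theorem comp_congr {f a b : K[X]} (h : f ∣ a - b) (r : K[X]) : f ∣ r.comp a - r.comp b := by
  rw [← Ideal.mem_span_singleton, ← Ideal.Quotient.eq] at h ⊢
  rw [Polynomial.comp, Polynomial.comp, hom_eval₂, hom_eval₂, h]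

theorem dvd_rev {r : K[X]} (h : (X ^ N - 1 : K[X]) ∣ r) : (X ^ N - 1 : K[X]) ∣ rev N r := by
  obtain ⟨s, rfl⟩ := h
  rw [rev_mul, rev_sub, rev_pow, rev_X, rev_one, ← pow_mul, mul_comm (N - 1) N, pow_mul]
  exact dvd_mul_of_dvd_left (sub_one_dvd_pow_sub_one _ _) _

theorem rev_rev (hN : 0 < N) (r : K[X]) : (X ^ N - 1 : K[X]) ∣ rev N (rev N r) - r := by
  have h2 : (X ^ N - 1 : K[X]) ∣ X ^ ((N - 1) * (N - 1)) - X := by
    obtain _ | _ | M := N
    · omega
    · simp only [zero_add, Nat.sub_self, mul_zero, pow_zero, pow_one]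
      exact ⟨-1, by ring⟩
    · refine dvd_trans (sub_one_dvd_pow_sub_one (X ^ (M + 2) : K[X]) M) ⟨X, ?_⟩
      rw [show M + 1 + 1 - 1 = M + 1 by omega, ← pow_mul, sub_mul, one_mul, ← pow_succ]
      congr 2
      ring
  have h := comp_congr h2 r
  rwa [comp_X, pow_mul, ← X_comp (p := X ^ (N - 1)), ← pow_comp, ← comp_assoc] at h

/-- The adjoint of the reversed polynomial is a unit multiple of the polynomial. -/
theorem rev_du (hN : 0 < N) {p : K[X]} (hp0 : p.coeff 0 ≠ 0) :
    ∃ m m' : K[X], (X ^ N - 1 : K[X]) ∣ rev N (du p) - m * p ∧ (X ^ N - 1 : K[X]) ∣ m * m' - 1 := by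
  set d := p.natDegree with hd
  refine ⟨C (p.coeff 0)⁻¹ * X ^ ((N - 1) * d), C (p.coeff 0) * X ^ d, ?_, ?_⟩
  · set π : K[X] →+* K[X] ⧸ Ideal.span {(X ^ N - 1 : K[X])} := Ideal.Quotient.mk _ with hπ
    have hx : π X ^ N = 1 := by
      rw [← map_pow, ← map_one π, hπ, Ideal.Quotient.eq, Ideal.mem_span_singleton]
    letI : Invertible (π X) := ⟨π X ^ (N - 1), by rw [← pow_succ, Nat.sub_add_cancel hN, hx],
      by rw [← pow_succ', Nat.sub_add_cancel hN, hx]⟩
    have h1 := eval₂_reverse_mul_pow (π.comp C) (π X) p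
    rw [← Ideal.mem_span_singleton, ← Ideal.Quotient.eq, ← hπ, rev, Polynomial.comp, hom_eval₂, map_pow, du,
      SUClassNumber.dualP, Polynomial.map_id, eval₂_mul, eval₂_C, RingHom.id_apply, map_mul, map_mul, map_pow,
      RingHom.comp_apply]
    rw [show π p = eval₂ (π.comp C) (π X) p by rw [← hom_eval₂, eval₂_C_X], ← h1]
    show π (C (p.coeff 0)⁻¹) * eval₂ (π.comp C) (⅟(π X)) p.reverse = _
    have hu : π X ^ ((N - 1) * d) * π X ^ d = 1 := by
      rw [← pow_add, show (N - 1) * d + d = N * d by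
        rw [← Nat.succ_mul, Nat.succ_eq_add_one, Nat.sub_add_cancel hN], pow_mul, hx, one_pow]
    linear_combination (-(π (C (p.coeff 0)⁻¹) * eval₂ (π.comp C) (⅟(π X)) p.reverse)) * hu
  · have h2 : (C (p.coeff 0)⁻¹ * X ^ ((N - 1) * d)) * (C (p.coeff 0) * X ^ d) - 1 = (X ^ N : K[X]) ^ d - 1 := by
      rw [mul_mul_mul_comm, ← C_mul, inv_mul_cancel₀ hp0, C_1, one_mul, ← pow_add, ← pow_mul,
        show (N - 1) * d + d = N * d by
          rw [← Nat.succ_mul, Nat.succ_eq_add_one, Nat.sub_add_cancel hN]]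
    rw [h2]
    exact sub_one_dvd_pow_sub_one _ _

theorem rev_du_pow (hN : 0 < N) {p : K[X]} (hp0 : p.coeff 0 ≠ 0) (j : ℕ) :
    ∃ m m' : K[X], (X ^ N - 1 : K[X]) ∣ rev N (du p ^ j) - m * p ^ j ∧
      (X ^ N - 1 : K[X]) ∣ m * m' - 1 := by
  obtain ⟨m, m', h1, h2⟩ := rev_du hN hp0
  refine ⟨m ^ j, m' ^ j, ?_, ?_⟩
  · rw [rev_pow, ← mul_pow]
    exact h1.trans (sub_dvd_pow_sub_pow _ _ _)
  · rw [← mul_pow]
    exact h2.trans (sub_one_dvd_pow_sub_one _ _)

theorem rev_self_pow (hN : 0 < N) {p : K[X]} (hp0 : p.coeff 0 ≠ 0) (hsd : du p = p) (j : ℕ) :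
    ∃ m, (X ^ N - 1 : K[X]) ∣ rev N (p ^ j) - m * p ^ j := by
  obtain ⟨m, -, h, -⟩ := rev_du_pow hN hp0 j
  rw [hsd] at h
  exact ⟨m, h⟩

/-- The adjoint preserves the ideal of a self-dual divisor. -/
theorem dvd_rev_self (hN : 0 < N) {p : K[X]} (hp0 : p.coeff 0 ≠ 0) (hsd : du p = p) {j : ℕ}
    (hj : p ^ j ∣ X ^ N - 1) {r : K[X]} (h : p ^ j ∣ r) : p ^ j ∣ rev N r := by
  obtain ⟨s, rfl⟩ := h
  obtain ⟨m, hm⟩ := rev_self_pow hN hp0 hsd j
  rw [rev_mul]
  exact dvd_mul_of_dvd_left ((dvd_iff_dvd_of_dvd_sub (hj.trans hm)).mpr (dvd_mul_left _ _)) _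

/-- The eigenvalues one and minus one. -/
def IsPM (p : K[X]) : Prop := p = X - C 1 ∨ p = X - C (-1)

theorem IsPM.exists_eq {p : K[X]} (h : IsPM p) : ∃ a : K, a * a = 1 ∧ p = X - C a := by
  rcases h with h | h
  · exact ⟨1, one_mul 1, h⟩
  · exact ⟨-1, by ring, h⟩

theorem du_pm {p : K[X]} (h : IsPM p) : du p = p := by
  obtain ⟨a, ha, rfl⟩ := h.exists_eq
  have ha0 : a ≠ 0 := fun h0 => by simp [h0] at ha
  refine Polynomial.ext fun i => ?_
  have h0 : (X - C a).coeff 0 = -a := by simp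
  have hm : (du (X - C a)).natDegree = 1 := by
    rw [du, SUClassNumber.natDegree_dualP (by rw [h0]; exact neg_ne_zero.mpr ha0), natDegree_X_sub_C]
  rcases i with _ | _ | i
  · rw [du, SUClassNumber.coeff_zero_dualP (monic_X_sub_C a), RingHom.id_apply, h0, inv_neg,
      inv_eq_of_mul_eq_one_left ha]
  · have h1 : (du (X - C a)).coeff 1 = 1 := by
      have hm' : (du (X - C a)).Monic := SUClassNumber.monic_dualP (by rw [h0]; exact neg_ne_zero.mpr ha0)
      rw [← hm'.coeff_natDegree, hm]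
    rw [h1]
    simp [coeff_C]
  · rw [coeff_eq_zero_of_natDegree_lt (by omega), coeff_eq_zero_of_natDegree_lt
      (by rw [natDegree_X_sub_C]; omega)]

/-- At one and minus one the adjoint of a power is its signed multiple. -/
theorem rev_pm (hN : 0 < N) {p : K[X]} (h : IsPM p) {e : ℕ} (he : 1 ≤ e) (hf : p ^ e ∣ X ^ N - 1) :
    p ^ e ∣ rev N (p ^ (e - 1)) - C ((-1) ^ (e - 1)) * p ^ (e - 1) := by
  obtain ⟨a, ha, rfl⟩ := h.exists_eq
  have hroot : a ^ N = 1 := by
    have h1 : (X - C a) ∣ X ^ N - 1 := (dvd_pow_self _ (by omega : e ≠ 0)).trans hf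
    rw [dvd_iff_isRoot, IsRoot, eval_sub, eval_pow, eval_X, eval_one, sub_eq_zero] at h1
    exact h1
  set t : K[X] := -(C a * X ^ (N - 1)) with ht
  have h1 : (X ^ N - 1 : K[X]) ∣ rev N (X - C a) - t * (X - C a) := by
    refine ⟨C a, ?_⟩
    have hca : (C a * C a : K[X]) = 1 := by rw [← C_mul, ha, C_1]
    have hx : (X : K[X]) ^ (N - 1) * X = X ^ N := by rw [← pow_succ, Nat.sub_add_cancel hN]
    rw [ht, rev_sub, rev_X, rev_C]
    linear_combination (-(X ^ (N - 1) : K[X])) * hca + C a * hx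
  have h2 : (X - C a) ∣ t - C (-1) := by
    rw [dvd_iff_isRoot, IsRoot, ht, eval_sub, eval_neg, eval_mul, eval_C, eval_pow, eval_X, eval_C, sub_neg_eq_add,
      ← pow_succ', Nat.sub_add_cancel hN, hroot, neg_add_cancel]
  have h3 : (X - C a) ^ e ∣ rev N ((X - C a) ^ (e - 1)) - t ^ (e - 1) * (X - C a) ^ (e - 1) := by
    rw [rev_pow, ← mul_pow]
    exact hf.trans (h1.trans (sub_dvd_pow_sub_pow _ _ _))
  have h4 : (X - C a) ^ e ∣ (t ^ (e - 1) - C ((-1) ^ (e - 1))) * (X - C a) ^ (e - 1) := by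
    conv_lhs => rw [show e = 1 + (e - 1) by omega, pow_add, pow_one]
    refine mul_dvd_mul_right (h2.trans ?_) _
    rw [C_pow]
    exact sub_dvd_pow_sub_pow _ _ _
  have := dvd_add h3 h4
  convert this using 1
  ring

variable {V : Type v} [AddCommGroup V] [Module K V]

/-- An isometry of finite order. -/
structure Ctx (B : V →ₗ[K] V →ₗ[K] K) (x : Module.End K V) (ε : K) (N : ℕ) : Prop where
  pos : 0 < N
  pow_eq : x ^ N = 1
  iso : ∀ u v, B (x u) (x v) = B u v
  symm : ∀ u v, B u v = ε * B v u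
  two : (2 : K) ≠ 0

/-- Action of a polynomial. -/
noncomputable abbrev act (x : Module.End K V) (r : K[X]) (u : V) : V := aeval x r u

theorem act_mul (x : Module.End K V) (r s : K[X]) (u : V) : act x (r * s) u = act x r (act x s u) := by
  simp [act, map_mul, Module.End.mul_apply]

theorem act_mul_comm (x : Module.End K V) (r s : K[X]) (u : V) : act x r (act x s u) = act x s (act x r u) := by
  rw [← act_mul, ← act_mul, mul_comm]

theorem act_add (x : Module.End K V) (r s : K[X]) (u : V) : act x (r + s) u = act x r u + act x s u := by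
  simp [act]

theorem act_sub (x : Module.End K V) (r s : K[X]) (u : V) : act x (r - s) u = act x r u - act x s u := by
  simp [act]

theorem act_C_mul (x : Module.End K V) (c : K) (r : K[X]) (u : V) : act x (C c * r) u = c • act x r u := by
  simp [act, ← smul_eq_C_mul]

theorem act_zero_of_dvd {x : Module.End K V} {f r : K[X]} {u : V} (hf : act x f u = 0) (h : f ∣ r) :
    act x r u = 0 := by
  obtain ⟨s, rfl⟩ := h
  rw [mul_comm, act_mul, hf, act, map_zero]

theorem act_eq_of_dvd {x : Module.End K V} {f r s : K[X]} {u : V} (hf : act x f u = 0) (h : f ∣ r - s) :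
    act x r u = act x s u := by
  have := act_zero_of_dvd hf h
  rwa [act_sub, sub_eq_zero] at this

theorem act_X (x : Module.End K V) (u : V) : act x X u = x u := by
  simp [act]

variable {B : V →ₗ[K] V →ₗ[K] K} {x : Module.End K V} {ε : K}

theorem Ctx.kill (h : Ctx B x ε N) (u : V) : act x (X ^ N - 1) u = 0 := by
  simp [act, h.pow_eq]

theorem Ctx.congr (h : Ctx B x ε N) {r s : K[X]} (hrs : (X ^ N - 1 : K[X]) ∣ r - s) (u : V) :
    act x r u = act x s u :=
  act_eq_of_dvd (h.kill u) hrs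

theorem Ctx.adj (h : Ctx B x ε N) (r : K[X]) : ∀ u v, B (act x r u) v = B u (act x (rev N r) v) := by
  induction r using Polynomial.induction_on' with
  | add a b ha hb => intro u v; rw [rev_add, act_add, act_add, map_add, map_add, LinearMap.add_apply, ha, hb]
  | monomial i c =>
    intro u v
    have key : ∀ (i : ℕ) (u v : V), B ((x ^ i) u) v = B u ((x ^ ((N - 1) * i)) v) := by
      intro i
      induction i with
      | zero => intro u v; simp
      | succ i ih =>
        intro u v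
        rw [pow_succ, Module.End.mul_apply, ih, mul_add, mul_one, add_comm, pow_add, Module.End.mul_apply]
        have h1 : ∀ a b, B (x a) b = B a ((x ^ (N - 1)) b) := fun a b => by
          conv_lhs => rw [show b = x ((x ^ (N - 1)) b) by
            rw [← Module.End.mul_apply, ← pow_succ', Nat.sub_add_cancel h.pos, h.pow_eq, Module.End.one_apply]]
          rw [h.iso]
        rw [h1]
    simp [rev, act, ← C_mul_X_pow_eq_monomial, mul_comp, ← pow_mul, key]

theorem Ctx.adj' (h : Ctx B x ε N) (r : K[X]) (u v : V) : B u (act x r v) = B (act x (rev N r) u) v := by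
  rw [h.adj, h.congr (rev_rev h.pos r)]

theorem Ctx.swap (h : Ctx B x ε N) (r : K[X]) (u v : V) : B u (act x r v) = ε * B v (act x (rev N r) u) := by
  rw [h.symm, h.adj]

/-- An invariant submodule. -/
def Inv (x : Module.End K V) (U : Submodule K V) : Prop := ∀ u ∈ U, x u ∈ U

theorem Inv.act_mem {U : Submodule K V} (hU : Inv x U) (r : K[X]) {u : V} (hu : u ∈ U) : act x r u ∈ U := by
  induction r using Polynomial.induction_on' with
  | add a b ha hb => rw [act_add]; exact add_mem ha hb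
  | monomial i c =>
    have : ∀ i, (x ^ i) u ∈ U := by
      intro i
      induction i with
      | zero => simpa using hu
      | succ i ih => rw [pow_succ', Module.End.mul_apply]; exact hU _ ih
    simp only [act, aeval_monomial, Module.End.mul_apply, Module.algebraMap_end_apply]
    exact U.smul_mem c (this i)

/-- The form is nondegenerate on the submodule. -/
def Nd (B : V →ₗ[K] V →ₗ[K] K) (U : Submodule K V) : Prop := ∀ u ∈ U, (∀ w ∈ U, B w u = 0) → u = 0

/-- Orthogonality. -/
def Orth (B : V →ₗ[K] V →ₗ[K] K) (U W : Submodule K V) : Prop := ∀ u ∈ U, ∀ w ∈ W, B u w = 0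

theorem Ctx.orth_symm (h : Ctx B x ε N) {U W : Submodule K V} (hUW : Orth B U W) : Orth B W U :=
  fun w hw u hu => by rw [h.symm, hUW u hu w hw, mul_zero]

/-- The orbit map of a vector. -/
noncomputable def orb (x : Module.End K V) (v : V) : K[X] →ₗ[K] V :=
  (LinearMap.applyₗ v).comp (aeval x).toLinearMap

theorem orb_apply (v : V) (r : K[X]) : orb x v r = act x r v := rfl

/-- The functional of two vectors. -/
noncomputable def gram (B : V →ₗ[K] V →ₗ[K] K) (x : Module.End K V) (u v : V) : K[X] →ₗ[K] K :=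
  (B u).comp (orb x v)

theorem gram_apply (u v : V) (r : K[X]) : gram B x u v r = B u (act x r v) := rfl

theorem inv_range_orb (v : V) : Inv x (LinearMap.range (orb x v)) := by
  rintro u ⟨r, rfl⟩
  exact ⟨X * r, by rw [orb_apply, act_mul, act_X, orb_apply]⟩

end CfsgLib.IsometryClasses
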