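import Cfsg.Agent.Lib.IsometryClasses.Exists

/-!
Orthogonal decompositions into pieces, and the isometry determined by the labels.
-/

set_option autoImplicit false
set_option linter.unusedSectionVars false

namespace CfsgLib.IsometryClasses

open Polynomial

universe u v w

variable {K : Type u} [Field K] [Fintype K] {V : Type v} [AddCommGroup V] [Module K V] [FiniteDimensional K V]
  {B : V →ₗ[K] V →ₗ[K] K} {x : Module.End K V} {ε : K} {N : ℕ}

theorem Nd.unique {W : Submodule K V} (hW : Nd B W) {a b : V} (ha : a ∈ W) (hb : b ∈ W)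
    (h : ∀ w ∈ W, B w a = B w b) : a = b :=
  sub_eq_zero.mp (hW _ (sub_mem ha hb) fun w hw => by rw [map_sub, h w hw, sub_self])

theorem exists_proj (h : Ctx B x ε N) {W : Submodule K V} (hnd : Nd B W) (hW : Inv x W) :
    ∃ π : V →ₗ[K] V, (∀ u, π u ∈ W) ∧ (∀ u ∈ W, π u = u) ∧ (∀ u, ∀ w ∈ W, B w (π u) = B w u) ∧
      ∀ u, π (x u) = x (π u) := by
  let α : V →ₗ[K] Module.Dual K W := (B.comp W.subtype).flip
  let β : W →ₗ[K] Module.Dual K W := α.comp W.subtype
  have hβ : Function.Injective β := by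
    rw [← LinearMap.ker_eq_bot, LinearMap.ker_eq_bot']
    rintro ⟨u, hu⟩ h0
    exact Subtype.ext (hnd u hu fun w hw => LinearMap.congr_fun h0 ⟨w, hw⟩)
  let e := LinearEquiv.ofBijective β ⟨hβ,
    (LinearMap.injective_iff_surjective_of_finrank_eq_finrank Subspace.dual_finrank_eq.symm).mp hβ⟩
  let π : V →ₗ[K] V := W.subtype.comp (e.symm.toLinearMap.comp α)
  have hmem : ∀ u, π u ∈ W := fun u => (e.symm (α u)).2
  have hpair : ∀ u, ∀ w ∈ W, B w (π u) = B w u := fun u w hw => by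
    have h1 := LinearMap.congr_fun (e.apply_symm_apply (α u)) ⟨w, hw⟩
    exact h1
  refine ⟨π, hmem, fun u hu => hnd.unique (hmem u) hu (hpair u), hpair, fun u => ?_⟩
  refine hnd.unique (hmem _) (hW _ (hmem u)) fun w hw => ?_
  rw [hpair _ w hw, ← act_X x u, ← act_X x (π u), h.adj', h.adj', hpair u _ (hW.act_mem _ hw)]

/-- An orthogonal decomposition into pieces. -/
inductive Frame (B : V →ₗ[K] V →ₗ[K] K) (x : Module.End K V) (ε : K) : Submodule K V → Multiset (Tag K) → Prop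
  | nil : Frame B x ε ⊥ 0
  | cons {t : Tag K} {W U : Submodule K V} {m : Multiset (Tag K)} :
      IsPiece B x ε t W → Orth B W U → Frame B x ε U m → Frame B x ε (W ⊔ U) (t ::ₘ m)

theorem Frame.vtag {U : Submodule K V} {m : Multiset (Tag K)} (hF : Frame B x ε U m) (h : Ctx B x ε N) :
    ∀ t ∈ m, VTag ε t := by
  induction hF with
  | nil => intro t ht; simp at ht
  | cons hW _ _ ih =>
    intro t ht
    rcases Multiset.mem_cons.mp ht with rfl | ht
    exacts [hW.vtag h, ih t ht]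

theorem Frame.nd {U : Submodule K V} {m : Multiset (Tag K)} (hF : Frame B x ε U m) (h : Ctx B x ε N) :
    Nd B U := by
  induction hF with
  | nil => intro u hu _; exact (Submodule.mem_bot K).mp hu
  | cons hW ho _ ih =>
    intro u hu hz
    obtain ⟨a, ha, b, hb, rfl⟩ := Submodule.mem_sup.mp hu
    have h1 : a = 0 := hW.nd h a ha fun w hw => by
      have := hz w (Submodule.mem_sup_left hw)
      rwa [map_add, ho w hw b hb, add_zero] at this
    have h2 : b = 0 := ih b hb fun w hw => by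
      have := hz w (Submodule.mem_sup_right hw)
      rwa [map_add, h.orth_symm ho w hw a ha, zero_add] at this
    rw [h1, h2, add_zero]

theorem Frame.inv {U : Submodule K V} {m : Multiset (Tag K)} (hF : Frame B x ε U m) : Inv x U := by
  induction hF with
  | nil => intro u hu; rw [Submodule.mem_bot] at hu ⊢; rw [hu, map_zero]
  | cons hW _ _ ih =>
    intro u hu
    obtain ⟨a, ha, b, hb, rfl⟩ := Submodule.mem_sup.mp hu
    rw [map_add]
    exact Submodule.add_mem_sup (hW.inv a ha) (ih b hb)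

theorem inf_eq_bot {W U : Submodule K V} (hW : Nd B W) (ho : Orth B W U) : W ⊓ U = ⊥ :=
  (Submodule.eq_bot_iff _).mpr fun u hu =>
    hW u hu.1 fun w hw => ho w hw u hu.2

theorem Frame.finrank {U : Submodule K V} {m : Multiset (Tag K)} (hF : Frame B x ε U m) (h : Ctx B x ε N) :
    Module.finrank K U = (m.map fun t => t.2.1 * t.1.natDegree).sum := by
  induction hF with
  | nil => simp
  | @cons t W U m hW ho _ ih =>
    have h1 := Submodule.finrank_sup_add_finrank_inf_eq W U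
    rw [inf_eq_bot (hW.nd h) ho, finrank_bot, add_zero] at h1
    rw [h1, Multiset.map_cons, Multiset.sum_cons, hW.finrank h, ih]

theorem Frame.extract {U : Submodule K V} {m : Multiset (Tag K)} (hF : Frame B x ε U m) (h : Ctx B x ε N) :
    ∀ {a : Tag K} {m' : Multiset (Tag K)}, m = a ::ₘ m' →
      ∃ W U', IsPiece B x ε a W ∧ Orth B W U' ∧ U = W ⊔ U' ∧ Frame B x ε U' m' := by
  induction hF with
  | nil => intro a m' h0; exact absurd h0.symm Multiset.cons_ne_zero
  | @cons t W U m hW ho hF ih =>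
    intro a m' h0
    rcases Multiset.cons_eq_cons.mp h0 with ⟨rfl, rfl⟩ | ⟨-, cs, h1, h2⟩
    · exact ⟨W, U, hW, ho, rfl, hF⟩
    · obtain ⟨W', U', hW', ho', rfl, hF'⟩ := ih h1
      refine ⟨W', W ⊔ U', hW', ?_, ?_, h2 ▸ Frame.cons hW (fun u hu w hw => ho u hu w (Submodule.mem_sup_right hw)) hF'⟩
      · intro u hu w hw
        obtain ⟨c, hc, d, hd, rfl⟩ := Submodule.mem_sup.mp hw
        rw [map_add, h.orth_symm ho u (Submodule.mem_sup_left hu) c hc, ho' u hu d hd, add_zero]
      · rw [sup_left_comm]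

/-- At most one cyclic piece with sign false of each kind. -/
def Canon (m : Multiset (Tag K)) : Prop :=
  ∀ (t : Tag K) (m' : Multiset (Tag K)), t.2.2 = some false → m = t ::ₘ m' → t ∉ m'

theorem sq_value (h2 : (2 : K) ≠ 0) {s₀ s₁ : K} (h₀ : s₀ ≠ 0) (h₁ : s₁ ≠ 0) :
    ∃ a b : K, a * a * s₀ + b * b * s₁ = 1 := by
  obtain ⟨a, b, hab⟩ := UnitaryConj.quad (IsUnit.mk0 (2 : K) h2)
    (IsUnit.mk0 (-(s₁ / s₀)) (neg_ne_zero.mpr (div_ne_zero h₁ h₀))) s₀⁻¹
  refine ⟨a, b, ?_⟩
  have h3 := congrArg (fun z => z * s₀) hab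
  simp only [inv_mul_cancel₀ h₀] at h3
  rw [← h3]
  field_simp
  ring

theorem exists_sign_true (h : Ctx B x ε N) {p : K[X]} {e : ℕ} {v₁ v₂ : V} (h₁ : IsC B x p e v₁)
    (h₂ : IsC B x p e v₂) (hpm : IsPM p) (ho : ∀ r, gram B x v₁ v₂ r = 0) :
    ∃ a b : K, IsC B x p e (a • v₁ + b • v₂) ∧ sgn B x p e (a • v₁ + b • v₂) = true := by
  obtain ⟨a, b, hab⟩ := sq_value h.two (h₁.gram_q hpm) (h₂.gram_q hpm)
  have ho' : ∀ r, gram B x v₂ v₁ r = 0 := fun r => by
    rw [gram_apply, h.swap, ← gram_apply, ho, mul_zero]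
  have hg : ∀ r, gram B x (a • v₁ + b • v₂) (a • v₁ + b • v₂) r =
      a * a * gram B x v₁ v₁ r + b * b * gram B x v₂ v₂ r := fun r => by
    have e1 := ho r
    have e2 := ho' r
    rw [gram_apply] at e1 e2 ⊢
    simp only [act, gram_apply, map_add, map_smul, LinearMap.add_apply, LinearMap.smul_apply, smul_eq_mul]
      at e1 e2 ⊢
    linear_combination a * b * e1 + b * a * e2
  refine ⟨a, b, ⟨h₁.mon, h₁.irr, h₁.he, h₁.p0, h₁.self, ?_, 1, ?_⟩, ?_⟩
  · simp only [act, map_add, map_smul]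
    rw [← act, ← act, h₁.kill, h₂.kill, smul_zero, smul_zero, add_zero]
  · rw [one_mul, hg, hab]
    exact one_ne_zero
  · rw [sgn, if_pos hpm, hg, hab]
    simp

theorem exists_frame (h : Ctx B x ε N) : ∀ (n : ℕ) (U : Submodule K V), Module.finrank K U ≤ n → Inv x U →
    Nd B U → ∃ m, Frame B x ε U m ∧ Canon m := by
  intro n
  induction n with
  | zero =>
    intro U hn _ _
    have : U = ⊥ := Submodule.finrank_eq_zero.mp (Nat.le_zero.mp hn)
    subst this
    exact ⟨0, Frame.nil, fun t m' _ h0 => absurd h0.symm Multiset.cons_ne_zero⟩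
  | succ n ih =>
    intro U hn hU hnd
    by_cases hne : U = ⊥
    · exact ih U (by rw [hne, finrank_bot]; exact Nat.zero_le _) hU hnd
    obtain ⟨t, W, hW, hWU, hWne, hsign⟩ := exists_piece h hU hnd hne
    obtain ⟨π, hπ1, hπ2, hπ3, hπ4⟩ := exists_proj h (hW.nd h) hW.inv
    set U₁ := U ⊓ LinearMap.ker π with hU₁
    have ho : Orth B W U₁ := fun w hw u hu => by
      rw [← hπ3 u w hw, LinearMap.mem_ker.mp hu.2, map_zero]
    have hsup : W ⊔ U₁ = U := by
      refine le_antisymm (sup_le hWU inf_le_left) fun u hu => ?_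
      refine Submodule.mem_sup.mpr ⟨π u, hπ1 u, u - π u, ⟨sub_mem hu (hWU (hπ1 u)), ?_⟩, add_sub_cancel _ _⟩
      rw [SetLike.mem_coe, LinearMap.mem_ker, map_sub, hπ2 _ (hπ1 u), sub_self]
    have hinv : Inv x U₁ := fun u hu => ⟨hU u hu.1, by
      rw [SetLike.mem_coe, LinearMap.mem_ker, hπ4, LinearMap.mem_ker.mp hu.2, map_zero]⟩
    have hnd₁ : Nd B U₁ := fun u hu hz => by
      refine hnd u hu.1 fun z hz' => ?_
      rw [← hsup] at hz'
      obtain ⟨a, ha, b, hb, rfl⟩ := Submodule.mem_sup.mp hz'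
      rw [map_add, LinearMap.add_apply, ho a ha u hu, hz b hb, add_zero]
    have hlt : Module.finrank K U₁ < Module.finrank K U := by
      refine Submodule.finrank_lt_finrank_of_lt (lt_of_le_of_ne inf_le_left fun h0 => hWne ?_)
      have := inf_eq_bot (hW.nd h) ho
      rwa [h0, inf_eq_left.mpr hWU] at this
    obtain ⟨m, hm, hcan⟩ := ih U₁ (by omega) hinv hnd₁
    refine ⟨t ::ₘ m, hsup ▸ Frame.cons hW ho hm, ?_⟩
    have hnotin : t.2.2 = some false → t ∉ m := by
      intro hf ht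
      obtain ⟨m', rfl⟩ := Multiset.exists_cons_of_mem ht
      obtain ⟨W', U', hW', ho', hUW, -⟩ := hm.extract h rfl
      rcases hW with ⟨p, e, v, hv, rfl, rfl⟩ | ⟨p, e, v, w, hv, rfl, rfl⟩
      swap
      · simp at hf
      simp only [Option.some.injEq] at hf
      rcases hW' with ⟨p', e', v', hv', ht', rfl⟩ | ⟨p', e', v', w', hv', ht', rfl⟩
      swap
      · simp at ht'
      simp only [Prod.mk.injEq, Option.some.injEq] at ht'
      obtain ⟨rfl, rfl, -⟩ := ht'
      have hpm : IsPM p := by_contra fun hn => by simp [sgn, hn] at hf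
      have hv'U₁ : v' ∈ U₁ := by
        rw [hUW]
        exact Submodule.mem_sup_left ⟨1, by simp [orb_apply, act]⟩
      obtain ⟨a, b, hc, hs⟩ := exists_sign_true h hv hv' hpm fun r =>
        ho v ⟨1, by simp [orb_apply, act]⟩ _ (hinv.act_mem r hv'U₁)
      have hmem : a • v + b • v' ∈ U :=
        add_mem (U.smul_mem a (hWU ⟨1, by simp [orb_apply, act]⟩)) (U.smul_mem b hv'U₁.1)
      have := hsign (by simp [hf]) _ hmem hc
      rw [hs] at this
      exact Bool.noConfusion this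
    intro t' m' hf h0 hmem
    rcases Multiset.cons_eq_cons.mp h0 with ⟨rfl, rfl⟩ | ⟨hne', cs, h1, h2⟩
    · exact hnotin hf hmem
    · rw [h2] at hmem
      rcases Multiset.mem_cons.mp hmem with h3 | h3
      · exact hne' h3.symm
      · exact hcan t' cs hf h1 h3

variable {V' : Type w} [AddCommGroup V'] [Module K V'] [FiniteDimensional K V'] {B' : V' →ₗ[K] V' →ₗ[K] K}
  {y : Module.End K V'}

theorem Frame.exists_iso {U : Submodule K V} {m : Multiset (Tag K)} (hF : Frame B x ε U m) (h : Ctx B x ε N)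
    (h' : Ctx B' y ε N) : ∀ {U' : Submodule K V'}, Frame B' y ε U' m → ∃ T, Iso B x B' y U U' T := by
  induction hF with
  | nil =>
    intro U' _
    refine ⟨0, fun u _ => by simp, fun u _ => by simp, fun u hu u' _ => ?_⟩
    rw [(Submodule.mem_bot K).mp hu]
    simp
  | @cons t W U m hW ho hF ih =>
    intro U' hF'
    obtain ⟨W', U₁', hW', ho', rfl, hF₁⟩ := hF'.extract h' rfl
    obtain ⟨Tw, hTw⟩ := hW.exists_iso hW' h h'
    obtain ⟨T₁, hT₁⟩ := ih hF₁
    obtain ⟨π, hπ1, hπ2, hπ3, hπ4⟩ := exists_proj h (hW.nd h) hW.inv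
    let T := Tw.comp π + T₁.comp (LinearMap.id - π)
    have key : ∀ a ∈ W, ∀ b ∈ U, T (a + b) = Tw a + T₁ b := fun a ha b hb => by
      have hb0 : π b = 0 := (hW.nd h).unique (hπ1 b) (zero_mem _) fun w hw => by
        rw [hπ3 b w hw, ho w hw b hb, map_zero]
      simp [T, hπ2 a ha, hb0]
    refine ⟨T, fun u hu => ?_, fun u hu => ?_, fun u hu u' hu' => ?_⟩
    · obtain ⟨a, ha, b, hb, rfl⟩ := Submodule.mem_sup.mp hu
      rw [key a ha b hb]
      exact Submodule.add_mem_sup (hTw.mapsTo a ha) (hT₁.mapsTo b hb)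
    · obtain ⟨a, ha, b, hb, rfl⟩ := Submodule.mem_sup.mp hu
      rw [map_add, key _ (hW.inv a ha) _ (hF.inv b hb), key a ha b hb, hTw.comm a ha, hT₁.comm b hb, map_add]
    · obtain ⟨a, ha, b, hb, rfl⟩ := Submodule.mem_sup.mp hu
      obtain ⟨a', ha', b', hb', rfl⟩ := Submodule.mem_sup.mp hu'
      rw [key a ha b hb, key a' ha' b' hb']
      simp only [map_add, LinearMap.add_apply]
      rw [hTw.pres a ha a' ha', hT₁.pres b hb b' hb', ho a ha b' hb', h.orth_symm ho b hb a' ha',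
        ho' _ (hTw.mapsTo a ha) _ (hT₁.mapsTo b' hb'),
        h'.orth_symm ho' _ (hT₁.mapsTo b hb) _ (hTw.mapsTo a' ha')]

theorem exists_equiv_of_frame {y₀ : Module.End K V} (h : Ctx B x ε N) (h' : Ctx B y₀ ε N)
    (hB : ∀ u, (∀ w, B w u = 0) → u = 0) {m : Multiset (Tag K)} (hx : Frame B x ε ⊤ m)
    (hy : Frame B y₀ ε ⊤ m) :
    ∃ T : V ≃ₗ[K] V, (∀ u, T (x u) = y₀ (T u)) ∧ ∀ u v, B (T u) (T v) = B u v := by
  obtain ⟨T, hT⟩ := hx.exists_iso h h' hy
  have hinj : Function.Injective T := by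
    rw [← LinearMap.ker_eq_bot, LinearMap.ker_eq_bot']
    intro u hu
    refine hB u fun w => ?_
    rw [← hT.pres w trivial u trivial, hu, map_zero]
  exact ⟨LinearEquiv.ofInjectiveEndo T hinj, fun u => hT.comm u trivial, fun u v => hT.pres u trivial v trivial⟩

end CfsgLib.IsometryClasses
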