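import Mathlib

/-!
The class number of a subgroup of index four complemented in index two by a central involution.
-/

set_option autoImplicit false

namespace CfsgLib.IsometryClasses

open Finset

universe u

variable {G : Type u} [Group G]

theorem comm_pairs_eq [Finite G] : Nat.card {p : G × G // Commute p.1 p.2} = Nat.card (ConjClasses G) * Nat.card G :=
  card_comm_eq_card_conjClasses_mul_card G

open Classical in
theorem carrier_mul_centralizer [Fintype G] (x : G) :
    (univ.filter fun y => ConjClasses.mk y = ConjClasses.mk x).card * (univ.filter fun y => Commute x y).card =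
      Fintype.card G := by
  have h := MulAction.card_orbit_mul_card_stabilizer_eq_card_group (ConjAct G) x
  rw [ConjAct.card] at h
  rw [← h]
  congr 1
  · rw [← Fintype.card_subtype]
    refine Fintype.card_congr (Equiv.subtypeEquivRight fun y => ?_)
    rw [ConjAct.mem_orbit_conjAct, ConjClasses.mk_eq_mk_iff_isConj]
  · rw [← Fintype.card_subtype]
    refine Fintype.card_congr (Equiv.subtypeEquiv ConjAct.toConjAct.toEquiv fun y => ?_)
    rw [MulAction.mem_stabilizer_iff, ConjAct.smul_def]
    show Commute x y ↔ y * x * y⁻¹ = x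
    rw [mul_inv_eq_iff_eq_mul]
    exact ⟨fun h => h.eq.symm, fun h => h.symm⟩

/-- A class whose centraliser lies in `Ω ∪ zΩ`. -/
def IsSplitClass (Ω : Subgroup G) (z : G) (C : ConjClasses G) : Prop :=
  ∃ x, ConjClasses.mk x = C ∧ ∀ y, Commute x y → y ∈ Ω ∨ z * y ∈ Ω

theorem four_card_classes [Finite G] (Ω : Subgroup G) {z : G} (hz : ∀ y, Commute z y) (hzz : z * z = 1)
    (hzΩ : z ∉ Ω) (hind : Ω.index = 4) :
    Nat.card (ConjClasses G) ≤ 4 * Nat.card (ConjClasses Ω) ∧
      4 * Nat.card (ConjClasses Ω) ≤ Nat.card (ConjClasses G) + 3 * Nat.card {C // IsSplitClass Ω z C} := by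
  classical
  cases nonempty_fintype G
  let H : Subgroup G :=
    { carrier := {g | g ∈ Ω ∨ z * g ∈ Ω}
      one_mem' := Or.inl (one_mem Ω)
      mul_mem' := by
        rintro a b (ha | ha) (hb | hb)
        · exact Or.inl (mul_mem ha hb)
        · exact Or.inr (by rw [← mul_assoc, (hz a).eq, mul_assoc]; exact mul_mem ha hb)
        · exact Or.inr (by rw [← mul_assoc]; exact mul_mem ha hb)
        · refine Or.inl ?_
          have := mul_mem ha hb
          rwa [mul_assoc, ← mul_assoc a z b, ← (hz a).eq, mul_assoc z a b, ← mul_assoc, hzz, one_mul] at this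
      inv_mem' := by
        rintro a (ha | ha)
        · exact Or.inl (inv_mem ha)
        · refine Or.inr ?_
          have := inv_mem ha
          rwa [mul_inv_rev, (inv_eq_of_mul_eq_one_right hzz : z⁻¹ = z), ← (hz a⁻¹).eq] at this }
  have hmem : ∀ g, g ∈ H ↔ g ∈ Ω ∨ z * g ∈ Ω := fun g => Iff.rfl
  have hex : ∀ a ∈ H, ∃! w : Ω × Bool, (w.1 : G) * (if w.2 then z else 1) = a := by
    intro a ha
    have huniq : ∀ w w' : Ω × Bool, (w.1 : G) * (if w.2 then z else 1) = (w'.1 : G) * (if w'.2 then z else 1) →
        w = w' := by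
      rintro ⟨u, i⟩ ⟨u', i'⟩ h
      have hno : ∀ v v' : Ω, (v : G) * z ≠ v' := fun v v' h => hzΩ (by
        rw [← inv_mul_cancel_left (v : G) z, h]
        exact mul_mem (inv_mem v.2) v'.2)
      cases i <;> cases i' <;>
        simp only [Bool.false_eq_true, if_false, if_true, mul_one] at h
      · exact Prod.ext (Subtype.ext h) rfl
      · exact absurd h.symm (hno _ _)
      · exact absurd h (hno _ _)
      · exact Prod.ext (Subtype.ext (mul_right_cancel h)) rfl
    rcases ha with ha | ha
    · exact ⟨(⟨a, ha⟩, false), by simp, fun w hw => huniq w _ (by rw [hw]; simp)⟩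
    · refine ⟨(⟨z * a, ha⟩, true), ?_, fun w hw => huniq w _ (by rw [hw]; simp [← (hz (z * a)).eq, ← mul_assoc, hzz])⟩
      simp [← (hz (z * a)).eq, ← mul_assoc, hzz]
  have hinH : ∀ w : Ω × Bool, (w.1 : G) * (if w.2 then z else 1) ∈ H := by
    rintro ⟨u, i⟩
    cases i
    · simp only [Bool.false_eq_true, if_false, mul_one]; exact Or.inl u.2
    · refine Or.inr ?_
      simp only [if_true]
      rw [← mul_assoc, (hz u).eq, mul_assoc, hzz, mul_one]
      exact u.2
  let e : Ω × Bool ≃ H := Equiv.ofBijective (fun w => ⟨_, hinH w⟩)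
    ⟨fun w w' h => (hex _ (hinH w)).unique rfl (congrArg Subtype.val h).symm,
      fun a => ⟨(hex a a.2).choose, Subtype.ext (hex a a.2).choose_spec.1⟩⟩
  have hcardH : Nat.card H = 2 * Nat.card Ω := by
    rw [← Nat.card_congr e, Nat.card_prod, Nat.card_eq_fintype_card (α := Bool), Fintype.card_bool, mul_comm]
  have hindH : H.index = 2 := by
    have h1 := H.card_mul_index
    rw [hcardH, ← Ω.card_mul_index, hind] at h1
    have : 0 < Nat.card Ω := Nat.card_pos
    nlinarith
  have hmm : ∀ {a b : G}, a * b ∈ H ↔ (a ∈ H ↔ b ∈ H) := fun {a b} => Subgroup.mul_mem_iff_of_index_two hindH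
  let P : Finset (G × G) := univ.filter fun p => Commute p.1 p.2
  let S : Bool → Bool → ℕ := fun a b => (P.filter fun p => decide (p.1 ∈ H) = a ∧ decide (p.2 ∈ H) = b).card
  have htot : Nat.card (ConjClasses G) * Nat.card G = S true true + S true false + S false true + S false false := by
    rw [← comm_pairs_eq, Nat.card_eq_fintype_card, Fintype.card_subtype,
      show (univ.filter fun p : G × G => Commute p.1 p.2) = P from rfl,
      card_eq_sum_card_fiberwise (f := fun p : G × G => (decide (p.1 ∈ H), decide (p.2 ∈ H))) (t := univ)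
        (fun _ _ => mem_univ _), Fintype.sum_prod_type]
    simp only [S, Fintype.sum_bool, Prod.mk.injEq]
    ring
  have hswap : ∀ a b, S a b = S b a := fun a b =>
    Finset.card_bij' (fun p _ => p.swap) (fun p _ => p.swap)
      (fun p hp => by
        simp only [P, mem_filter, mem_univ, true_and, Prod.fst_swap, Prod.snd_swap] at hp ⊢
        exact ⟨hp.1.symm, hp.2.2, hp.2.1⟩)
      (fun p hp => by
        simp only [P, mem_filter, mem_univ, true_and, Prod.fst_swap, Prod.snd_swap] at hp ⊢
        exact ⟨hp.1.symm, hp.2.2, hp.2.1⟩)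
      (fun p _ => p.swap_swap) (fun p _ => p.swap_swap)
  have hshear : S false true = S false false :=
    Finset.card_bij' (fun p _ => (p.1, p.1 * p.2)) (fun p _ => (p.1, p.1⁻¹ * p.2))
      (fun p hp => by
        simp only [P, mem_filter, mem_univ, true_and, decide_eq_true_eq, decide_eq_false_iff_not] at hp ⊢
        obtain ⟨h1, h2, h3⟩ := hp
        exact ⟨(Commute.refl _).mul_right h1, h2, fun h => h2 ((hmm.mp h).mpr h3)⟩)
      (fun p hp => by
        simp only [P, mem_filter, mem_univ, true_and, decide_eq_true_eq, decide_eq_false_iff_not] at hp ⊢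
        obtain ⟨h1, h2, h3⟩ := hp
        exact ⟨(Commute.refl _).inv_right.mul_right h1, h2, hmm.mpr (iff_of_false (fun h => h2 (inv_mem_iff.mp h)) h3)⟩)
      (fun p _ => by simp) (fun p _ => by simp)
  have hHH : S true true = 4 * (Nat.card (ConjClasses Ω) * Nat.card Ω) := by
    let f : {p : Ω × Ω // Commute p.1 p.2} × (Bool × Bool) →
        {p // p ∈ P.filter fun p => decide (p.1 ∈ H) = true ∧ decide (p.2 ∈ H) = true} := fun w =>
      ⟨((e (w.1.1.1, w.2.1)).1, (e (w.1.1.2, w.2.2)).1), by
        simp only [P, mem_filter, mem_univ, true_and, decide_eq_true_eq, SetLike.coe_mem, and_self, and_true]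
        have hc : Commute (w.1.1.1 : G) (w.1.1.2 : G) := congrArg Subtype.val w.1.2.eq
        have h1 : ∀ (i : Bool) (g : G), Commute (if i then z else 1) g := fun i g => by
          cases i
          · simp only [Bool.false_eq_true, if_false]; exact Commute.one_left g
          · simp only [if_true]; exact hz g
        exact ((hc.mul_right (h1 _ _).symm)).mul_left ((h1 _ _))⟩
    have hf : Function.Bijective f := by
      refine ⟨fun w w' h => ?_, fun p => ?_⟩
      · simp only [f, Subtype.mk.injEq, Prod.mk.injEq, SetLike.coe_eq_coe, e.apply_eq_iff_eq] at h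
        exact Prod.ext (Subtype.ext (Prod.ext h.1.1 h.2.1)) (Prod.ext h.1.2 h.2.2)
      · obtain ⟨⟨a, b⟩, hp⟩ := p
        simp only [P, mem_filter, mem_univ, true_and, decide_eq_true_eq] at hp
        obtain ⟨w, hw⟩ := e.surjective ⟨a, hp.2.1⟩
        obtain ⟨w', hw'⟩ := e.surjective ⟨b, hp.2.2⟩
        have ha : (w.1 : G) * (if w.2 then z else 1) = a := congrArg Subtype.val hw
        have hb : (w'.1 : G) * (if w'.2 then z else 1) = b := congrArg Subtype.val hw'
        have hk : ∀ (u : G) (i : Bool), u = u * (if i then z else 1) * (if i then z else 1) := fun u i => by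
          cases i <;> simp [mul_assoc, hzz]
        have hone : ∀ (i : Bool) (g : G), Commute (if i then z else 1) g := fun i g => by
          cases i
          · simp only [Bool.false_eq_true, if_false]; exact Commute.one_left g
          · simp only [if_true]; exact hz g
        have hc : Commute (w.1 : G) (w'.1 : G) := by
          rw [hk w.1 w.2, hk w'.1 w'.2, ha, hb]
          exact (hp.1.mul_right (hone _ _).symm).mul_left ((hone _ _))
        exact ⟨(⟨(w.1, w'.1), Subtype.ext hc.eq⟩, (w.2, w'.2)), Subtype.ext (Prod.ext ha hb)⟩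
    have h1 := Nat.card_congr (Equiv.ofBijective f hf)
    rw [Nat.card_prod, comm_pairs_eq, Nat.card_eq_fintype_card (α := Bool × Bool), Fintype.card_prod,
      Fintype.card_bool, Nat.card_eq_finsetCard] at h1
    show S true true = _
    simp only [S]
    rw [← h1]
    ring
  let cnt : Bool → G → ℕ := fun b x => (univ.filter fun y => Commute x y ∧ decide (y ∈ H) = b).card
  have hS : ∀ b, S true b = ∑ x ∈ univ.filter (fun x => x ∈ H), cnt b x := fun b => by
    rw [← card_sigma]
    refine card_bij' (fun p _ => ⟨p.1, p.2⟩) (fun s _ => (s.1, s.2)) ?_ ?_ (fun p _ => rfl) (fun s _ => rfl)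
    · intro p hp
      simp only [P, mem_filter, mem_univ, true_and, mem_sigma, decide_eq_true_eq] at hp ⊢
      exact ⟨hp.2.1, hp.1, hp.2.2⟩
    · intro s hs
      simp only [P, mem_filter, mem_univ, true_and, mem_sigma, decide_eq_true_eq] at hs ⊢
      exact ⟨hs.2.1, hs.1, hs.2.2⟩
  let X : Finset G := univ.filter fun x => ∀ y, Commute x y → y ∈ H
  have hle : ∀ x ∈ univ.filter (fun x => x ∈ H), cnt false x ≤ cnt true x ∧
      cnt true x ≤ cnt false x + if x ∈ X then (univ.filter fun y => Commute x y).card else 0 := by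
    intro x _
    by_cases hx : x ∈ X
    · rw [if_pos hx]
      have h0 : cnt false x = 0 := by
        simp only [cnt, card_eq_zero, filter_eq_empty_iff, decide_eq_false_iff_not, not_and, not_not]
        exact fun y _ hy => (mem_filter.mp hx).2 y hy
      refine ⟨by rw [h0]; exact Nat.zero_le _, le_add_left (card_le_card fun y hy => ?_)⟩
      simp only [mem_filter, mem_univ, true_and] at hy ⊢
      exact hy.1
    · rw [if_neg hx, add_zero]
      simp only [X, mem_filter, mem_univ, true_and, not_forall] at hx
      obtain ⟨y₀, hy₀, hy₀H⟩ := hx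
      constructor <;> refine card_le_card_of_injOn (fun y => y * y₀) ?_ ((mul_left_injective y₀).injOn)
      · intro y hy
        simp only [coe_filter, mem_univ, true_and, Set.mem_setOf_eq, decide_eq_true_eq, decide_eq_false_iff_not] at hy ⊢
        exact ⟨hy.1.mul_right hy₀, hmm.mpr (iff_of_false hy.2 hy₀H)⟩
      · intro y hy
        simp only [coe_filter, mem_univ, true_and, Set.mem_setOf_eq, decide_eq_true_eq, decide_eq_false_iff_not] at hy ⊢
        exact ⟨hy.1.mul_right hy₀, fun h => hy₀H ((hmm.mp h).mp hy.2)⟩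
  have hX : ∑ x ∈ X, (univ.filter fun y => Commute x y).card =
      Nat.card {C // IsSplitClass Ω z C} * Nat.card G := by
    rw [Nat.card_eq_fintype_card (α := G), Nat.card_eq_fintype_card, Fintype.card_subtype,
      ← sum_fiberwise_of_maps_to (g := ConjClasses.mk) (t := univ.filter fun C => IsSplitClass Ω z C)
        (fun x hx => mem_filter.mpr ⟨mem_univ _, x, rfl, fun y hy =>
          (hmem y).mp (((mem_filter (p := fun x => ∀ y, Commute x y → y ∈ H)).mp hx).2 y hy)⟩)]
    rw [sum_const_nat fun C hC => ?_]
    obtain ⟨x, rfl, hx⟩ := (mem_filter.mp hC).2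
    have hfib : X.filter (fun y => ConjClasses.mk y = ConjClasses.mk x) =
        univ.filter fun y => ConjClasses.mk y = ConjClasses.mk x := by
      refine ext fun y => ⟨fun h => mem_filter.mpr ⟨mem_univ _, (mem_filter.mp h).2⟩, fun h => ?_⟩
      have hy := (mem_filter.mp h).2
      refine mem_filter.mpr ⟨mem_filter.mpr ⟨mem_univ _, fun w hw => ?_⟩, hy⟩
      obtain ⟨c, hc⟩ := isConj_iff.mp (ConjClasses.mk_eq_mk_iff_isConj.mp hy)
      have h2 : Commute x (c * w * c⁻¹) := by
        rw [← hc]
        show c * y * c⁻¹ * (c * w * c⁻¹) = c * w * c⁻¹ * (c * y * c⁻¹)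
        calc c * y * c⁻¹ * (c * w * c⁻¹) = c * (y * w) * c⁻¹ := by group
          _ = c * (w * y) * c⁻¹ := by rw [hw.eq]
          _ = c * w * c⁻¹ * (c * y * c⁻¹) := by group
      have h3 : c * w * c⁻¹ ∈ H := hx _ h2
      haveI := Subgroup.normal_of_index_eq_two hindH
      have h4 := Subgroup.Normal.conj_mem inferInstance _ h3 c⁻¹
      simpa [mul_assoc] using h4
    rw [hfib]
    refine Eq.trans ?_ (carrier_mul_centralizer x)
    rw [sum_const_nat (m := (univ.filter fun y => Commute x y).card)]
    intro y hy
    have h0 := carrier_mul_centralizer (G := G) y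
    have h1 := carrier_mul_centralizer (G := G) x
    rw [(mem_filter.mp hy).2] at h0
    exact Nat.eq_of_mul_eq_mul_left (card_pos.mpr ⟨x, by simp⟩) (h0.trans h1.symm)
  have hup : S true true ≤ S true false + Nat.card {C // IsSplitClass Ω z C} * Nat.card G := by
    rw [hS, hS, ← hX]
    refine (sum_le_sum fun x hx => (hle x hx).2).trans ?_
    rw [sum_add_distrib, sum_ite_mem]
    gcongr
    exact inter_subset_right
  have hlo : S true false ≤ S true true := by
    rw [hS, hS]
    exact sum_le_sum fun x hx => (hle x hx).1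
  have hG : Nat.card G = 4 * Nat.card Ω := by
    rw [← Ω.card_mul_index, hind, mul_comm]
  rw [← hshear, hswap false true] at htot
  rw [hHH] at htot hup hlo
  rw [hG] at htot hup
  have hpos : 0 < 4 * Nat.card Ω := Nat.mul_pos (by norm_num) Nat.card_pos
  constructor
  · refine Nat.le_of_mul_le_mul_right ?_ hpos
    rw [htot]
    nlinarith
  · refine Nat.le_of_mul_le_mul_right ?_ hpos
    rw [add_mul, htot]
    nlinarith

end CfsgLib.IsometryClasses
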