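import Cfsg.Agent.Lib.IsometryClasses.Frames

/-!
A canonical multiset of labels is determined by the products of its polynomials and its false signs.
-/

set_option autoImplicit false
set_option linter.unusedSectionVars false

namespace CfsgLib.IsometryClasses

open Polynomial UniqueFactorizationMonoid

universe u

variable {K : Type u} [Field K] [Fintype K] {ε : K}

/-- The product of the polynomials of the labels of a given exponent. -/
noncomputable def lprod (m : Multiset (Tag K)) (e : ℕ) : K[X] :=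
  ((m.filter fun t => t.2.1 = e).map Prod.fst).prod

theorem lprod_cons (t : Tag K) (m : Multiset (Tag K)) (e : ℕ) :
    lprod (t ::ₘ m) e = (if t.2.1 = e then t.1 else 1) * lprod m e := by
  by_cases h : t.2.1 = e
  · rw [lprod, lprod, Multiset.filter_cons_of_pos (p := fun t : Tag K => t.2.1 = e) _ h, Multiset.map_cons, Multiset.prod_cons, if_pos h]
  · rw [lprod, lprod, Multiset.filter_cons_of_neg (p := fun t : Tag K => t.2.1 = e) _ h, if_neg h, one_mul]

theorem coeff_zero_mul_ne {p r : K[X]} (hp : p.coeff 0 ≠ 0) (hr : r.coeff 0 ≠ 0) : (p * r).coeff 0 ≠ 0 := by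
  rw [mul_coeff_zero]
  exact mul_ne_zero hp hr

theorem VTag.facts {t : Tag K} (h : VTag ε t) :
    t.1.Monic ∧ du t.1 = t.1 ∧ t.1.coeff 0 ≠ 0 ∧ 1 ≤ t.2.1 := by
  rcases h with ⟨p, e, s, hm, hi, h0, hsd, he, -, -, rfl⟩ | ⟨p, e, hm, hi, h0, he, -, rfl⟩
  · exact ⟨hm, hsd, h0, he⟩
  · obtain ⟨hm', -, h0', -⟩ := du_props ⟨hm, hi⟩ h0
    refine ⟨hm.mul hm', ?_, coeff_zero_mul_ne h0 h0', he⟩
    show du (p * du p) = p * du p
    rw [du, SUClassNumber.dualP_mul, ← du, SUClassNumber.dualP_dualP (fun _ => rfl) hm h0, mul_comm]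

theorem lprod_facts {m : Multiset (Tag K)} (hm : ∀ t ∈ m, VTag ε t) (e : ℕ) :
    (lprod m e).Monic ∧ du (lprod m e) = lprod m e ∧ (lprod m e).coeff 0 ≠ 0 := by
  induction m using Multiset.induction with
  | empty => exact ⟨by simp [lprod], by simp [lprod, SUClassNumber.dualP_one], by simp [lprod]⟩
  | cons t m ih =>
    obtain ⟨h1, h2, h3⟩ := ih fun s hs => hm s (Multiset.mem_cons_of_mem hs)
    obtain ⟨t1, t2, t3, -⟩ := (hm t (Multiset.mem_cons_self t m)).facts
    rw [lprod_cons]
    split_ifs with h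
    · exact ⟨t1.mul h1, by rw [du, SUClassNumber.dualP_mul, ← du, t2, ← du, h2], coeff_zero_mul_ne t3 h3⟩
    · simpa using ⟨h1, h2, h3⟩

theorem prime_pair {p p' : K[X]} (hp : p.Monic ∧ Irreducible p) (hp0 : p.coeff 0 ≠ 0)
    (hp' : p'.Monic ∧ Irreducible p') (h : p' * du p' = p * du p) : p' = p ∨ p' = du p := by
  obtain ⟨hm, hi, -, -⟩ := du_props hp hp0
  have h1 : p' ∣ p * du p := h ▸ dvd_mul_right p' _
  rcases hp'.2.prime.dvd_mul.mp h1 with h2 | h2
  · exact Or.inl (eq_of_monic_of_associated hp'.1 hp.1 (hp'.2.associated_of_dvd hp.2 h2))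
  · exact Or.inr (eq_of_monic_of_associated hp'.1 hm (hp'.2.associated_of_dvd hi h2))

open Classical in
/-- The multiplicity of an irreducible factor in the product. -/
theorem count_factor {m : Multiset (Tag K)} (hm : ∀ t ∈ m, VTag ε t) {p : K[X]} (hp : p.Monic ∧ Irreducible p)
    (hp0 : p.coeff 0 ≠ 0) (e : ℕ) :
    (normalizedFactors (lprod m e)).count p = m.count (p, e, some true) + m.count (p, e, some false) +
      (if p = du p then 2 else 1) * m.count (p * du p, e, none) := by
  induction m using Multiset.induction with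
  | empty => simp [lprod]
  | cons t m ih =>
    have hm' : ∀ s ∈ m, VTag ε s := fun s hs => hm s (Multiset.mem_cons_of_mem hs)
    rw [lprod_cons]
    by_cases he : t.2.1 = e
    swap
    · have hne : ∀ (P : K[X]) (s : Option Bool), (P, e, s) ≠ t := fun P s h => he (by rw [← h])
      rw [if_neg he, one_mul, ih hm', Multiset.count_cons_of_ne (hne _ _), Multiset.count_cons_of_ne (hne _ _),
        Multiset.count_cons_of_ne (hne _ _)]
    · have hirr : ∀ {r : K[X]}, r.Monic → Irreducible r → normalizedFactors r = {r} := fun hr hri => by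
        rw [normalizedFactors_irreducible hri, hr.normalize_eq_self]
      rw [if_pos he, normalizedFactors_mul (hm t (Multiset.mem_cons_self t m)).facts.1.ne_zero
        (lprod_facts hm' e).1.ne_zero, Multiset.count_add, ih hm']
      rcases hm t (Multiset.mem_cons_self t m) with
        ⟨p', e', s, hm1, hi1, -, -, -, -, -, rfl⟩ | ⟨p', e', hm1, hi1, h01, -, -, rfl⟩
      · simp only at he
        subst he
        rw [hirr hm1 hi1, Multiset.count_singleton, Multiset.count_cons_of_ne (a := (p * du p, e', none))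
          (by simp)]
        by_cases hpp : p = p'
        · subst hpp
          cases s <;> simp [Multiset.count_cons] <;> ring
        · rw [if_neg hpp, zero_add, Multiset.count_cons_of_ne (by simp [hpp]),
            Multiset.count_cons_of_ne (by simp [hpp])]
      · simp only at he
        subst he
        obtain ⟨hm2, hi2, -, -⟩ := du_props ⟨hm1, hi1⟩ h01
        rw [normalizedFactors_mul hm1.ne_zero hm2.ne_zero, hirr hm1 hi1, hirr hm2 hi2, Multiset.count_add,
          Multiset.count_singleton, Multiset.count_singleton, Multiset.count_cons_of_ne (a := (p, e', some true))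
          (by simp), Multiset.count_cons_of_ne (a := (p, e', some false)) (by simp)]
        by_cases hP : p' * du p' = p * du p
        · rw [hP, Multiset.count_cons_self]
          rcases prime_pair hp hp0 ⟨hm1, hi1⟩ hP with rfl | rfl
          · by_cases hs : p' = du p'
            · simp only [← hs, if_true]; ring
            · simp only [if_neg hs, if_true]; ring
          · rw [du_du hp.1 hp0]
            by_cases hs : p = du p
            · simp only [← hs, if_true]; ring
            · simp only [if_neg hs, if_true]; ring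
        · rw [Multiset.count_cons_of_ne (by simpa [eq_comm] using hP)]
          rw [if_neg (fun h => hP (by rw [h])), if_neg (fun h => hP (by rw [h, du_du hm1 h01, mul_comm]))]
          ring

theorem not_vtag_C_H (h2 : (2 : K) ≠ 0) {p : K[X]} (hp : p.Monic ∧ Irreducible p) (hp0 : p.coeff 0 ≠ 0) {e : ℕ}
    {s : Bool} (hC : VTag ε (p, e, some s)) (hH : VTag ε (p * du p, e, none)) : False := by
  rcases hC with ⟨p₁, e₁, s₁, -, -, -, hsd, -, -, hpar, ht⟩ | ⟨p₁, e₁, -, -, -, -, -, ht⟩
  swap
  · simp at ht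
  rcases hH with ⟨p₂, e₂, s₂, -, -, -, -, -, -, -, ht'⟩ | ⟨p₂, e₂, hm₂, hi₂, -, -, hshape, ht'⟩
  · simp at ht'
  simp only [Prod.mk.injEq, and_true] at ht ht'
  obtain ⟨rfl, rfl, -⟩ := ht
  obtain ⟨hP, rfl⟩ := ht'
  have : p₂ = p := by
    rcases prime_pair hp hp0 ⟨hm₂, hi₂⟩ hP.symm with h | h
    exacts [h, h.trans hsd]
  subst this
  rcases hshape with h | ⟨hpm, hpar'⟩
  · exact h hsd.symm
  · refine h2 ?_
    have := (hpar hpm).symm.trans hpar'
    linear_combination this

/-- The labels are recovered. -/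
theorem labels_ext (h2 : (2 : K) ≠ 0) {m m' : Multiset (Tag K)} (hm : ∀ t ∈ m, VTag ε t)
    (hm' : ∀ t ∈ m', VTag ε t) (hc : Canon m) (hc' : Canon m') (hprod : ∀ e, lprod m e = lprod m' e)
    (hfalse : ∀ p e, IsPM p → ((p, e, some false) ∈ m ↔ (p, e, some false) ∈ m')) : m = m' := by
  classical
  have hcount : ∀ {k : Multiset (Tag K)}, Canon k → ∀ {t : Tag K}, t.2.2 = some false →
      k.count t = if t ∈ k then 1 else 0 := by
    intro k hk t ht
    split_ifs with h
    · obtain ⟨k', rfl⟩ := Multiset.exists_cons_of_mem h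
      rw [Multiset.count_cons_self, Multiset.count_eq_zero.mpr (hk t k' ht rfl)]
    · exact Multiset.count_eq_zero.mpr h
  refine Multiset.ext.mpr fun t => ?_
  by_cases hv : VTag ε t
  swap
  · rw [Multiset.count_eq_zero.mpr fun h => hv (hm t h), Multiset.count_eq_zero.mpr fun h => hv (hm' t h)]
  rcases id hv with ⟨p, e, s, hpm, hpi, hp0, hsd, he, -, -, rfl⟩ | ⟨p, e, hpm, hpi, hp0, he, hshape, rfl⟩
  · have h1 := count_factor hm ⟨hpm, hpi⟩ hp0 e
    have h1' := count_factor hm' ⟨hpm, hpi⟩ hp0 e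
    have hz : ∀ {k : Multiset (Tag K)}, (∀ t ∈ k, VTag ε t) → k.count (p * du p, e, none) = 0 := fun hk =>
      Multiset.count_eq_zero.mpr fun h => not_vtag_C_H h2 ⟨hpm, hpi⟩ hp0 hv (hk _ h)
    rw [hz hm] at h1
    rw [hz hm', ← hprod e, h1] at h1'
    have hf : m.count (p, e, some false) = m'.count (p, e, some false) := by
      by_cases hp1 : IsPM p
      · rw [hcount hc rfl, hcount hc' rfl]
        simp only [hfalse p e hp1]
      · have hz' : ∀ {k : Multiset (Tag K)}, (∀ t ∈ k, VTag ε t) → k.count (p, e, some false) = 0 := fun hk =>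
          Multiset.count_eq_zero.mpr fun h => by
            rcases hk _ h with ⟨p₁, e₁, s₁, -, -, -, -, -, hs, -, ht⟩ | ⟨p₁, e₁, -, -, -, -, -, ht⟩
            · simp only [Prod.mk.injEq, Option.some.injEq] at ht
              obtain ⟨rfl, -, rfl⟩ := ht
              simpa using hs hp1
            · simp at ht
        rw [hz' hm, hz' hm']
    cases s
    · exact hf
    · omega
  · have h1 := count_factor hm ⟨hpm, hpi⟩ hp0 e
    have h1' := count_factor hm' ⟨hpm, hpi⟩ hp0 e
    have hz : ∀ {k : Multiset (Tag K)}, (∀ t ∈ k, VTag ε t) → ∀ s, k.count (p, e, some s) = 0 := fun hk s =>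
      Multiset.count_eq_zero.mpr fun h => not_vtag_C_H h2 ⟨hpm, hpi⟩ hp0 (hk _ h) hv
    rw [hz hm, hz hm] at h1
    rw [hz hm', hz hm', ← hprod e, h1] at h1'
    simp only [zero_add] at h1'
    exact Nat.eq_of_mul_eq_mul_left (by split_ifs <;> norm_num) h1'

theorem sd_parity (h2 : (2 : K) ≠ 0) {p : K[X]} (hp : p.Monic ∧ Irreducible p) (hp0 : p.coeff 0 ≠ 0)
    (hsd : du p = p) (hpm : ¬ IsPM p) : p.coeff 0 = 1 ∧ Even p.natDegree := by
  have key : ∀ a : K, a * a = 1 → (a = 1 ∨ a = -1) → p.coeff 0 * a ^ p.natDegree = 1 := by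
    intro a ha ha1
    letI : Invertible a := ⟨a, ha, ha⟩
    have h1 := eval₂_reverse_mul_pow (RingHom.id K) a p
    rw [← eval, ← eval, invOf_eq_right_inv ha] at h1
    have h3 : p.eval a = (p.coeff 0)⁻¹ * p.reverse.eval a := by
      conv_lhs => rw [← hsd]
      rw [du, SUClassNumber.dualP, eval_mul, eval_C, Polynomial.map_id, RingHom.id_apply]
    have hne : p.eval a ≠ 0 := fun h0 => hpm (by
      have := eq_of_monic_of_associated hp.1 (monic_X_sub_C a)
        (((irreducible_X_sub_C a).associated_of_dvd hp.2 (dvd_iff_isRoot.mpr h0)).symm)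
      rcases ha1 with rfl | rfl
      · exact Or.inl this
      · exact Or.inr this)
    have h4 : p.eval a * (p.coeff 0 * a ^ p.natDegree) = p.eval a * 1 := by
      rw [mul_one]
      nth_rewrite 1 [h3]
      rw [← mul_assoc, mul_comm (p.coeff 0)⁻¹, mul_assoc, mul_assoc, ← mul_assoc (p.coeff 0)⁻¹,
        inv_mul_cancel₀ hp0, one_mul]
      exact h1
    exact mul_left_cancel₀ hne h4
  have h1 := key 1 (one_mul 1) (Or.inl rfl)
  rw [one_pow, mul_one] at h1
  have h3 := key (-1) (by ring) (Or.inr rfl)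
  rw [h1, one_mul] at h3
  refine ⟨h1, ?_⟩
  by_contra hodd
  rw [Nat.not_even_iff_odd] at hodd
  rw [hodd.neg_one_pow] at h3
  exact h2 (by linear_combination -h3)

/-- Exponents without signs have palindromic products of even degree. -/
theorem lprod_even (h2 : (2 : K) ≠ 0) {m : Multiset (Tag K)} (hm : ∀ t ∈ m, VTag ε t) {e : ℕ}
    (he : ε * (-1) ^ (e - 1) = -1) : (lprod m e).coeff 0 = 1 ∧ Even (lprod m e).natDegree := by
  induction m using Multiset.induction with
  | empty => simp [lprod]
  | cons t m ih =>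
    have hm' : ∀ s ∈ m, VTag ε s := fun s hs => hm s (Multiset.mem_cons_of_mem hs)
    obtain ⟨h1, hd⟩ := ih hm'
    rw [lprod_cons]
    split_ifs with ht
    swap
    · simp [h1, hd]
    have hvt := hm t (Multiset.mem_cons_self t m)
    suffices h : t.1.coeff 0 = 1 ∧ Even t.1.natDegree by
      rw [mul_coeff_zero, h.1, h1, one_mul, natDegree_mul hvt.facts.1.ne_zero (lprod_facts hm' e).1.ne_zero]
      exact ⟨rfl, h.2.add hd⟩
    rcases hvt with ⟨p, e', s, hpm, hpi, hp0, hsd, -, -, hpar, rfl⟩ | ⟨p, e', hpm, hpi, hp0, -, -, rfl⟩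
    · simp only at ht
      subst ht
      refine sd_parity h2 ⟨hpm, hpi⟩ hp0 hsd fun h => h2 ?_
      have := (hpar h).symm.trans he
      linear_combination this
    · obtain ⟨hm1, -, -, hd1⟩ := du_props ⟨hpm, hpi⟩ hp0
      refine ⟨?_, ?_⟩
      · rw [mul_coeff_zero, du, SUClassNumber.coeff_zero_dualP hpm, RingHom.id_apply, mul_inv_cancel₀ hp0]
      · rw [natDegree_mul hpm.ne_zero hm1.ne_zero, hd1]
        exact ⟨_, rfl⟩

theorem dvd_lprod {m : Multiset (Tag K)} {p : K[X]} {e : ℕ} {s : Option Bool} (h : (p, e, s) ∈ m) :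
    p ∣ lprod m e :=
  Multiset.dvd_prod (Multiset.mem_map.mpr ⟨(p, e, s), Multiset.mem_filter.mpr ⟨h, rfl⟩, rfl⟩)

theorem vtag_false {p : K[X]} {e : ℕ} (h : VTag ε (p, e, some false)) : IsPM p ∧ ε * (-1) ^ (e - 1) = 1 := by
  rcases h with ⟨p', e', s, -, -, -, -, -, hs, hpar, ht⟩ | ⟨p', e', -, -, -, -, -, ht⟩
  · simp only [Prod.mk.injEq, Option.some.injEq] at ht
    obtain ⟨rfl, rfl, rfl⟩ := ht
    have hpm : IsPM p := by_contra fun hn => by simpa using hs hn
    exact ⟨hpm, hpar hpm⟩
  · simp at ht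

end CfsgLib.IsometryClasses
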