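import Cfsg.Agent.Lib.IsometryClasses.Frames
import Cfsg.Agent.Lib.FiniteForms.Quad

/-!
The layer forms of a unipotent isometry and the invariance of its labels.
-/

set_option autoImplicit false
set_option linter.unusedSectionVars false

namespace CfsgLib.IsometryClasses

open Polynomial

universe u v

variable {K : Type u} [Field K] [Fintype K] {V : Type v} [AddCommGroup V] [Module K V] [FiniteDimensional K V]
  {B : V →ₗ[K] V →ₗ[K] K} {x : Module.End K V} {ε : K} {N : ℕ}

/-- The layer form of level `e` at the eigenvalue one. -/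
noncomputable def lform (B : V →ₗ[K] V →ₗ[K] K) (x : Module.End K V) (e : ℕ) : V →ₗ[K] V →ₗ[K] K :=
  B.compl₂ (aeval x ((X - C (1 : K)) ^ (e - 1)))

theorem lform_apply (e : ℕ) (u w : V) : lform B x e u w = B u (act x ((X - C (1 : K)) ^ (e - 1)) w) := rfl

/-- A layer basis of a submodule. -/
def LayerBasis (B : V →ₗ[K] V →ₗ[K] K) (x : Module.End K V) (e : ℕ) (U : Submodule K V) (n : ℕ) (sq : Prop) :
    Prop :=
  ∃ (κ : Type) (_ : Fintype κ) (_ : DecidableEq κ) (v : κ → V), Fintype.card κ = n ∧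
    (∀ i, v i ∈ U ∧ act x ((X - C (1 : K)) ^ e) (v i) = 0) ∧
    (Matrix.of fun i j => lform B x e (v i) (v j)).det ≠ 0 ∧
    (IsSquare (Matrix.of fun i j => lform B x e (v i) (v j)).det ↔ sq) ∧
    ∀ u ∈ U, act x ((X - C (1 : K)) ^ e) u = 0 → ∃ c : κ → K, ∀ z ∈ U, act x ((X - C (1 : K)) ^ e) z = 0 →
      lform B x e z u = ∑ i, c i * lform B x e z (v i)

theorem isPM_one : IsPM (X - C (1 : K)) := Or.inl rfl

theorem rev_one_pow (h : Ctx B x ε N) (j : ℕ) :
    ∃ m : K[X], (X ^ N - 1 : K[X]) ∣ rev N ((X - C (1 : K)) ^ j) - m * (X - C (1 : K)) ^ j :=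
  rev_self_pow h.pos (by simp) (du_pm isPM_one) j

theorem lform_high (h : Ctx B x ε N) {e f : ℕ} (hef : e < f) {U : Submodule K V} {z u : V}
    (hz : act x ((X - C (1 : K)) ^ e) z = 0)
    (hu : ∃ u' ∈ U, u = act x ((X - C (1 : K)) ^ (f - e)) u') (he : 1 ≤ e) : lform B x e z u = 0 := by
  obtain ⟨u', -, rfl⟩ := hu
  rw [lform_apply, ← act_mul, ← pow_add, show e - 1 + (f - e) = f - 1 by omega]
  obtain ⟨m, hm⟩ := rev_one_pow h (f - 1)
  rw [h.adj', h.congr hm, act_mul, act_zero_of_dvd hz (pow_dvd_pow _ (by omega))]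
  simp [act]

theorem IsC.layer_other (h : Ctx B x ε N) {f : ℕ} {v : V} (hv : IsC B x (X - C (1 : K)) f v) {e : ℕ} (he : 1 ≤ e)
    (hne : f ≠ e) {z u : V} (hu : u ∈ LinearMap.range (orb x v)) (hkz : act x ((X - C (1 : K)) ^ e) z = 0)
    (hku : act x ((X - C (1 : K)) ^ e) u = 0) : lform B x e z u = 0 := by
  obtain ⟨a, rfl⟩ := hu
  rcases lt_or_gt_of_ne hne with h1 | h1
  · rw [lform_apply, orb_apply, act_mul_comm, act_zero_of_dvd hv.kill (pow_dvd_pow _ (by omega))]
    simp [act]
  · refine lform_high h h1 hkz (U := LinearMap.range (orb x v)) ?_ he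
    rw [orb_apply, ← act_mul, hv.zero_iff, show f = e + (f - e) by omega, pow_add] at hku
    obtain ⟨a', rfl⟩ := (mul_dvd_mul_iff_left (pow_ne_zero _ (X_sub_C_ne_zero (1 : K)))).mp hku
    exact ⟨act x a' v, ⟨a', rfl⟩, by rw [orb_apply, act_mul]⟩

theorem IsH.layer_other (h : Ctx B x ε N) {f : ℕ} {v w : V} (hv : IsH B x ε (X - C (1 : K)) f v w) {e : ℕ}
    (he : 1 ≤ e) (hne : f ≠ e) {z u : V}
    (hu : u ∈ LinearMap.range (orb x v) ⊔ LinearMap.range (orb x w))
    (hkz : act x ((X - C (1 : K)) ^ e) z = 0) (hku : act x ((X - C (1 : K)) ^ e) u = 0) :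
    lform B x e z u = 0 := by
  have hdu : du (X - C (1 : K)) = X - C 1 := du_pm isPM_one
  have hw := hv.swap h
  rw [hdu] at hw
  obtain ⟨-, ⟨a, rfl⟩, -, ⟨b, rfl⟩, rfl⟩ := Submodule.mem_sup.mp hu
  rcases lt_or_gt_of_ne hne with h1 | h1
  · rw [lform_apply, act, map_add, map_add, ← act, ← act, orb_apply, orb_apply, act_mul_comm, act_zero_of_dvd hv.kill_v
      (pow_dvd_pow _ (by omega)), act_mul_comm _ _ b, act_zero_of_dvd hw.kill_v (pow_dvd_pow _ (by omega))]
    simp [act]
  · rw [act, map_add, ← act, ← act, orb_apply, orb_apply, ← act_mul, ← act_mul] at hku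
    have h0 : act x ((X - C (1 : K)) ^ e * a) v = 0 ∧ act x ((X - C (1 : K)) ^ e * b) w = 0 := by
      set s := act x ((X - C (1 : K)) ^ e * a) v with hs
      have e1 : s = 0 := hv.pair_v h fun r => by
        have : s = -(act x ((X - C (1 : K)) ^ e * b) w) := eq_neg_of_add_eq_zero_left hku
        rw [← hs, this, map_neg, hw.iso_pair h, neg_zero]
      exact ⟨e1, by rwa [e1, zero_add] at hku⟩
    have hsplit : ∀ {c : K[X]}, (X - C (1 : K)) ^ f ∣ (X - C (1 : K)) ^ e * c →
        (X - C (1 : K)) ^ (f - e) ∣ c := fun {c} hc => by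
      rw [show f = e + (f - e) by omega, pow_add] at hc
      exact (mul_dvd_mul_iff_left (pow_ne_zero _ (X_sub_C_ne_zero (1 : K)))).mp hc
    obtain ⟨a', rfl⟩ := hsplit ((hv.zero_iff _).mp h0.1)
    obtain ⟨b', rfl⟩ := hsplit ((hw.zero_iff _).mp h0.2)
    refine lform_high h h1 hkz (U := ⊤) ⟨act x a' v + act x b' w, trivial, ?_⟩ he
    rw [orb_apply, orb_apply, act_mul, act_mul]
    simp [act]

theorem eval_sub_dvd (a : K[X]) (e : ℕ) (he : 1 ≤ e) :
    (X - C (1 : K)) ^ e ∣ (X - C (1 : K)) ^ (e - 1) * (a - C (a.eval 1)) := by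
  conv_lhs => rw [show e = e - 1 + 1 by omega, pow_add, pow_one]
  exact mul_dvd_mul_left _ X_sub_C_dvd_sub_C_eval

theorem IsC.layer_self {e : ℕ} {v : V} (hv : IsC B x (X - C (1 : K)) e v) (a : K[X]) (z : V) :
    lform B x e z (orb x v a) = a.eval 1 * lform B x e z v := by
  have h1 := act_zero_of_dvd hv.kill (eval_sub_dvd a e hv.he)
  rw [mul_sub, act_sub, sub_eq_zero] at h1
  rw [lform_apply, lform_apply, orb_apply, ← act_mul, h1, mul_comm, act_C_mul, map_smul, smul_eq_mul]

theorem lform_self_H {e : ℕ} {v : V} (he : 1 ≤ e) (hk : act x ((X - C (1 : K)) ^ e) v = 0) (a : K[X]) (z : V) :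
    lform B x e z (orb x v a) = a.eval 1 * lform B x e z v := by
  have h1 := act_zero_of_dvd hk (eval_sub_dvd a e he)
  rw [mul_sub, act_sub, sub_eq_zero] at h1
  rw [lform_apply, lform_apply, orb_apply, ← act_mul, h1, mul_comm, act_C_mul, map_smul, smul_eq_mul]

/-- The number of layer vectors of level `e` in a multiset of labels. -/
noncomputable def layerCount (m : Multiset (Tag K)) (e : ℕ) : ℕ :=
  open Classical in m.count (X - C 1, e, some true) + m.count (X - C 1, e, some false) +
    2 * m.count ((X - C 1) * (X - C 1), e, none)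

theorem Frame.layer (h : Ctx B x (-1) N) {U : Submodule K V} {m : Multiset (Tag K)} (hF : Frame B x (-1) U m)
    (hone : ∀ t ∈ m, t.1 = X - C 1 ∨ t.1 = (X - C 1) * (X - C 1)) {e : ℕ} (he : 1 ≤ e) (hcan : Canon m) :
    LayerBasis B x e U (layerCount m e) ((X - C 1, e, some false) ∉ m) := by
  classical
  induction hF with
  | nil =>
    refine ⟨PEmpty, inferInstance, inferInstance, PEmpty.elim, by simp [layerCount], fun i => i.elim,
      by simp, by simp, fun u hu _ => ⟨PEmpty.elim, fun z hz _ => ?_⟩⟩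
    rw [(Submodule.mem_bot K).mp hu]
    simp
  | @cons t W U₁ m₁ hW ho hF₁ ih =>
    have hcan₁ : Canon m₁ := fun s k hf hk hs => hcan s (t ::ₘ k) hf (by rw [hk, Multiset.cons_swap])
      (Multiset.mem_cons_of_mem hs)
    obtain ⟨κ, _, _, v₁, hcard, hmem, hdet, hsq, hspan⟩ := ih (fun s hs => hone s (Multiset.mem_cons_of_mem hs)) hcan₁
    have hWnd := hW.nd h
    have hU₁ := hF₁.inv
    have hWi := hW.inv
    have hdisj := inf_eq_bot hWnd ho
    have hsplit : ∀ u ∈ W ⊔ U₁, act x ((X - C (1 : K)) ^ e) u = 0 → ∃ a ∈ W, ∃ b ∈ U₁, u = a + b ∧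
        act x ((X - C (1 : K)) ^ e) a = 0 ∧ act x ((X - C (1 : K)) ^ e) b = 0 := by
      intro u hu hk
      obtain ⟨a, ha, b, hb, rfl⟩ := Submodule.mem_sup.mp hu
      refine ⟨a, ha, b, hb, rfl, ?_⟩
      rw [act, map_add, ← act, ← act] at hk
      have h1 : act x ((X - C (1 : K)) ^ e) a ∈ W ⊓ U₁ :=
        ⟨hWi.act_mem _ ha, by rw [eq_neg_of_add_eq_zero_left hk]; exact neg_mem (hU₁.act_mem _ hb)⟩
      rw [hdisj, Submodule.mem_bot] at h1
      exact ⟨h1, by rwa [h1, zero_add] at hk⟩
    have hlWU : ∀ a ∈ W, ∀ b ∈ U₁, lform B x e a b = 0 ∧ lform B x e b a = 0 := fun a ha b hb =>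
      ⟨ho a ha _ (hU₁.act_mem _ hb), h.orth_symm ho b hb _ (hWi.act_mem _ ha)⟩
    -- the contribution of the piece
    suffices piece : ∃ (μ : Type) (_ : Fintype μ) (_ : DecidableEq μ) (w : μ → V),
        (Fintype.card μ + layerCount m₁ e = layerCount (t ::ₘ m₁) e) ∧
        (∀ i, w i ∈ W ∧ act x ((X - C (1 : K)) ^ e) (w i) = 0) ∧
        (Matrix.of fun i j => lform B x e (w i) (w j)).det ≠ 0 ∧
        (IsSquare (Matrix.of fun i j => lform B x e (w i) (w j)).det ↔ t ≠ (X - C 1, e, some false)) ∧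
        ∀ u ∈ W, act x ((X - C (1 : K)) ^ e) u = 0 → ∃ c : μ → K, ∀ z ∈ W, act x ((X - C (1 : K)) ^ e) z = 0 →
          lform B x e z u = ∑ i, c i * lform B x e z (w i) by
      obtain ⟨μ, _, _, w, hc, hwm, hwdet, hwsq, hwspan⟩ := piece
      have hG : (Matrix.of fun i j => lform B x e (Sum.elim w v₁ i) (Sum.elim w v₁ j)) =
          Matrix.fromBlocks (Matrix.of fun i j => lform B x e (w i) (w j)) 0 0
            (Matrix.of fun i j => lform B x e (v₁ i) (v₁ j)) := by
        refine Matrix.ext fun i j => ?_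
        rcases i with i | i <;> rcases j with j | j
        · rfl
        · exact (hlWU _ (hwm i).1 _ (hmem j).1).1
        · exact (hlWU _ (hwm j).1 _ (hmem i).1).2
        · rfl
      refine ⟨μ ⊕ κ, inferInstance, inferInstance, Sum.elim w v₁, by rw [Fintype.card_sum, hcard, hc], ?_, ?_, ?_, ?_⟩
      · rintro (i | i)
        · exact ⟨Submodule.mem_sup_left (hwm i).1, (hwm i).2⟩
        · exact ⟨Submodule.mem_sup_right (hmem i).1, (hmem i).2⟩
      · rw [hG, Matrix.det_fromBlocks_zero₂₁]
        exact mul_ne_zero hwdet hdet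
      · rw [hG, Matrix.det_fromBlocks_zero₂₁, FiniteForms.isSquare_mul_iff hwdet hdet, hwsq, hsq]
        constructor
        · intro hiff hmem'
          rcases Multiset.mem_cons.mp hmem' with h' | h'
          · exact hcan t m₁ (by rw [← h']) rfl (by
              by_contra hno
              exact (hiff.mpr (by rw [← h'] at hno; exact hno)) h'.symm)
          · exact hiff.mp (fun h2 => hcan _ m₁ (by rw [h2]) rfl (h2 ▸ h')) h'
        · intro hno
          exact ⟨fun _ => fun h' => hno (Multiset.mem_cons_of_mem h'),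
            fun _ h' => hno (h' ▸ Multiset.mem_cons_self t m₁)⟩
      · intro u hu hk
        obtain ⟨a, ha, b, hb, rfl, hka, hkb⟩ := hsplit u hu hk
        obtain ⟨c, hc1⟩ := hwspan a ha hka
        obtain ⟨d, hd1⟩ := hspan b hb hkb
        refine ⟨Sum.elim c d, fun z hz hkz => ?_⟩
        obtain ⟨a', ha', b', hb', rfl, hka', hkb'⟩ := hsplit z hz hkz
        simp only [Fintype.sum_sum_type, Sum.elim_inl, Sum.elim_inr, map_add, LinearMap.add_apply]
        rw [(hlWU a' ha' b hb).1, (hlWU a ha b' hb').2, hc1 a' ha' hka', hd1 b' hb' hkb']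
        have z1 : ∀ i, lform B x e b' (w i) = 0 := fun i => (hlWU _ (hwm i).1 b' hb').2
        have z2 : ∀ i, lform B x e a' (v₁ i) = 0 := fun i => (hlWU a' ha' _ (hmem i).1).1
        simp [z1, z2]
    have hP : (X - C (1 : K)) * (X - C 1) ≠ X - C 1 := fun h' => by
      have := congrArg natDegree h'
      rw [natDegree_mul (X_sub_C_ne_zero _) (X_sub_C_ne_zero _), natDegree_X_sub_C] at this
      omega
    have hone' := hone t (Multiset.mem_cons_self _ _)
    rcases id hW with ⟨p, f, v, hv, rfl, rfl⟩ | ⟨p, f, v, w, hv, rfl, rfl⟩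
    · obtain rfl : p = X - C 1 := by
        rcases hone' with h' | h'
        · exact h'
        · exfalso
          have := congrArg natDegree (show p = (X - C 1) * (X - C 1) from h')
          rw [natDegree_mul (X_sub_C_ne_zero _) (X_sub_C_ne_zero _), natDegree_X_sub_C] at this
          have h'' : IsUnit (X - C (1 : K)) ∨ IsUnit (X - C (1 : K)) := hv.irr.isUnit_or_isUnit h'
          rcases h'' with h'' | h'' <;> exact not_isUnit_X_sub_C 1 h''
      by_cases hfe : f = e
      · subst hfe
        refine ⟨Unit, inferInstance, inferInstance, fun _ => v, ?_, fun _ => ⟨⟨1, by simp [orb_apply, act]⟩, hv.kill⟩,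
          ?_, ?_, fun u hu _ => ?_⟩
        · simp only [Fintype.card_unit, layerCount]
          cases sgn B x (X - C 1) f v <;> simp [Multiset.count_cons] <;> ring
        · rw [Matrix.det_unique, Matrix.of_apply, lform_apply]
          exact hv.gram_q isPM_one
        · rw [Matrix.det_unique, Matrix.of_apply, lform_apply, ← gram_apply, sgn, if_pos isPM_one]
          simp
        · obtain ⟨a, rfl⟩ := hu
          exact ⟨fun _ => a.eval 1, fun z _ _ => by simp [hv.layer_self]⟩
      · refine ⟨PEmpty, inferInstance, inferInstance, PEmpty.elim, ?_, fun i => i.elim, by simp, ?_, fun u hu hk =>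
          ⟨PEmpty.elim, fun z _ hkz => by simp [hv.layer_other h he hfe hu hkz hk]⟩⟩
        · simp [layerCount, Multiset.count_cons, hfe, Ne.symm hfe]
        · simp [hfe]
    · obtain rfl : p = X - C 1 := by
        have h' : p * du p = (X - C 1) * (X - C 1) := by
          rcases hone' with h' | h'
          · exfalso
            have h'' := congrArg natDegree (show p * du p = X - C 1 from h')
            rw [natDegree_mul hv.mon.ne_zero (du_props ⟨hv.mon, hv.irr⟩ hv.p0).1.ne_zero,
              (du_props ⟨hv.mon, hv.irr⟩ hv.p0).2.2.2, natDegree_X_sub_C] at h''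
            have := hv.irr.natDegree_pos
            omega
          · exact h'
        have h2 : p ∣ (X - C (1 : K)) * (X - C 1) := h' ▸ dvd_mul_right p _
        rcases hv.irr.prime.dvd_mul.mp h2 with h3 | h3 <;>
          exact eq_of_monic_of_associated hv.mon (monic_X_sub_C 1) (hv.irr.associated_of_dvd (irreducible_X_sub_C 1) h3)
      have hdu : du (X - C (1 : K)) = X - C 1 := du_pm isPM_one
      rw [hdu] at *
      by_cases hfe : f = e
      · subst hfe
        have hkw : act x ((X - C (1 : K)) ^ f) w = 0 := by simpa only [du_pm isPM_one] using hv.kill_w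
        have hq : gram B x w v ((X - C (1 : K)) ^ (f - 1)) ≠ 0 := by
          obtain ⟨r, hr⟩ := hv.top
          intro h0
          refine hr ?_
          have h1 := act_zero_of_dvd hv.kill_v (eval_sub_dvd r f hv.he)
          rw [mul_sub, act_sub, sub_eq_zero] at h1
          rw [gram_apply, mul_comm, h1, mul_comm, act_C_mul, map_smul, ← gram_apply, h0, smul_zero]
        have hpar : (-1 : K) * (-1) ^ (f - 1) = -1 := by
          rcases hv.shape with h' | ⟨-, h'⟩
          · exact absurd (du_pm isPM_one).symm h'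
          · exact h'
        have hvw : lform B x f v w = -lform B x f w v := by
          rw [lform_apply, lform_apply, h.swap, act_eq_of_dvd hv.kill_v (rev_pm h.pos isPM_one hv.he (hv.dvd h)),
            act_C_mul, map_smul, smul_eq_mul, ← mul_assoc, hpar, neg_one_mul]
        have hvv : lform B x f v v = 0 := by rw [lform_apply, ← gram_apply]; exact hv.iso_v _
        have hww : lform B x f w w = 0 := by rw [lform_apply, ← gram_apply]; exact hv.iso_w _
        have hl : lform B x f w v ≠ 0 := by rwa [lform_apply, ← gram_apply]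
        have hdet2 : (Matrix.of fun i j => lform B x f (![v, w] i) (![v, w] j)).det =
            lform B x f w v * lform B x f w v := by
          rw [Matrix.det_fin_two]
          simp [hvv, hww, hvw]
        refine ⟨Fin 2, inferInstance, inferInstance, ![v, w], ?_, ?_, ?_, ?_, fun u hu _ => ?_⟩
        · simp [layerCount, Multiset.count_cons, hP, Ne.symm hP]
          ring
        · intro i
          fin_cases i
          · exact ⟨Submodule.mem_sup_left ⟨1, by simp [orb_apply, act]⟩, hv.kill_v⟩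
          · exact ⟨Submodule.mem_sup_right ⟨1, by simp [orb_apply, act]⟩, hkw⟩
        · rw [hdet2]; exact mul_ne_zero hl hl
        · rw [hdet2]
          exact iff_of_true ⟨_, rfl⟩ (by simp)
        · obtain ⟨-, ⟨a, rfl⟩, -, ⟨b, rfl⟩, rfl⟩ := Submodule.mem_sup.mp hu
          exact ⟨![a.eval 1, b.eval 1], fun z _ _ => by
            simp [map_add, lform_self_H hv.he hv.kill_v, lform_self_H hv.he hkw]⟩
      · refine ⟨PEmpty, inferInstance, inferInstance, PEmpty.elim, ?_, fun i => i.elim, by simp, ?_, fun u hu hk =>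
          ⟨PEmpty.elim, fun z _ hkz => by simp [hv.layer_other h he hfe hu hkz hk]⟩⟩
        · simp [layerCount, Multiset.count_cons, hfe, Ne.symm hfe]
        · simp

/-- Two layer bases of the same form. -/
theorem LayerBasis.compare (h : Ctx B x (-1) N) {e : ℕ} {n n' : ℕ} {sq sq' : Prop}
    (h₁ : LayerBasis B x e ⊤ n sq) (h₂ : LayerBasis B x e ⊤ n' sq') : n = n' ∧ (sq ↔ sq') := by
  classical
  have key : ∀ {κ μ : Type} [Fintype κ] [DecidableEq κ] [Fintype μ] [DecidableEq μ] (v : κ → V) (w : μ → V),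
      (∀ i, act x ((X - C (1 : K)) ^ e) (v i) = 0) → (∀ i, act x ((X - C (1 : K)) ^ e) (w i) = 0) →
      (∀ u, act x ((X - C (1 : K)) ^ e) u = 0 → ∃ c : κ → K, ∀ z, act x ((X - C (1 : K)) ^ e) z = 0 →
        lform B x e z u = ∑ i, c i * lform B x e z (v i)) →
      ∃ C : Matrix κ μ K, (Matrix.of fun i j => lform B x e (w i) (w j)) =
        C.transpose * (Matrix.of fun i j => lform B x e (v i) (v j)) * C := by
    intro κ μ _ _ _ _ v w hv hw hspan
    choose c hc using fun j => hspan (w j) (hw j)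
    refine ⟨Matrix.of fun i j => c j i, Matrix.ext fun i j => ?_⟩
    have hsym : ∀ a b, act x ((X - C (1 : K)) ^ e) a = 0 → act x ((X - C (1 : K)) ^ e) b = 0 →
        lform B x e a b = (-1) * (-1) ^ (e - 1) * lform B x e b a := by
      intro a b ha hb
      rcases Nat.eq_zero_or_pos e with he | he
      · subst he
        simp only [pow_zero, act, map_one, Module.End.one_apply] at ha hb
        simp [ha, hb]
      by_cases hb0 : act x ((X - C (1 : K)) ^ (e - 1)) a = 0
      · have h1 : lform B x e b a = 0 := by rw [lform_apply, hb0, map_zero]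
        rw [h1, mul_zero, lform_apply, h.swap]
        obtain ⟨m, hm⟩ := rev_one_pow h (e - 1)
        rw [h.congr hm, act_mul, hb0]
        simp [act]
      · have hd := exact_dvd (irreducible_X_sub_C (1 : K)) ha hb0 (h.kill a)
        rw [lform_apply, h.swap, act_eq_of_dvd ha (rev_pm h.pos isPM_one he hd), act_C_mul, map_smul, smul_eq_mul,
          ← mul_assoc, ← lform_apply]
    rw [Matrix.of_apply, Matrix.mul_apply]
    simp only [Matrix.mul_apply, Matrix.transpose_apply, Matrix.of_apply, Finset.sum_mul]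
    rw [hc j (w i) (hw i)]
    refine Finset.sum_congr rfl fun l _ => ?_
    rw [hsym (w i) (v l) (hw i) (hv l), hc i (v l) (hv l), Finset.mul_sum, Finset.mul_sum]
    refine Finset.sum_congr rfl fun k _ => ?_
    have h2 : (-1 : K) * (-1) ^ (e - 1) * lform B x e (v l) (v k) = lform B x e (v k) (v l) :=
      (hsym (v k) (v l) (hv k) (hv l)).symm
    linear_combination c j l * c i k * h2
  obtain ⟨κ, _, _, v, hn, hv, hdv, hsv, hspv⟩ := h₁
  obtain ⟨μ, _, _, w, hn', hw, hdw, hsw, hspw⟩ := h₂
  obtain ⟨C₁, e1⟩ := key v w (fun i => (hv i).2) (fun i => (hw i).2)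
    (fun u hu => (hspv u trivial hu).imp fun c hc z hz => hc z trivial hz)
  obtain ⟨C₂, e2⟩ := key w v (fun i => (hw i).2) (fun i => (hv i).2)
    (fun u hu => (hspw u trivial hu).imp fun c hc z hz => hc z trivial hz)
  have rank_le : ∀ {κ μ : Type} [Fintype κ] [DecidableEq κ] [Fintype μ] [DecidableEq μ] (G : Matrix κ κ K)
      (H : Matrix μ μ K) (Cm : Matrix κ μ K), H.det ≠ 0 → H = Cm.transpose * G * Cm →
      Fintype.card μ ≤ Fintype.card κ := by
    intro κ μ _ _ _ _ G H Cm hH he
    rw [← Matrix.rank_of_isUnit H ((Matrix.isUnit_iff_isUnit_det H).mpr (isUnit_iff_ne_zero.mpr hH)), he]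
    exact (Matrix.rank_mul_le_right _ _).trans Cm.rank_le_card_height
  have hcc : Fintype.card κ = Fintype.card μ :=
    le_antisymm (rank_le _ _ C₂ hdv e2) (rank_le _ _ C₁ hdw e1)
  refine ⟨by rw [← hn, ← hn', hcc], ?_⟩
  rw [← hsv, ← hsw]
  let E := Fintype.equivOfCardEq hcc
  have e3 : ((Matrix.of fun i j => lform B x e (w i) (w j)).submatrix E E) =
      (C₁.submatrix id E).transpose * (Matrix.of fun i j => lform B x e (v i) (v j)) * C₁.submatrix id E := by
    rw [e1]
    rfl
  have e4 := congrArg Matrix.det e3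
  rw [Matrix.det_submatrix_equiv_self, Matrix.det_mul, Matrix.det_mul, Matrix.det_transpose] at e4
  rw [e4]
  have hC : (C₁.submatrix id E).det ≠ 0 := fun h0 => hdw (by rw [e4, h0]; ring)
  rw [show (C₁.submatrix id E).det * (Matrix.of fun i j => lform B x e (v i) (v j)).det * (C₁.submatrix id E).det =
    (C₁.submatrix id E).det * (C₁.submatrix id E).det * (Matrix.of fun i j => lform B x e (v i) (v j)).det by ring,
    FiniteForms.isSquare_sq_mul_iff hC]

end CfsgLib.IsometryClasses
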