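import Cfsg.Agent.Lib.IsometryClasses.Basic
import Cfsg.Agent.Lib.UnitaryConj.Norm

/-!
Symmetric functionals on cyclic modules and their congruence classes.
-/

set_option autoImplicit false
set_option linter.unusedSectionVars false

namespace CfsgLib.IsometryClasses

open Polynomial

universe u

variable {K : Type u} [Field K] {N : ℕ}

/-- A functional of a cyclic module which does not vanish on its socle. -/
structure Top (p : K[X]) (e : ℕ) (L : K[X] →ₗ[K] K) : Prop where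
  kill : ∀ r, p ^ e ∣ r → L r = 0
  top : ∃ r, L (r * p ^ (e - 1)) ≠ 0

theorem bezout_q {p : K[X]} (hp : Irreducible p) {e : ℕ} {u : K[X]} (h : ¬ p ^ e ∣ u) :
    ∃ a b : K[X], p ^ (e - 1) = a * u + b * p ^ e := by
  classical
  obtain ⟨i, hi, hassoc⟩ := (dvd_prime_pow hp.prime e).1 (EuclideanDomain.gcd_dvd_left (p ^ e) u)
  have hie : i ≠ e := fun h' => h (by
    rw [← h']
    exact hassoc.dvd'.trans (EuclideanDomain.gcd_dvd_right (p ^ e) u))
  obtain ⟨t, ht⟩ := hassoc.dvd.trans (pow_dvd_pow p (show i ≤ e - 1 by omega))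
  refine ⟨EuclideanDomain.gcdB (p ^ e) u * t, EuclideanDomain.gcdA (p ^ e) u * t, ?_⟩
  rw [ht, EuclideanDomain.gcd_eq_gcd_ab]
  ring

theorem Top.eq_of_dvd {p : K[X]} {e : ℕ} {L : K[X] →ₗ[K] K} (h : Top p e L) {r s : K[X]}
    (hrs : p ^ e ∣ r - s) : L r = L s := by
  have := h.kill _ hrs
  rwa [map_sub, sub_eq_zero] at this

theorem Top.nondeg {p : K[X]} (hp : Irreducible p) {e : ℕ} {L : K[X] →ₗ[K] K} (h : Top p e L) {u : K[X]}
    (hu : ∀ r, L (r * u) = 0) : p ^ e ∣ u := by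
  by_contra hne
  obtain ⟨a, b, hab⟩ := bezout_q hp hne
  obtain ⟨r, hr⟩ := h.top
  refine hr ?_
  rw [hab, mul_add, map_add, ← mul_assoc, hu, zero_add, h.kill _ ⟨r * b, by ring⟩]

theorem exists_rep {p : K[X]} (hp : p.Monic ∧ Irreducible p) {e : ℕ} {L₀ L : K[X] →ₗ[K] K}
    (h₀ : Top p e L₀) (hL : ∀ r, p ^ e ∣ r → L r = 0) : ∃ u, ∀ r, L r = L₀ (r * u) := by
  classical
  set f := p ^ e with hf
  have hfm : f.Monic := hp.1.pow e
  set d := f.natDegree
  let φ : degreeLT K d →ₗ[K] Module.Dual K (degreeLT K d) :=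
    LinearMap.mk₂ K (fun u r => L₀ (r.1 * u.1))
      (fun a b c => by simp [mul_add]) (fun k a c => by simp)
      (fun a b c => by simp [add_mul]) (fun k a c => by simp)
  have hmem : ∀ r : K[X], r %ₘ f ∈ degreeLT K d := fun r => by
    rw [mem_degreeLT, ← degree_eq_natDegree hfm.ne_zero]
    exact degree_modByMonic_lt r hfm
  have hdvd : ∀ r : K[X], f ∣ r - r %ₘ f := fun r =>
    ⟨r /ₘ f, by rw [sub_eq_iff_eq_add']; exact (modByMonic_add_div r f).symm⟩
  have hinj : Function.Injective φ := by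
    rw [← LinearMap.ker_eq_bot, LinearMap.ker_eq_bot']
    rintro ⟨u, hu⟩ h
    have h1 : f ∣ u := h₀.nondeg hp.2 fun r => by
      have h2 : L₀ (r %ₘ f * u) = 0 := LinearMap.congr_fun h ⟨_, hmem r⟩
      rwa [h₀.eq_of_dvd (r := r * u) (s := r %ₘ f * u) (by rw [← sub_mul]; exact dvd_mul_of_dvd_left (hdvd r) _)]
    refine Subtype.ext (eq_zero_of_dvd_of_degree_lt h1 ?_)
    rw [mem_degreeLT] at hu
    rwa [degree_eq_natDegree hfm.ne_zero]
  haveI : FiniteDimensional K (degreeLT K d) := Module.Finite.equiv (degreeLTEquiv K d).symm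
  obtain ⟨⟨u, hmu⟩, hu⟩ := (LinearMap.injective_iff_surjective_of_finrank_eq_finrank
    Subspace.dual_finrank_eq.symm).mp hinj (L.comp (degreeLT K d).subtype)
  refine ⟨u, fun r => ?_⟩
  have h2 : L₀ (r %ₘ f * u) = L (r %ₘ f) := LinearMap.congr_fun hu ⟨_, hmem r⟩
  have h3 := hL _ (hdvd r)
  rw [map_sub, sub_eq_zero] at h3
  rw [h₀.eq_of_dvd (r := r * u) (s := r %ₘ f * u) (by rw [← sub_mul]; exact dvd_mul_of_dvd_left (hdvd r) _),
    h2, h3]

/-- The adjoint is nontrivial away from one and minus one. -/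
theorem not_dvd_rev_X (hN : 0 < N) {p : K[X]} (hp : p.Monic ∧ Irreducible p) (hpm : ¬ IsPM p)
    (hdvd : p ∣ X ^ N - 1) : ¬ p ∣ rev N X - X := by
  intro h
  have hx : (X : K[X]) ^ (N - 1) * X = X ^ N := by rw [← pow_succ, Nat.sub_add_cancel hN]
  have h2 : p ∣ (X - C 1) * (X - C (-1)) := by
    rw [show ((X - C 1) * (X - C (-1)) : K[X]) = -(rev N X - X) * X + (X ^ N - 1) by
      rw [rev_X, C_neg, C_1]; linear_combination hx]
    exact dvd_add (dvd_mul_of_dvd_left (dvd_neg.mpr h) _) hdvd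
  rcases hp.2.prime.dvd_mul.mp h2 with h3 | h3
  · exact hpm (Or.inl (eq_of_monic_of_associated hp.1 (monic_X_sub_C _)
      (hp.2.associated_of_dvd (irreducible_X_sub_C _) h3)))
  · exact hpm (Or.inr (eq_of_monic_of_associated hp.1 (monic_X_sub_C _)
      (hp.2.associated_of_dvd (irreducible_X_sub_C _) h3)))

variable [Fintype K]

/-- Norms in the residue field. -/
theorem exists_norm_mod (hN : 0 < N) (h2 : (2 : K) ≠ 0) {p : K[X]} (hp : p.Monic ∧ Irreducible p)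
    (hsd : du p = p) (hpN : p ∣ X ^ N - 1) (hpm : ¬ IsPM p) {u : K[X]} (hsu : p ∣ rev N u - u) :
    ∃ c, p ∣ rev N c * c - u := by
  classical
  haveI := Fact.mk hp.2
  haveI : Module.Finite K (AdjoinRoot p) := hp.1.finite_adjoinRoot
  haveI : Finite (AdjoinRoot p) := Module.finite_of_finite K
  have hp0 := coeff_zero_ne_of_dvd hN hpN
  have hpN' : p ^ 1 ∣ X ^ N - 1 := by rwa [pow_one]
  have hcomp : ∀ r : K[X], r.eval₂ (AdjoinRoot.of p) (AdjoinRoot.mk p (X ^ (N - 1))) =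
      AdjoinRoot.mk p (rev N r) := fun r => by
    rw [rev, Polynomial.comp, hom_eval₂]
    rfl
  let σ : AdjoinRoot p →+* AdjoinRoot p := AdjoinRoot.lift (AdjoinRoot.of p) (AdjoinRoot.mk p (X ^ (N - 1)))
    (by rw [hcomp, AdjoinRoot.mk_eq_zero]; simpa using dvd_rev_self hN hp0 hsd hpN' (dvd_refl _))
  have hσ : ∀ r, σ (AdjoinRoot.mk p r) = AdjoinRoot.mk p (rev N r) := fun r => by
    rw [AdjoinRoot.lift_mk, hcomp]
  have hσ2 : ∀ z, σ (σ z) = z := fun z => by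
    obtain ⟨r, rfl⟩ := AdjoinRoot.mk_surjective z
    rw [hσ, hσ, AdjoinRoot.mk_eq_mk]
    exact hpN.trans (rev_rev hN r)
  set a := AdjoinRoot.mk p X with ha
  have hne : σ a ≠ a := by
    rw [ha, hσ, Ne, AdjoinRoot.mk_eq_mk]
    exact not_dvd_rev_X hN hp hpm hpN
  let R : Subring (AdjoinRoot p) := RingHom.eqLocus σ (RingHom.id _)
  haveI : IsReduced R := ⟨fun z hz => Subtype.ext (IsReduced.eq_zero (z : AdjoinRoot p) (hz.map R.subtype))⟩
  set w := a - σ a with hw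
  have hw0 : w ≠ 0 := sub_ne_zero.mpr (Ne.symm hne)
  have hσw : σ w = -w := by rw [hw, map_sub, hσ2, neg_sub]
  have hww : σ (w * w) = w * w := by rw [map_mul, hσw, neg_mul_neg]
  have h2' : (2 : AdjoinRoot p) ≠ 0 := by
    rw [← map_ofNat (algebraMap K (AdjoinRoot p)) 2]
    exact (_root_.map_ne_zero _).mpr h2
  have hu2 : IsUnit (2 : R) :=
    IsUnit.of_mul_eq_one ⟨(2 : AdjoinRoot p)⁻¹, show σ _ = _ by rw [map_inv₀, map_ofNat]; rfl⟩
      (Subtype.ext (mul_inv_cancel₀ h2'))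
  have huν : IsUnit (⟨w * w, hww⟩ : R) :=
    IsUnit.of_mul_eq_one ⟨(w * w)⁻¹, show σ _ = _ by rw [map_inv₀, hww]; rfl⟩
      (Subtype.ext (mul_inv_cancel₀ (mul_ne_zero hw0 hw0)))
  have hb : AdjoinRoot.mk p u ∈ R := by
    show σ (AdjoinRoot.mk p u) = AdjoinRoot.mk p u
    rw [hσ, AdjoinRoot.mk_eq_mk]
    exact hsu
  obtain ⟨y, z, hyz⟩ := UnitaryConj.quad hu2 huν ⟨_, hb⟩
  have hyz' : y.1 * y.1 - w * w * (z.1 * z.1) = AdjoinRoot.mk p u := congrArg Subtype.val hyz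
  obtain ⟨c, hc⟩ := AdjoinRoot.mk_surjective (y.1 + w * z.1)
  refine ⟨c, AdjoinRoot.mk_eq_mk.mp ?_⟩
  rw [map_mul, ← hσ, hc, map_add, map_mul, show σ y.1 = y.1 from y.2, show σ z.1 = z.1 from z.2, hσw]
  linear_combination hyz'

/-- Lifting a norm from the residue field. -/
theorem exists_norm_lift (hN : 0 < N) (h2 : (2 : K) ≠ 0) {p : K[X]} (hp : p.Monic ∧ Irreducible p)
    (hsd : du p = p) {e : ℕ} (he : 1 ≤ e) (hf : p ^ e ∣ X ^ N - 1) {u : K[X]} (hu : ¬ p ∣ u)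
    (hsu : p ^ e ∣ rev N u - u) {c₀ : K[X]} (hc₀ : p ∣ rev N c₀ * c₀ - u) :
    ∃ c, p ^ e ∣ rev N c * c - u := by
  classical
  have hp0 := coeff_zero_ne_of_dvd hN ((dvd_pow_self p (show e ≠ 0 by omega)).trans hf)
  set w := rev N c₀ * c₀ with hw
  have hpw : ¬ p ∣ w := fun h => hu ((dvd_iff_dvd_of_dvd_sub hc₀).mp h)
  have hrw : p ^ e ∣ rev N w - w := by
    refine hf.trans ?_
    rw [hw, rev_mul, mul_comm (rev N c₀) c₀, ← sub_mul]
    exact dvd_mul_of_dvd_left (rev_rev hN c₀) _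
  have hcop : IsCoprime (p ^ e) w := IsCoprime.pow_left ((Irreducible.coprime_iff_not_dvd hp.2).mpr hpw)
  obtain ⟨a, i, hai⟩ := id hcop
  have hi : p ^ e ∣ rev N i - i := by
    refine hcop.dvd_of_dvd_mul_left ?_
    have h1 : p ^ e ∣ rev N (i * w) - i * w := by
      have h0 : p ^ e ∣ rev N (a * p ^ e) - a * p ^ e :=
        dvd_sub (dvd_rev_self hN hp0 hsd hf (dvd_mul_left _ a)) (dvd_mul_left _ a)
      have h3 : rev N (a * p ^ e) + rev N (i * w) = 1 := by rw [← rev_add, hai, rev_one]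
      rw [show rev N (i * w) - i * w = -(rev N (a * p ^ e) - a * p ^ e) by linear_combination h3 - hai]
      exact dvd_neg.mpr h0
    rw [rev_mul] at h1
    have h4 := dvd_sub h1 (dvd_mul_of_dvd_right hrw (rev N i))
    convert h4 using 1
    ring
  set t := u * i with ht
  have ht1 : p ∣ t - 1 := by
    rw [show t - 1 = -((w - u) * i) - a * p ^ e by rw [ht]; linear_combination hai]
    exact dvd_sub (dvd_neg.mpr (dvd_mul_of_dvd_left hc₀ _)) (dvd_mul_of_dvd_right (dvd_pow_self p (by omega)) _)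
  have htr : p ^ e ∣ rev N t - t := by
    rw [ht, rev_mul, show rev N u * rev N i - u * i = (rev N u - u) * rev N i + u * (rev N i - i) by ring]
    exact dvd_add (dvd_mul_of_dvd_left hsu _) (dvd_mul_of_dvd_right hi _)
  obtain ⟨ch, hch⟩ := CharP.exists K
  haveI : Fact ch.Prime := ⟨CharP.char_is_prime K ch⟩
  haveI : ExpChar K[X] ch := ExpChar.prime (Fact.out (p := ch.Prime))
  have hodd : Odd ch := (Fact.out (p := ch.Prime)).odd_of_ne_two fun h => h2 (by
    subst h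
    exact CharP.cast_eq_zero K 2)
  set P := ch ^ e with hP
  have hPe : e ≤ P := (Nat.lt_pow_self (Fact.out (p := ch.Prime)).one_lt).le
  obtain ⟨j, hj⟩ : Odd P := hodd.pow
  set s := t ^ (j + 1) with hs
  have hs2 : p ^ e ∣ s * s - t := by
    have h1 : s * s - t = t * (t - 1) ^ P := by
      rw [hP, sub_pow_expChar_pow, ← hP, one_pow, hs, ← pow_add, mul_sub, mul_one, ← pow_succ',
        show j + 1 + (j + 1) = P + 1 by omega]
    rw [h1]
    exact dvd_mul_of_dvd_right ((pow_dvd_pow p hPe).trans (pow_dvd_pow_of_dvd ht1 P)) _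
  have hsr : p ^ e ∣ rev N s - s := by
    rw [hs, rev_pow]
    exact htr.trans (sub_dvd_pow_sub_pow _ _ _)
  refine ⟨c₀ * s, ?_⟩
  rw [rev_mul, show rev N c₀ * rev N s * (c₀ * s) - u =
    w * (rev N s - s) * s + w * (s * s - t) + -(u * a) * p ^ e by rw [hw, ht]; linear_combination u * hai]
  exact dvd_add (dvd_add (dvd_mul_of_dvd_left (dvd_mul_of_dvd_right hsr _) _) (dvd_mul_of_dvd_right hs2 _))
    (dvd_mul_left _ _)

/-- Two symmetric functionals with the same invariant are congruent. -/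
theorem exists_congr_gram (hN : 0 < N) (h2 : (2 : K) ≠ 0) {p : K[X]} (hp : p.Monic ∧ Irreducible p)
    (hsd : du p = p) {e : ℕ} (he : 1 ≤ e) (hf : p ^ e ∣ X ^ N - 1) {ε : K} {L₀ L₁ : K[X] →ₗ[K] K}
    (h₀ : Top p e L₀) (h₁ : Top p e L₁) (hs₀ : ∀ r, L₀ r = ε * L₀ (rev N r))
    (hs₁ : ∀ r, L₁ r = ε * L₁ (rev N r)) (hsq : IsPM p → IsSquare (L₁ (p ^ (e - 1)) / L₀ (p ^ (e - 1)))) :
    ∃ c, ∀ r, L₁ r = L₀ (r * (rev N c * c)) := by
  classical
  have hp0 := coeff_zero_ne_of_dvd hN ((dvd_pow_self p (show e ≠ 0 by omega)).trans hf)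
  obtain ⟨u, hu⟩ := exists_rep hp h₀ h₁.kill
  have hsu : p ^ e ∣ rev N u - u := by
    refine h₀.nondeg hp.2 fun r => ?_
    rw [mul_sub, map_sub, sub_eq_zero, ← hu, hs₀, rev_mul,
      h₀.eq_of_dvd (r := rev N r * rev N (rev N u)) (s := rev N r * u)
        (by rw [← mul_sub]; exact dvd_mul_of_dvd_right (hf.trans (rev_rev hN u)) _), ← hu, ← hs₁]
  have hpu : ¬ p ∣ u := by
    rintro ⟨t, rfl⟩
    obtain ⟨r, hr⟩ := h₁.top
    refine hr ?_
    rw [hu]
    refine h₀.kill _ ⟨r * t, ?_⟩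
    obtain ⟨k, rfl⟩ : ∃ k, e = k + 1 := ⟨e - 1, by omega⟩
    rw [Nat.add_sub_cancel, pow_succ]
    ring
  obtain ⟨c₀, hc₀⟩ : ∃ c₀, p ∣ rev N c₀ * c₀ - u := by
    by_cases hpm : IsPM p
    · obtain ⟨a, ha, rfl⟩ := hpm.exists_eq
      set q := (X - C a) ^ (e - 1) with hq
      have hq1 : ∀ r, (X - C a) ^ e ∣ r * q - C (r.eval a) * q := fun r => by
        rw [← sub_mul, show e = 1 + (e - 1) by omega, pow_add, pow_one, hq]
        exact mul_dvd_mul_right (X_sub_C_dvd_sub_C_eval) _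
      have h3 : L₁ q = u.eval a * L₀ q := by
        rw [hu, mul_comm, h₀.eq_of_dvd (hq1 u), ← smul_eq_C_mul, map_smul, smul_eq_mul]
      have h4 : L₀ q ≠ 0 := by
        obtain ⟨r, hr⟩ := h₀.top
        intro h0
        refine hr ?_
        rw [← hq, h₀.eq_of_dvd (hq1 r), ← smul_eq_C_mul, map_smul, h0, smul_zero]
      obtain ⟨b, hb⟩ := hsq hpm
      rw [h3, mul_div_assoc, div_self h4, mul_one] at hb
      refine ⟨C b, ?_⟩
      rw [rev_C, ← C_mul, ← hb, ← neg_sub u, dvd_neg]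
      exact X_sub_C_dvd_sub_C_eval
    · exact exists_norm_mod hN h2 hp hsd ((dvd_pow_self p (by omega)).trans hf) hpm
        ((dvd_pow_self p (show e ≠ 0 by omega)).trans hsu)
  obtain ⟨c, hc⟩ := exists_norm_lift hN h2 hp hsd he hf hpu hsu hc₀
  refine ⟨c, fun r => ?_⟩
  rw [hu]
  refine h₀.eq_of_dvd ?_
  rw [← mul_sub]
  exact dvd_mul_of_dvd_right (dvd_sub_comm.mp hc) _

end CfsgLib.IsometryClasses
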