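import Cfsg.Agent.Lib.IsometryClasses.OmegaSplit

/-!
Bounds for the class number of the derived orthogonal group in odd dimension.
-/

set_option autoImplicit false
set_option linter.unusedSectionVars false

namespace CfsgLib.IsometryClasses

open Polynomial Matrix QuadraticMap

universe u

variable {K : Type u} [Field K] [Fintype K] {ι : Type} [Fintype ι] [DecidableEq ι]

theorem oLead_false_odd (x : ℚ) : ∀ j, (oLead false x j).2 = 0 := by
  intro j
  induction j with
  | zero => simp [oLead, odN]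
  | succ j ih => simp [oLead, odN, ih]

/-- The count of the invariants in odd dimension. -/
theorem oCount_odd_le (q : ℕ) (hq : 3 ≤ q) (n : ℕ) (hn : 2 ≤ n) :
    ((oCount q true n (2 * n + 1) + oCount q false n (2 * n + 1) : ℕ) : ℚ) ≤ 293 / 10 * (q : ℚ) ^ n := by
  have hx : (q : ℚ)⁻¹ ≤ 1 / 3 := by
    rw [one_div]; exact inv_anti₀ (by norm_num) (by exact_mod_cast hq)
  obtain ⟨i, rfl⟩ : ∃ i, n = 2 + i := ⟨n - 2, by omega⟩
  have h1 := (oCount_le_lead q (by omega) true (2 + i) (2 + i)).2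
  have h0 := (oCount_le_lead q (by omega) false (2 + i) (2 + i)).2
  rw [oLead_false_odd, zero_mul] at h0
  have hb : (oLead true ((q : ℚ)⁻¹) (2 + i)).2 ≤ 293 / 10 := by
    refine ((oLead_mono true (by positivity) hx (by norm_num) (2 + i)).2.trans (oLead_true_inv i).2).trans ?_
    have : (0 : ℚ) ≤ 36 * (1 / 3 : ℚ) ^ (2 + i) := by positivity
    linarith
  push_cast
  have := mul_le_mul_of_nonneg_right hb (show (0 : ℚ) ≤ (q : ℚ) ^ (2 + i) by positivity)
  linarith

/-- A self-dual polynomial splits off its roots at one and minus one in pairs. -/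
theorem sd1_decomp (h2 : (2 : K) ≠ 0) {n : ℕ} (f : SD1 K n) : ∃ (i j c : ℕ) (h : SDR K c),
    f.1.1 = (X - C 1) ^ i * (X - C (-1)) ^ j * h.1.1.1 ∧ i + j + 2 * c = 2 * n := by
  obtain ⟨⟨f, hmon, hdeg, hdu, h0⟩, h1⟩ := f
  obtain ⟨g, hg, hg1⟩ := f.exists_eq_pow_rootMultiplicity_mul_and_not_dvd hmon.ne_zero 1
  have hg0 : g ≠ 0 := fun hz => hmon.ne_zero (by rw [hg, hz, mul_zero])
  obtain ⟨h, hh, hh1⟩ := g.exists_eq_pow_rootMultiplicity_mul_and_not_dvd hg0 (-1)
  set i := f.rootMultiplicity 1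
  set j := g.rootMultiplicity (-1)
  have hfe : f = (X - C 1) ^ i * (X - C (-1)) ^ j * h := by rw [hg, hh, mul_assoc]
  have hpm : ((X - C (1 : K)) ^ i * (X - C (-1)) ^ j).Monic :=
    ((monic_X_sub_C 1).pow i).mul ((monic_X_sub_C (-1)).pow j)
  have hhm : h.Monic := hpm.of_mul_monic_left (hfe ▸ hmon)
  have hpow : ∀ (a : K) (k : ℕ), IsPM (X - C a) → du ((X - C a) ^ k) = (X - C a) ^ k := fun a k ha => by
    induction k with
    | zero => rw [pow_zero, du, SUClassNumber.dualP_one]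
    | succ k ih => rw [pow_succ, du, SUClassNumber.dualP_mul]; exact congrArg₂ (· * ·) ih (du_pm ha)
  have hhdu : du h = h := by
    have e := hdu
    rw [hfe, du, SUClassNumber.dualP_mul, SUClassNumber.dualP_mul] at e
    refine mul_left_cancel₀ hpm.ne_zero ?_
    refine Eq.trans ?_ e
    exact congrArg (· * _) (congrArg₂ (· * ·) (hpow 1 i (Or.inl rfl)).symm (hpow (-1) j (Or.inr rfl)).symm)
  have hh0 : h.coeff 0 ≠ 0 := fun hz => h0 (by rw [hfe, mul_coeff_zero, hz, mul_zero])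
  have hn1 : ¬ h.IsRoot 1 := fun hr => hg1 (by rw [hh]; exact (dvd_iff_isRoot.mpr hr).mul_left _)
  have hn2 : ¬ h.IsRoot (-1) := fun hr => hh1 (dvd_iff_isRoot.mpr hr)
  obtain ⟨hc1, c, hc⟩ := pal_of_noroot h2 hh0 hhdu hn1 hn2
  refine ⟨i, j, c, ⟨⟨⟨h, hhm, by rw [hc]; ring, hhdu, hh0⟩, hc1⟩, hn1, hn2⟩, hfe, ?_⟩
  have hd : f.natDegree = i + j + h.natDegree := by
    rw [hfe, hpm.natDegree_mul hhm, ((monic_X_sub_C 1).pow i).natDegree_mul ((monic_X_sub_C (-1)).pow j),
      natDegree_pow, natDegree_pow, natDegree_X_sub_C, natDegree_X_sub_C, mul_one, mul_one]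
  omega

/-- Many characteristic polynomials occur in odd dimension. -/
theorem le_og_classes_odd (h2 : (2 : K) ≠ 0) (G : Matrix ι ι K) (hG : G.IsSymm) (hG0 : G.det ≠ 0) {n : ℕ} (hn : 1 ≤ n)
    (hcard : Fintype.card ι = 2 * n + 1) : 2 * Fintype.card K ^ n ≤ Nat.card (ConjClasses ↥(OG G)) := by
  classical
  haveI : Finite (Matrix ι ι K) := inferInstanceAs (Finite (ι → ι → K))
  haveI : Finite (Matrix.GeneralLinearGroup ι K) := Finite.of_injective _ Units.val_injective
  haveI : Finite ↥(OG G) := Subtype.finite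
  let S := {f : K[X] // ∃ g : ↥(OG G), g.1.1.charpoly = f}
  let χ : ConjClasses ↥(OG G) → S := Quotient.lift (fun g => (⟨g.1.1.charpoly, g, rfl⟩ : S)) (fun a b hab => by
    obtain ⟨c, hc⟩ := isConj_iff.mp hab
    refine Subtype.ext ?_
    show a.1.1.charpoly = b.1.1.charpoly
    rw [← hc]
    show _ = (c.1.1 * a.1.1 * (c.1⁻¹).1).charpoly
    rw [Matrix.coe_units_inv, Matrix.charpoly_units_conj])
  have hχ : Function.Surjective χ := fun ⟨f, g, hg⟩ => ⟨ConjClasses.mk g, Subtype.ext hg⟩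
  haveI : Finite S := Finite.of_surjective χ hχ
  have hS : Nat.card S ≤ Nat.card (ConjClasses ↥(OG G)) := Nat.card_le_card_of_surjective χ hχ
  let σ : Bool → K := fun b => if b then 1 else -1
  have hσ : ∀ b, σ b * σ b = 1 := fun b => by cases b <;> simp [σ]
  have hex : ∀ (b : Bool) (z : (Fin (n - 1) → K) × K), ∃ g : ↥(OG G),
      g.1.1.charpoly = pal n z * (X - C (σ b)) := by
    intro b z
    obtain ⟨a1, a2, a3, a4⟩ := pal_facts hn z
    obtain ⟨i, j, c, h, hf, hsum⟩ := sd1_decomp h2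
      (⟨⟨pal n z, a1, a2, du_of_reverse a3 a4, by rw [a3]; exact one_ne_zero⟩, a3⟩ : SD1 K n)
    have hrev : h.1.1.1.reverse = h.1.1.1 := by
      have := h.1.1.2.2.2.1
      rw [du, SUClassNumber.dualP, RingHom.id_apply, h.1.2, inv_one, C_1, one_mul, Polynomial.map_id] at this
      exact this
    obtain ⟨J, A, hJ, hJ0, hJA, hchar, -⟩ := exists_cyclic_isometry h.1.1.2.1 h.1.1.2.2.1 h.1.2 hrev h.2.1 h.2.2
    set w := J.det * G.det
    have hw : w ≠ 0 := mul_ne_zero hJ0 hG0
    let ev : (Fin i ⊕ Fin j) ⊕ Unit → K := Sum.elim (Sum.elim (fun _ => 1) (fun _ => -1)) (fun _ => σ b)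
    let dg : (Fin i ⊕ Fin j) ⊕ Unit → K := Sum.elim (fun _ => 1) (fun _ => w)
    have hA' : (Matrix.fromBlocks A 0 0 (Matrix.diagonal ev)).charpoly = pal n z * (X - C (σ b)) := by
      rw [Matrix.charpoly_fromBlocks_zero₁₂, hchar, Matrix.charpoly_diagonal,
        show pal n z = (X - C (1 : K)) ^ i * (X - C (-1)) ^ j * h.1.1.1 from hf]
      simp only [Fintype.prod_sum_type, ev, Sum.elim_inl, Sum.elim_inr, Finset.prod_const, Finset.card_univ,
        Fintype.card_fin, Fintype.card_unit, pow_one]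
      ring
    rw [← hA']
    refine exists_og_charpoly h2 hG hG0 (J := Matrix.fromBlocks J 0 0 (Matrix.diagonal dg)) ?_
      (Matrix.IsSymm.fromBlocks hJ (by simp) (Matrix.isSymm_diagonal dg)) ?_ ?_ ?_
    · simp [hcard]; omega
    · rw [Matrix.det_fromBlocks_zero₂₁, Matrix.det_diagonal]
      refine mul_ne_zero hJ0 (Finset.prod_ne_zero_iff.mpr fun k _ => ?_)
      rcases k with k | k
      exacts [one_ne_zero, hw]
    · rw [Matrix.fromBlocks_transpose, Matrix.fromBlocks_multiply, Matrix.fromBlocks_multiply]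
      simp only [Matrix.transpose_zero, Matrix.diagonal_transpose, Matrix.zero_mul, Matrix.mul_zero, add_zero,
        zero_add, hJA, Matrix.diagonal_mul_diagonal]
      congr 2
      funext k
      rcases k with (k | k) | k
      · simp [ev, dg]
      · simp [ev, dg]
      · show σ b * w * σ b = w
        linear_combination w * hσ b
    · refine ⟨w, ?_⟩
      rw [Matrix.det_fromBlocks_zero₂₁, Matrix.det_diagonal]
      simp only [dg, Fintype.prod_sum_type, Sum.elim_inl, Sum.elim_inr, Finset.prod_const_one, Finset.univ_unique,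
        Finset.prod_singleton, one_mul]
      ring
  let Ψ : Bool × ((Fin (n - 1) → K) × K) → S := fun w => ⟨_, hex w.1 w.2⟩
  have hΨ : Function.Injective Ψ := by
    rintro ⟨b, z⟩ ⟨b', z'⟩ h
    have h' : pal n z * (X - C (σ b)) = pal n z' * (X - C (σ b')) := congrArg Subtype.val h
    have hc := congrArg (fun f : K[X] => f.coeff 0) h'
    simp only [mul_coeff_zero, (pal_facts hn z).2.2.1, (pal_facts hn z').2.2.1, coeff_sub, coeff_X_zero, coeff_C_zero,
      zero_sub, one_mul, neg_inj] at hc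
    have hbb : b = b' := by
      have h11 : (1 : K) ≠ -1 := fun h => h2 (by linear_combination h)
      cases b <;> cases b' <;> simp [σ, h11, h11.symm] at hc ⊢
    subst hbb
    exact Prod.ext rfl (pal_injective hn (mul_right_cancel₀ (X_sub_C_ne_zero _) h'))
  have h1 := Nat.card_le_card_of_injective Ψ hΨ
  rw [Nat.card_prod, Nat.card_prod, Nat.card_fun, Nat.card_eq_fintype_card (α := K), Nat.card_fin,
    Nat.card_eq_fintype_card (α := Bool), Fintype.card_bool, ← pow_succ, Nat.sub_add_cancel hn] at h1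
  exact h1.trans hS

theorem negOne_not_mem (h2 : (2 : K) ≠ 0) {Q : QuadraticForm K (ι → K)} (hodd : Odd (Fintype.card ι)) :
    negOne Q ∉ Cfsg.Omega K ⇑Q := fun h => by
  let d : Cfsg.isometryGroup K ⇑Q →* Kˣ := Matrix.GeneralLinearGroup.det.comp (Cfsg.isometryGroup K ⇑Q).subtype
  have h1 : d (negOne Q) = 1 := MonoidHom.mem_ker.mp (Abelianization.commutator_subset_ker d h)
  have h2' : (-1 : Matrix ι ι K).det = 1 := congrArg Units.val h1
  rw [Matrix.det_neg, Matrix.det_one, mul_one, hodd.neg_one_pow] at h2'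
  exact h2 (by linear_combination -h2')

/-- The bounds for the class number of the derived group. -/
theorem omega_odd_bounds (h2 : (2 : K) ≠ 0) (Q : QuadraticForm K (ι → K)) (hQ : (polarBilin Q).Nondegenerate) {n : ℕ}
    (hn : 2 ≤ n) (hcard : Fintype.card ι = 2 * n + 1) (hq : 3 ≤ Fintype.card K) :
    Fintype.card K ^ n ≤ 2 * Nat.card (ConjClasses ↥(Cfsg.Omega K ⇑Q)) ∧
      10 * Nat.card (ConjClasses ↥(Cfsg.Omega K ⇑Q)) ≤ 73 * Fintype.card K ^ n := by
  classical
  haveI : Finite (Matrix ι ι K) := inferInstanceAs (Finite (ι → ι → K))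
  haveI : Finite (Matrix.GeneralLinearGroup ι K) := Finite.of_injective _ Units.val_injective
  haveI : Finite ↥(Cfsg.isometryGroup K ⇑Q) := Subtype.finite
  set G := LinearMap.toMatrix₂' K (polarBilin Q) with hGdef
  have hBG : ∀ u v, polar Q u v = u ⬝ᵥ G *ᵥ v := fun u v => by
    rw [← polarBilin_apply_apply, ← Matrix.toLinearMap₂'_apply', hGdef, Matrix.toLinearMap₂'_toMatrix']
  have hG : G.IsSymm := Matrix.IsSymm.ext fun i j => by
    rw [hGdef, LinearMap.toMatrix₂'_apply, LinearMap.toMatrix₂'_apply, polarBilin_apply_apply,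
      polarBilin_apply_apply, polar_comm]
  have hG0 : G.det ≠ 0 := fun h0 => by
    obtain ⟨u, hu, hu'⟩ := Matrix.exists_mulVec_eq_zero_iff.mpr h0
    exact hu (hQ.2 u fun w => by rw [polarBilin_apply_apply, hBG, hu', dotProduct_zero])
  have hOG : Cfsg.isometryGroup K ⇑Q = OG G := by
    have hkey : ∀ (g : Matrix ι ι K) (u v : ι → K), (g *ᵥ u) ⬝ᵥ (G *ᵥ (g *ᵥ v)) = u ⬝ᵥ ((gᵀ * G * g) *ᵥ v) :=
      fun g u v => by
        rw [← Matrix.vecMul_transpose, ← Matrix.dotProduct_mulVec, Matrix.mulVec_mulVec, Matrix.mulVec_mulVec]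
    refine Subgroup.ext fun g => ⟨fun hg => ?_, fun hg => ?_⟩
    · have hg' : ∀ v, Q (g.1 *ᵥ v) = Q v := fun v => hg v v
      refine Matrix.ext fun i j => ?_
      have h : (g.1 *ᵥ Pi.single i 1) ⬝ᵥ (G *ᵥ (g.1 *ᵥ Pi.single j 1)) = Pi.single i 1 ⬝ᵥ (G *ᵥ Pi.single j 1) := by
        rw [← hBG, ← hBG, polar, polar, ← Matrix.mulVec_add, hg', hg', hg']
      rw [hkey] at h
      simpa [Matrix.mulVec_single_one] using h
    · intro u _
      show Q (g.1 *ᵥ u) = Q u
      have h1 : polar Q (g.1 *ᵥ u) (g.1 *ᵥ u) = polar Q u u := by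
        rw [hBG, hBG, hkey, show g.1ᵀ * G * g.1 = G from hg]
      rw [polar_self, polar_self, nsmul_eq_mul, nsmul_eq_mul] at h1
      exact mul_left_cancel₀ h2 (by exact_mod_cast h1)
  have hk : Nat.card (ConjClasses ↥(Cfsg.isometryGroup K ⇑Q)) = Nat.card (ConjClasses ↥(OG G)) := by rw [hOG]
  obtain ⟨hlo, hhi⟩ := four_card_classes (Cfsg.Omega K ⇑Q) negOne_comm negOne_mul_self
    (negOne_not_mem h2 ⟨n, hcard⟩) (CfsgLib.SpinorMatrix.omega_index Q h2 (by omega) hQ)
  rw [hk] at hlo hhi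
  refine ⟨?_, ?_⟩
  · have := le_og_classes_odd h2 G hG hG0 (by omega) hcard
    omega
  · have hO : (2 : ℚ) * (Nat.card (ConjClasses ↥(OG G)) : ℚ) ≤ 293 / 10 * (Fintype.card K : ℚ) ^ n :=
      le_trans (by exact_mod_cast og_classes_le_gen h2 G hG hG0 le_rfl hcard) (oCount_odd_le _ hq n hn)
    have hs : (Nat.card {C // IsSplitClass (Cfsg.Omega K ⇑Q) (negOne Q) C} : ℚ) ≤
        121 / 25 * (Fintype.card K : ℚ) ^ n := by
      refine le_trans (Nat.cast_le.mpr (card_split_le hQ h2 hcard hn)) ?_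
      obtain ⟨i, hi⟩ : ∃ i, n = i + 1 := ⟨n - 1, by omega⟩
      have := (tCount_le hq i n).2
      rw [← hi] at this
      refine this.trans (mul_le_mul_of_nonneg_right ?_ (by positivity))
      have : (0 : ℚ) ≤ 16 / 5 * (1 / 3 : ℚ) ^ n := by positivity
      linarith
    have h4 : (4 : ℚ) * (Nat.card (ConjClasses ↥(Cfsg.Omega K ⇑Q)) : ℚ) ≤
        (Nat.card (ConjClasses ↥(OG G)) : ℚ) +
          3 * (Nat.card {C // IsSplitClass (Cfsg.Omega K ⇑Q) (negOne Q) C} : ℚ) := by exact_mod_cast hhi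
    have hpos : (0 : ℚ) ≤ (Fintype.card K : ℚ) ^ n := by positivity
    have : ((10 * Nat.card (ConjClasses ↥(Cfsg.Omega K ⇑Q)) : ℕ) : ℚ) ≤ ((73 * Fintype.card K ^ n : ℕ) : ℚ) := by
      push_cast
      linarith
    exact_mod_cast this

end CfsgLib.IsometryClasses
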