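import Cfsg.Agent.Lib.IsometryClasses.PalCount

/-!
The count of the invariants of split classes of an orthogonal group of odd dimension.
-/

set_option autoImplicit false
set_option linter.unusedSectionVars false

namespace CfsgLib.IsometryClasses

open Polynomial Finset

universe u

/-- Admissible data at an exponent. -/
def OkT {K : Type u} [Field K] (e : ℕ) (f : K[X]) : Prop :=
  (f.Monic ∧ du f = f ∧ f.coeff 0 ≠ 0) ∧ (Even e → f.coeff 0 = 1 ∧ Even f.natDegree) ∧
    (Odd e → ¬ (X - C 1) ^ 2 ∣ f ∧ ¬ (X - C (-1)) ^ 2 ∣ f)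

/-- The invariants of dimension `M` with exponents at most `2j+1`. -/
def TData (K : Type u) [Field K] (j M : ℕ) : Type u :=
  {f : ℕ → K[X] // (∀ e, OkT e (f e)) ∧ (∀ e, (e = 0 ∨ 2 * j + 1 < e) → f e = 1) ∧
    ∑ e ∈ Icc 1 (2 * j + 1), e * (f e).natDegree = M}

/-- The recursive bound. -/
def tCount (q : ℕ) : ℕ → ℕ → ℕ
  | 0, M => ropt q M
  | j + 1, M => ∑ D ∈ range (M + 1), ∑ m ∈ range (M + 1),
      if 4 * (j + 1) * D + (2 * j + 3) * m ≤ M then
        q ^ D * ropt q m * tCount q j (M - (4 * (j + 1) * D + (2 * j + 3) * m)) else 0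

variable {K : Type u} [Field K] [Fintype K]

theorem OkT.one (e : ℕ) : OkT e (1 : K[X]) :=
  ⟨⟨monic_one, SUClassNumber.dualP_one, by simp⟩, fun _ => by simp, fun _ =>
    ⟨fun h => not_isUnit_X_sub_C (1 : K) (isUnit_of_dvd_one ((dvd_pow_self _ two_ne_zero).trans h)),
      fun h => not_isUnit_X_sub_C (-1 : K) (isUnit_of_dvd_one ((dvd_pow_self _ two_ne_zero).trans h))⟩⟩

theorem TData.bound (h2 : (2 : K) ≠ 0) : ∀ j M,
    Finite (TData K j M) ∧ Nat.card (TData K j M) ≤ tCount (Fintype.card K) j M := by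
  intro j
  induction j with
  | zero =>
    intro M
    obtain ⟨_, hO⟩ := SDS.bound (K := K) h2 M
    let Φ : TData K 0 M → SDS K M := fun f =>
      ⟨f.1 1, ⟨(f.2.1 1).1.1, by simpa using f.2.2.2, (f.2.1 1).1.2.1, (f.2.1 1).1.2.2⟩, (f.2.1 1).2.2 odd_one⟩
    have hΦ : Function.Injective Φ := fun f f' h => by
      refine Subtype.ext (funext fun e => ?_)
      by_cases he : e = 1
      · subst he; exact congrArg (fun z : SDS K M => z.1) h
      · rw [f.2.2.1 e (by omega), f'.2.2.1 e (by omega)]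
    exact ⟨Finite.of_injective Φ hΦ, (Nat.card_le_card_of_injective Φ hΦ).trans hO⟩
  | succ j ih =>
    intro M
    classical
    have hodd : Odd (2 * j + 3) := ⟨j + 1, by ring⟩
    have heven : Even (2 * j + 2) := ⟨j + 1, by ring⟩
    have hsum : ∀ f : TData K (j + 1) M, ∑ e ∈ Icc 1 (2 * j + 1), e * (f.1 e).natDegree +
        4 * (j + 1) * ((f.1 (2 * j + 2)).natDegree / 2) + (2 * j + 3) * (f.1 (2 * j + 3)).natDegree = M := by
      intro f
      have h : ∑ e ∈ Icc 1 (2 * j + 1 + 1 + 1), e * (f.1 e).natDegree = M := f.2.2.2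
      rw [Finset.sum_Icc_succ_top (by omega),
        Finset.sum_Icc_succ_top (by omega), show 2 * j + 1 + 1 + 1 = 2 * j + 3 by ring,
        show 2 * j + 1 + 1 = 2 * j + 2 by ring] at h
      obtain ⟨k, hk⟩ := ((f.2.1 _).2.1 heven).2
      rw [hk] at h
      rw [hk, show (k + k) / 2 = k by omega]
      rw [show 4 * (j + 1) * k = (2 * j + 2) * (k + k) by ring]
      exact h
    let key : TData K (j + 1) M → Fin (M + 1) × Fin (M + 1) := fun f =>
      (⟨(f.1 (2 * j + 2)).natDegree / 2, by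
          have := hsum f
          have := Nat.le_mul_of_pos_left ((f.1 (2 * j + 2)).natDegree / 2) (show 0 < 4 * (j + 1) by omega)
          omega⟩,
        ⟨(f.1 (2 * j + 3)).natDegree, by
          have := hsum f
          have := Nat.le_mul_of_pos_left (f.1 (2 * j + 3)).natDegree (show 0 < 2 * j + 3 by omega)
          omega⟩)
    have hfib : ∀ z, Finite {f // key f = z} ∧ Nat.card {f // key f = z} ≤
        if 4 * (j + 1) * (z.1 : ℕ) + (2 * j + 3) * (z.2 : ℕ) ≤ M then
          Fintype.card K ^ (z.1 : ℕ) * ropt (Fintype.card K) z.2 *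
            tCount (Fintype.card K) j (M - (4 * (j + 1) * (z.1 : ℕ) + (2 * j + 3) * (z.2 : ℕ)))
        else 0 := by
      rintro ⟨⟨D, hD⟩, ⟨m, hm⟩⟩
      have hkey : ∀ f : {f // key f = (⟨D, hD⟩, ⟨m, hm⟩)},
          (f.1.1 (2 * j + 2)).natDegree / 2 = D ∧ (f.1.1 (2 * j + 3)).natDegree = m := fun f =>
        ⟨congrArg (fun z => (z.1 : ℕ)) f.2, congrArg (fun z => (z.2 : ℕ)) f.2⟩
      simp only
      split_ifs with hle
      swap
      · haveI : IsEmpty {f // key f = (⟨D, hD⟩, ⟨m, hm⟩)} := ⟨fun f => hle (by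
          obtain ⟨h1, h1'⟩ := hkey f
          have := hsum f.1
          rw [h1, h1'] at this
          omega)⟩
        exact ⟨inferInstance, (Nat.card_of_isEmpty (α := {f // key f = (⟨D, hD⟩, ⟨m, hm⟩)})).le⟩
      set M' := M - (4 * (j + 1) * D + (2 * j + 3) * m) with hM'
      obtain ⟨_, hS⟩ := ih M'
      obtain ⟨_, hA⟩ := SD1.bound (K := K) D
      obtain ⟨_, hB⟩ := SDS.bound (K := K) h2 m
      let Φ : {f // key f = (⟨D, hD⟩, ⟨m, hm⟩)} → (SD1 K D × SDS K m) × TData K j M' := fun f =>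
        ((⟨⟨f.1.1 (2 * j + 2), (f.1.2.1 _).1.1, by
            obtain ⟨k, hk⟩ := ((f.1.2.1 (2 * j + 2)).2.1 heven).2
            have := (hkey f).1
            omega, (f.1.2.1 _).1.2.1, (f.1.2.1 _).1.2.2⟩, ((f.1.2.1 _).2.1 heven).1⟩,
          ⟨f.1.1 (2 * j + 3), ⟨(f.1.2.1 _).1.1, (hkey f).2, (f.1.2.1 _).1.2.1, (f.1.2.1 _).1.2.2⟩,
            (f.1.2.1 _).2.2 hodd⟩),
        ⟨fun e => if e ≤ 2 * j + 1 then f.1.1 e else 1,
          fun e => by
            show OkT e (if e ≤ 2 * j + 1 then f.1.1 e else 1)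
            split_ifs
            · exact f.1.2.1 e
            · exact OkT.one e,
          fun e he => by
            show (if e ≤ 2 * j + 1 then f.1.1 e else 1) = _
            split_ifs with h
            · exact f.1.2.2.1 e (by omega)
            · rfl,
          by
            have := hsum f.1
            rw [(hkey f).1, (hkey f).2] at this
            rw [Finset.sum_congr rfl (g := fun e => e * (f.1.1 e).natDegree) fun e he => by
              simp only [Finset.mem_Icc] at he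
              simp only [if_pos he.2]]
            omega⟩)
      have hΦ : Function.Injective Φ := by
        intro f f' h
        have h1 : (Φ f).1.1 = (Φ f').1.1 := congrArg (fun z => z.1.1) h
        have h2' : (Φ f).1.2 = (Φ f').1.2 := congrArg (fun z => z.1.2) h
        have h3 : (Φ f).2 = (Φ f').2 := congrArg (fun z => z.2) h
        refine Subtype.ext (Subtype.ext (funext fun e => ?_))
        by_cases e1 : e ≤ 2 * j + 1
        · have := congrFun (congrArg Subtype.val h3) e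
          simpa [Φ, e1] using this
        · by_cases e2 : e = 2 * j + 2
          · subst e2
            exact congrArg (fun z : SD1 K D => z.1.1) h1
          · by_cases e3 : e = 2 * j + 3
            · subst e3
              exact congrArg (fun z : SDS K m => z.1) h2'
            · rw [f.1.2.2.1 e (by omega), f'.1.2.2.1 e (by omega)]
      refine ⟨Finite.of_injective Φ hΦ, (Nat.card_le_card_of_injective Φ hΦ).trans ?_⟩
      rw [Nat.card_prod, Nat.card_prod]
      exact Nat.mul_le_mul (Nat.mul_le_mul hA hB) hS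
    haveI := fun z => (hfib z).1
    have hfin : Finite (TData K (j + 1) M) := Finite.of_equiv _ (Equiv.sigmaFiberEquiv key)
    refine ⟨hfin, ?_⟩
    rw [← Nat.card_congr (Equiv.sigmaFiberEquiv key), Nat.card_sigma]
    refine (Finset.sum_le_sum fun z _ => (hfib z).2).trans (le_of_eq ?_)
    rw [Fintype.sum_prod_type, tCount]
    rw [← Fin.sum_univ_eq_sum_range]
    refine Finset.sum_congr rfl fun D _ => ?_
    rw [← Fin.sum_univ_eq_sum_range]

/-! ### The numerical bound -/

variable {q : ℕ}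

theorem n0_le (hq : 3 ≤ q) (i : ℕ) : (n0 q i : ℚ) ≤ (q : ℚ) ^ i := by
  rcases i with _ | _ | k
  · simp [n0]
  · simp only [n0, zero_add, pow_one]
    exact_mod_cast Nat.sub_le q 2
  · simp only [n0]
    have h : q ^ k * (q - 1) ^ 2 ≤ q ^ (k + 2) := by
      rw [pow_add]; gcongr; omega
    exact_mod_cast h

theorem ropt_le (hq : 3 ≤ q) (i : ℕ) :
    (ropt q (2 * i) : ℚ) ≤ (q : ℚ) ^ i ∧ (ropt q (2 * i + 1) : ℚ) ≤ 2 * (q : ℚ) ^ i := by
  constructor
  swap
  · rw [ropt, if_neg (Nat.not_even_two_mul_add_one i), show (2 * i + 1) / 2 = i by omega]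
    push_cast
    exact mul_le_mul_of_nonneg_left (n0_le hq i) (by norm_num)
  rw [ropt, if_pos (even_two_mul i), show 2 * i / 2 = i by omega]
  rcases i with _ | _ | k
  · simp [n0]
  · simp [n0, show 1 ≤ q by omega, show 2 ≤ q by omega]
    linarith
  · rw [if_neg (by omega), show k + 2 - 1 = k + 1 by omega]
    have h : n0 q (k + 2) + n0 q (k + 1) ≤ q ^ (k + 2) := by
      obtain ⟨r, rfl⟩ : ∃ r, q = r + 3 := ⟨q - 3, by omega⟩
      rcases k with _ | k
      · simp only [n0, show r + 3 - 1 = r + 2 by omega, show r + 3 - 2 = r + 1 by omega, pow_zero, one_mul, zero_add]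
        nlinarith
      · simp only [n0, show r + 3 - 1 = r + 2 by omega]
        rw [show (r + 3) ^ (k + 1 + 2) = (r + 3) ^ k * (r + 3) ^ 3 by ring, pow_succ]
        have : (r + 3) ^ k * ((r + 3) * (r + 2) ^ 2 + (r + 2) ^ 2) ≤ (r + 3) ^ k * (r + 3) ^ 3 :=
          Nat.mul_le_mul_left _ (by nlinarith)
        nlinarith
    exact_mod_cast h

theorem ropt_three (i : ℕ) :
    (ropt 3 (2 * i) : ℚ) ≤ 2 / 3 * (3 : ℚ) ^ i + (if i = 0 then 1 / 3 else 0) ∧
      (ropt 3 (2 * i + 1) : ℚ) ≤ 8 / 9 * (3 : ℚ) ^ i + (if i = 0 then 10 / 9 else 0) := by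
  rw [ropt, if_pos (even_two_mul i), ropt, if_neg (Nat.not_even_two_mul_add_one i), show 2 * i / 2 = i by omega,
    show (2 * i + 1) / 2 = i by omega]
  rcases i with _ | _ | _ | k
  · norm_num [n0]
  · norm_num [n0]
  · norm_num [n0]
  · rw [if_neg (show k + 1 + 1 + 1 ≠ 0 by omega), show k + 1 + 1 + 1 - 1 = k + 2 by omega,
      show k + 1 + 1 + 1 = (k + 1) + 2 by omega, if_neg (by omega : ¬ 2 * (k + 1 + 2) = 0)]
    simp only [n0]
    push_cast
    have : (0 : ℚ) ≤ 3 ^ k := by positivity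
    constructor <;> (simp only [pow_add, pow_one, if_false, add_eq_zero, one_ne_zero, and_false, false_and]; norm_num; linarith)

theorem geom_le {w : ℚ} (h0 : 0 ≤ w) (h1 : w < 1) (n : ℕ) : ∑ i ∈ range n, w ^ i ≤ 1 / (1 - w) := by
  rw [le_div_iff₀ (by linarith), geom_sum_mul_neg]
  have : 0 ≤ w ^ n := by positivity
  linarith

/-- One step: the contributions of two consecutive exponents over a base bound. -/
theorem step_le (hq : 3 ≤ q) (j M : ℕ) (F : ℕ → ℚ) (U V : ℚ) (n : ℕ) {y : ℚ} (hy : (q : ℚ)⁻¹ ≤ y) (hy1 : y < 1)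
    (hM : M ≤ 2 * n + 1) (hU : 0 ≤ U) (hV : 0 ≤ V)
    (hF : ∀ k, 0 ≤ F k)
    (hev : ∀ D i, 4 * (j + 1) * D + (2 * j + 3) * (2 * i) ≤ M →
      F (M - (4 * (j + 1) * D + (2 * j + 3) * (2 * i))) ≤
        U * ((q : ℚ) ^ n * ((((q : ℚ)⁻¹) ^ (2 * (j + 1))) ^ D * (((q : ℚ)⁻¹) ^ (2 * j + 3)) ^ i)))
    (hod : ∀ D i, 4 * (j + 1) * D + (2 * j + 3) * (2 * i + 1) ≤ M →
      F (M - (4 * (j + 1) * D + (2 * j + 3) * (2 * i + 1))) ≤
        V * ((q : ℚ) ^ n * ((((q : ℚ)⁻¹) ^ (2 * (j + 1))) ^ D * (((q : ℚ)⁻¹) ^ (2 * j + 3)) ^ i))) :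
    ∑ D ∈ range (M + 1), ∑ m ∈ range (M + 1),
      (if 4 * (j + 1) * D + (2 * j + 3) * m ≤ M then (q : ℚ) ^ D * (ropt q m : ℚ) *
        F (M - (4 * (j + 1) * D + (2 * j + 3) * m)) else 0) ≤
      (U + 2 * V) / ((1 - y ^ (2 * j + 1)) * (1 - y ^ (2 * j + 2))) * (q : ℚ) ^ n := by
  have hqQ : (q : ℚ) ≠ 0 := Nat.cast_ne_zero.mpr (by omega)
  set x : ℚ := (q : ℚ)⁻¹ with hx
  have hx0 : 0 ≤ x := by positivity
  have hx3 : x ≤ y := hy
  have hy0 : 0 ≤ y := hx0.trans hy
  set w := x ^ (2 * j + 1) with hw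
  set v := x ^ (2 * j + 2) with hv
  have hw0 : 0 ≤ w := by positivity
  have hv0 : 0 ≤ v := by positivity
  have hqw : (q : ℚ) * x ^ (2 * (j + 1)) = w := by
    rw [show 2 * (j + 1) = (2 * j + 1) + 1 by ring, pow_succ' x, ← mul_assoc, mul_inv_cancel₀ hqQ, one_mul]
  have hqv : (q : ℚ) * x ^ (2 * j + 3) = v := by
    rw [show 2 * j + 3 = (2 * j + 2) + 1 by ring, pow_succ' x, ← mul_assoc, mul_inv_cancel₀ hqQ, one_mul]
  set G : ℕ → ℕ → ℚ := fun D m => (if Even m then U else 2 * V) * ((q : ℚ) ^ n * (w ^ D * v ^ (m / 2))) with hG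
  have hG0 : ∀ D m, 0 ≤ G D m := fun D m => by simp only [hG]; split_ifs <;> positivity
  calc _ ≤ ∑ D ∈ range (M + 1), ∑ m ∈ range (2 * (n + 1)), G D m := by
        refine Finset.sum_le_sum fun D _ => ?_
        refine (Finset.sum_le_sum fun m _ => ?_).trans (Finset.sum_le_sum_of_subset_of_nonneg
          (Finset.range_subset_range.mpr (by omega)) fun m _ _ => hG0 D m)
        split_ifs with hle
        swap
        · exact hG0 D m
        simp only [hG]
        split_ifs with he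
        · obtain ⟨i, rfl⟩ := he
          rw [← two_mul i] at hle ⊢
          refine (mul_le_mul (mul_le_mul_of_nonneg_left (ropt_le hq i).1 (by positivity)) (hev D i hle) (hF _)
            (by positivity)).trans (le_of_eq ?_)
          rw [show 2 * i / 2 = i by omega, ← hqw, ← hqv, mul_pow, mul_pow]
          ring
        · obtain ⟨i, rfl⟩ := Nat.not_even_iff_odd.mp he
          refine (mul_le_mul (mul_le_mul_of_nonneg_left (ropt_le hq i).2 (by positivity)) (hod D i hle) (hF _)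
            (by positivity)).trans (le_of_eq ?_)
          rw [show (2 * i + 1) / 2 = i by omega, ← hqw, ← hqv, mul_pow, mul_pow]
          ring
    _ = (q : ℚ) ^ n * (∑ D ∈ range (M + 1), w ^ D) *
        ((U + 2 * V) * ∑ i ∈ range (n + 1), v ^ i) := by
        rw [mul_assoc, Finset.sum_mul, Finset.mul_sum]
        refine Finset.sum_congr rfl fun D _ => ?_
        rw [sum_parity, Finset.mul_sum, Finset.mul_sum, Finset.mul_sum]
        refine Finset.sum_congr rfl fun i _ => ?_
        simp only [hG, if_pos (even_two_mul i), if_neg (Nat.not_even_two_mul_add_one i),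
          show 2 * i / 2 = i by omega, show (2 * i + 1) / 2 = i by omega]
        ring
    _ ≤ (q : ℚ) ^ n * (1 / (1 - y ^ (2 * j + 1))) * ((U + 2 * V) * (1 / (1 - y ^ (2 * j + 2)))) := by
        have h3 : ∀ {e : ℕ}, e ≠ 0 → x ^ e ≤ y ^ e ∧ y ^ e < 1 := fun he =>
          ⟨pow_le_pow_left₀ hx0 hx3 _, pow_lt_one₀ hy0 hy1 he⟩
        obtain ⟨a1, a2⟩ := h3 (show 2 * j + 1 ≠ 0 by omega)
        obtain ⟨b1, b2⟩ := h3 (show 2 * j + 2 ≠ 0 by omega)
        refine mul_le_mul (mul_le_mul_of_nonneg_left ((geom_le hw0 (a1.trans_lt a2) _).trans ?_) (by positivity))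
          (mul_le_mul_of_nonneg_left ((geom_le hv0 (b1.trans_lt b2) _).trans ?_) (by positivity))
          (by positivity) (mul_nonneg (by positivity) (div_nonneg zero_le_one (by linarith)))
        · exact one_div_le_one_div_of_le (by linarith) (by linarith)
        · exact one_div_le_one_div_of_le (by linarith) (by linarith)
    _ = _ := by field_simp

theorem weight_pow (hq : 3 ≤ q) {n : ℕ} (j D i t : ℕ) (h : 2 * (j + 1) * D + (2 * j + 3) * i + t ≤ n) :
    (q : ℚ) ^ (n - (2 * (j + 1) * D + (2 * j + 3) * i + t)) = ((q : ℚ)⁻¹) ^ t *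
      ((q : ℚ) ^ n * ((((q : ℚ)⁻¹) ^ (2 * (j + 1))) ^ D * (((q : ℚ)⁻¹) ^ (2 * j + 3)) ^ i)) := by
  have hqQ : (q : ℚ) ≠ 0 := Nat.cast_ne_zero.mpr (by omega)
  rw [← pow_mul, ← pow_mul, ← pow_add, pow_sub₀ _ hqQ h, inv_pow, pow_add (q : ℚ) _ t, mul_inv, inv_pow]
  ring

/-- A geometric base bound propagates through one level. -/
theorem lin_step (hq : 3 ≤ q) (j : ℕ) {y : ℚ} (hy : (q : ℚ)⁻¹ ≤ y) (hy1 : y < 1) (F : ℕ → ℚ) (A B : ℚ) (hA0 : 0 ≤ A) (hB0 : 0 ≤ B) (hF : ∀ k, 0 ≤ F k)
    (hA : ∀ k, F (2 * k) ≤ A * (q : ℚ) ^ k) (hB : ∀ k, F (2 * k + 1) ≤ B * (q : ℚ) ^ k) (n : ℕ) :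
    (∑ D ∈ range (2 * n + 1), ∑ m ∈ range (2 * n + 1),
      (if 4 * (j + 1) * D + (2 * j + 3) * m ≤ 2 * n then (q : ℚ) ^ D * (ropt q m : ℚ) *
        F (2 * n - (4 * (j + 1) * D + (2 * j + 3) * m)) else 0) ≤
      (A + 2 * (B * ((q : ℚ)⁻¹) ^ (j + 2))) / ((1 - y ^ (2 * j + 1)) * (1 - y ^ (2 * j + 2))) *
        (q : ℚ) ^ n) ∧
    (∑ D ∈ range (2 * n + 1 + 1), ∑ m ∈ range (2 * n + 1 + 1),
      (if 4 * (j + 1) * D + (2 * j + 3) * m ≤ 2 * n + 1 then (q : ℚ) ^ D * (ropt q m : ℚ) *
        F (2 * n + 1 - (4 * (j + 1) * D + (2 * j + 3) * m)) else 0) ≤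
      (B + 2 * (A * ((q : ℚ)⁻¹) ^ (j + 1))) / ((1 - y ^ (2 * j + 1)) * (1 - y ^ (2 * j + 2))) *
        (q : ℚ) ^ n) := by
  have hev : ∀ D i, 4 * (j + 1) * D + (2 * j + 3) * (2 * i) = 2 * (2 * (j + 1) * D + (2 * j + 3) * i) :=
    fun D i => by ring
  have hod : ∀ D i, 4 * (j + 1) * D + (2 * j + 3) * (2 * i + 1) =
      2 * (2 * (j + 1) * D + (2 * j + 3) * i) + (2 * j + 3) := fun D i => by ring
  constructor
  · refine step_le hq j (2 * n) F A (B * ((q : ℚ)⁻¹) ^ (j + 2)) n hy hy1 (by omega) hA0 (by positivity) hF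
      (fun D i hle => ?_) fun D i hle => ?_
    · rw [hev] at hle ⊢
      rw [← Nat.mul_sub]
      refine (hA _).trans (le_of_eq ?_)
      rw [← Nat.add_zero (2 * (j + 1) * D + (2 * j + 3) * i), weight_pow hq j D i 0 (by omega), pow_zero, one_mul]
    · rw [hod] at hle ⊢
      rw [show 2 * n - (2 * (2 * (j + 1) * D + (2 * j + 3) * i) + (2 * j + 3)) =
        2 * (n - (2 * (j + 1) * D + (2 * j + 3) * i + (j + 2))) + 1 by omega]
      refine (hB _).trans (le_of_eq ?_)
      rw [weight_pow hq j D i (j + 2) (by omega)]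
      ring
  · refine step_le hq j (2 * n + 1) F B (A * ((q : ℚ)⁻¹) ^ (j + 1)) n hy hy1 le_rfl hB0 (by positivity) hF
      (fun D i hle => ?_) fun D i hle => ?_
    · rw [hev] at hle ⊢
      rw [show 2 * n + 1 - 2 * (2 * (j + 1) * D + (2 * j + 3) * i) =
        2 * (n - (2 * (j + 1) * D + (2 * j + 3) * i + 0)) + 1 by omega]
      refine (hB _).trans (le_of_eq ?_)
      rw [weight_pow hq j D i 0 (by omega), pow_zero, one_mul]
    · rw [hod] at hle ⊢
      rw [show 2 * n + 1 - (2 * (2 * (j + 1) * D + (2 * j + 3) * i) + (2 * j + 3)) =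
        2 * (n - (2 * (j + 1) * D + (2 * j + 3) * i + (j + 1))) by omega]
      refine (hA _).trans (le_of_eq ?_)
      rw [weight_pow hq j D i (j + 1) (by omega)]
      ring

/-- The data of exact weight at the exponents two and three. -/
theorem exact_weight (n t : ℕ) (g : ℕ → ℕ → ℚ) (hg : ∀ D i, 2 * D + 3 * i + t = n → g D i ≤ (1 / 9) ^ i) (N : ℕ) :
    ∑ D ∈ range N, ∑ i ∈ range N, (if 2 * D + 3 * i + t = n then g D i else 0) ≤ 9 / 8 := by
  rw [sum_comm]
  refine (Finset.sum_le_sum fun i _ => ?_).trans ((geom_le (w := (1 / 9 : ℚ)) (by norm_num) (by norm_num) N).trans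
    (by norm_num))
  by_cases h : ∃ D ∈ range N, 2 * D + 3 * i + t = n
  · obtain ⟨D, hD, he⟩ := h
    rw [sum_eq_single D (fun D' _ hne => if_neg (by omega)) (fun h => absurd hD h), if_pos he]
    exact hg D i he
  · rw [sum_eq_zero fun D hD => if_neg fun he => h ⟨D, hD, he⟩]
    positivity

theorem tCount_one (hq : 3 ≤ q) (n : ℕ) :
    (tCount q 1 (2 * n) : ℚ) ≤ 13 / 6 * (q : ℚ) ^ n ∧ (tCount q 1 (2 * n + 1) : ℚ) ≤ 15 / 4 * (q : ℚ) ^ n := by
  have hqn : (0 : ℚ) ≤ (q : ℚ) ^ n := by positivity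
  by_cases h3 : q = 3
  swap
  · have hq5 : 4 ≤ q := by omega
    have hx : ((q : ℚ)⁻¹) ≤ 1 / 4 := by rw [one_div]; exact inv_anti₀ (by norm_num) (by exact_mod_cast hq5)
    have hx0 : (0 : ℚ) ≤ (q : ℚ)⁻¹ := by positivity
    have hqQ : (q : ℚ) ≠ 0 := Nat.cast_ne_zero.mpr (by omega)
    obtain ⟨e1, e2⟩ := lin_step hq 0 hx (by norm_num) (fun k => (ropt q k : ℚ)) 1 2 zero_le_one zero_le_two (fun k => Nat.cast_nonneg _)
      (fun k => by rw [one_mul]; exact (ropt_le hq k).1) (fun k => (ropt_le hq k).2) n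
    norm_num at e1 e2
    rw [tCount, tCount]
    push_cast
    simp only [tCount, zero_add, mul_one] at e1 e2 ⊢
    constructor
    · refine le_trans (by convert e1 using 3) ?_
      refine mul_le_mul_of_nonneg_right ?_ hqn
      have hx2 := pow_le_pow_left₀ hx0 hx 2
      rw [inv_pow] at hx2
      norm_num at hx2 ⊢
      linarith
    · refine le_trans (by convert e2 using 3) ?_
      refine mul_le_mul_of_nonneg_right ?_ hqn
      nlinarith
  subst h3
  -- at three the base is split into a geometric part and a correction in weight zero and one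
  let F : ℕ → ℚ := fun k => (if Even k then 2 / 3 else 8 / 9) * (3 : ℚ) ^ (k / 2)
  let E : ℕ → ℚ := fun k => if k = 0 then 1 / 3 else if k = 1 then 10 / 9 else 0
  have hFE : ∀ k, (ropt 3 k : ℚ) ≤ F k + E k := by
    intro k
    rcases Nat.even_or_odd' k with ⟨i, rfl | rfl⟩
    · simp only [F, E, if_pos (even_two_mul i), show 2 * i / 2 = i by omega]
      refine (ropt_three i).1.trans (le_of_eq ?_)
      by_cases hi : i = 0 <;> simp [hi, show ¬ 2 * i = 1 by omega]
    · simp only [F, E, if_neg (Nat.not_even_two_mul_add_one i), show (2 * i + 1) / 2 = i by omega]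
      refine (ropt_three i).2.trans (le_of_eq ?_)
      by_cases hi : i = 0 <;> simp [hi]
  obtain ⟨m1, m2⟩ := lin_step hq 0 (y := 1 / 3) (by norm_num) (by norm_num) F (2 / 3) (8 / 9) (by norm_num) (by norm_num) (fun k => by
      simp only [F]; split_ifs <;> positivity)
    (fun k => by simp only [F, if_pos (even_two_mul k), show 2 * k / 2 = k by omega]; norm_num)
    (fun k => by simp only [F, if_neg (Nat.not_even_two_mul_add_one k), show (2 * k + 1) / 2 = k by omega]; norm_num) n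
  -- the correction
  have corr : ∀ M, M ≤ 2 * n + 1 →
      ∑ D ∈ range (M + 1), ∑ m ∈ range (M + 1),
        (if 4 * D + 3 * m ≤ M then (3 : ℚ) ^ D * (ropt 3 m : ℚ) * E (M - (4 * D + 3 * m)) else 0) ≤
      (if Even M then 1 / 3 * (9 / 8) + 10 / 9 * (1 / 4) else 1 / 3 * (3 / 4) + 10 / 9 * (9 / 8)) * (3 : ℚ) ^ (M / 2) := by
    intro M _
    set e := M / 2 with he
    have h3e : (0 : ℚ) < (3 : ℚ) ^ e := by positivity
    let W : ℕ → ℕ → ℚ := fun D i => (3 : ℚ) ^ (D + i) / (3 : ℚ) ^ e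
    have hW : ∀ D i t, 2 * D + 3 * i + t = e → W D i ≤ (1 / 3) ^ t * (1 / 9) ^ i := fun D i t h => by
      simp only [W]
      rw [div_le_iff₀ h3e, ← h, pow_add _ (2 * D + 3 * i) t, pow_add _ (2 * D) (3 * i), pow_add, pow_mul, pow_mul]
      have e1 : (1 / 3 : ℚ) ^ t * 3 ^ t = 1 := by rw [← mul_pow]; norm_num
      have e2 : (1 / 9 : ℚ) ^ i * ((3 : ℚ) ^ 3) ^ i = 3 ^ i := by rw [← mul_pow]; norm_num
      have e3 : (3 : ℚ) ^ D ≤ ((3 : ℚ) ^ 2) ^ D := pow_le_pow_left₀ (by norm_num) (by norm_num) D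
      calc (3 : ℚ) ^ D * 3 ^ i ≤ ((3 : ℚ) ^ 2) ^ D * 3 ^ i := mul_le_mul_of_nonneg_right e3 (by positivity)
        _ = ((1 / 3 : ℚ) ^ t * 3 ^ t) * (((3 : ℚ) ^ 2) ^ D * ((1 / 9 : ℚ) ^ i * ((3 : ℚ) ^ 3) ^ i)) := by
            rw [e1, e2, one_mul]
        _ = _ := by ring
    set P : ℕ → ℕ → ℚ := fun D i =>
      if Even M then
        1 / 3 * (if 2 * D + 3 * i + 0 = e then W D i else 0) +
          10 / 9 * (2 * (1 / 9)) * (if 2 * D + 3 * i + 2 = e then 9 * W D i else 0)
      else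
        1 / 3 * (2 * (1 / 3)) * (if 2 * D + 3 * i + 1 = e then 3 * W D i else 0) +
          10 / 9 * (if 2 * D + 3 * i + 0 = e then W D i else 0) with hP
    have hP0 : ∀ D i, 0 ≤ P D i := fun D i => by
      simp only [hP, W]
      split_ifs <;> positivity
    calc _ ≤ ∑ D ∈ range (M + 1), ∑ i ∈ range (M + 1), P D i * (3 : ℚ) ^ e := by
          refine Finset.sum_le_sum fun D _ => ?_
          refine le_trans (Finset.sum_le_sum_of_subset_of_nonneg
            (Finset.range_subset_range.mpr (show M + 1 ≤ 2 * (M + 1) by omega)) fun m _ _ => ?_) ?_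
          · split_ifs
            · simp only [E]; split_ifs <;> positivity
            · exact le_rfl
          rw [sum_parity]
          refine Finset.sum_le_sum fun i _ => ?_
          have r1 := mul_le_mul_of_nonneg_left (ropt_le hq i).1 (pow_nonneg (show (0 : ℚ) ≤ 3 by norm_num) D)
          have r2 := mul_le_mul_of_nonneg_left (ropt_le hq i).2 (pow_nonneg (show (0 : ℚ) ≤ 3 by norm_num) D)
          have hcast : ((3 : ℕ) : ℚ) = 3 := by norm_num
          rw [hcast] at r1 r2
          have hWe : W D i * 3 ^ e = (3 : ℚ) ^ D * 3 ^ i := by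
            simp only [W]; rw [div_mul_cancel₀ _ h3e.ne', pow_add]
          simp only [hP, E]
          rcases Nat.even_or_odd' M with ⟨k, hk | hk⟩
          all_goals
            subst hk
            simp only [Nat.not_even_two_mul_add_one, even_two_mul, if_true, if_false] at *
            split_ifs <;> first | omega | (simp only [mul_zero, add_zero, zero_add, add_mul, mul_assoc, hWe, zero_mul]; linarith)
      _ ≤ _ := by
          simp only [← Finset.sum_mul]
          refine mul_le_mul_of_nonneg_right ?_ h3e.le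
          have z0 : ∀ D i, 2 * D + 3 * i + 0 = e → W D i ≤ (1 / 9) ^ i := fun D i h => by
            simpa using hW D i 0 h
          have z1 : ∀ D i, 2 * D + 3 * i + 1 = e → 3 * W D i ≤ (1 / 9) ^ i := fun D i h => by
            have := hW D i 1 h; linarith
          have z2 : ∀ D i, 2 * D + 3 * i + 2 = e → 9 * W D i ≤ (1 / 9) ^ i := fun D i h => by
            have := hW D i 2 h; linarith
          by_cases hM : Even M <;> simp only [hP, hM, if_true, if_false, Finset.sum_add_distrib, ← Finset.mul_sum]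
          · have := exact_weight e 0 W z0 (M + 1)
            have := exact_weight e 2 (fun D i => 9 * W D i) z2 (M + 1)
            linarith
          · have := exact_weight e 0 W z0 (M + 1)
            have := exact_weight e 1 (fun D i => 3 * W D i) z1 (M + 1)
            linarith
  have hsplit : ∀ M, (tCount 3 1 M : ℚ) ≤
      ∑ D ∈ range (M + 1), ∑ m ∈ range (M + 1),
        (if 4 * (0 + 1) * D + (2 * 0 + 3) * m ≤ M then (3 : ℚ) ^ D * (ropt 3 m : ℚ) *
          F (M - (4 * (0 + 1) * D + (2 * 0 + 3) * m)) else 0) +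
      ∑ D ∈ range (M + 1), ∑ m ∈ range (M + 1),
        (if 4 * D + 3 * m ≤ M then (3 : ℚ) ^ D * (ropt 3 m : ℚ) * E (M - (4 * D + 3 * m)) else 0) := fun M => by
    rw [tCount]
    push_cast
    rw [← Finset.sum_add_distrib]
    refine Finset.sum_le_sum fun D _ => ?_
    rw [← Finset.sum_add_distrib]
    refine Finset.sum_le_sum fun m _ => ?_
    simp only [zero_add, mul_one, mul_zero, tCount]
    split_ifs
    · rw [← mul_add]
      exact mul_le_mul_of_nonneg_left (hFE _) (by positivity)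
    · simp
  constructor
  · have h1 := corr (2 * n) (by omega)
    rw [if_pos (even_two_mul n), show 2 * n / 2 = n by omega] at h1
    refine (hsplit _).trans ((add_le_add m1 h1).trans ?_)
    push_cast
    rw [← add_mul]
    exact mul_le_mul_of_nonneg_right (by norm_num) (by positivity)
  · have h1 := corr (2 * n + 1) le_rfl
    rw [if_neg (Nat.not_even_two_mul_add_one n), show (2 * n + 1) / 2 = n by omega] at h1
    refine (hsplit _).trans ((add_le_add m2 h1).trans ?_)
    push_cast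
    rw [← add_mul]
    exact mul_le_mul_of_nonneg_right (by norm_num) (by positivity)

theorem tCount_le (hq : 3 ≤ q) (i n : ℕ) :
    (tCount q (i + 1) (2 * n) : ℚ) ≤ (14 / 5 - 19 / 10 * (1 / 3) ^ (i + 1)) * (q : ℚ) ^ n ∧
      (tCount q (i + 1) (2 * n + 1) : ℚ) ≤ (121 / 25 - 16 / 5 * (1 / 3) ^ (i + 1)) * (q : ℚ) ^ n := by
  induction i generalizing n with
  | zero =>
    obtain ⟨h1, h2⟩ := tCount_one hq n
    exact ⟨h1.trans (mul_le_mul_of_nonneg_right (by norm_num) (by positivity)),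
      h2.trans (mul_le_mul_of_nonneg_right (by norm_num) (by positivity))⟩
  | succ i ih =>
    set j := i + 1 with hj
    set t := (1 / 3 : ℚ) ^ j with ht
    have ht0 : 0 < t := by positivity
    have ht3 : t ≤ 1 / 3 := by
      rw [ht]
      exact (pow_le_pow_of_le_one (by norm_num) (by norm_num) (by omega : 1 ≤ j)).trans (by norm_num)
    set A := 14 / 5 - 19 / 10 * t with hA
    set B := 121 / 25 - 16 / 5 * t with hB
    have hA0 : 0 ≤ A := by rw [hA]; linarith
    have hB0 : 0 ≤ B := by rw [hB]; linarith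
    obtain ⟨e1, e2⟩ := lin_step hq j (y := 1 / 3)
      (by rw [one_div]; exact inv_anti₀ (by norm_num) (by exact_mod_cast hq)) (by norm_num) (fun k => (tCount q j k : ℚ)) A B hA0 hB0 (fun k => Nat.cast_nonneg _)
      (fun k => (ih k).1) (fun k => (ih k).2) n
    have hxj : ∀ s, ((q : ℚ)⁻¹) ^ (j + s) ≤ t * (1 / 3) ^ s := fun s => by
      rw [ht, ← pow_add]
      exact pow_le_pow_left₀ (by positivity) (by rw [one_div]; exact inv_anti₀ (by norm_num) (by exact_mod_cast hq)) _
    have f1 : (1 / 3 : ℚ) ^ (2 * j + 1) = t ^ 2 / 3 := by rw [pow_add, mul_comm 2 j, pow_mul, ← ht]; ring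
    have f2 : (1 / 3 : ℚ) ^ (2 * j + 2) = t ^ 2 / 9 := by rw [pow_add, mul_comm 2 j, pow_mul, ← ht]; ring
    have f3 : (1 / 3 : ℚ) ^ (j + 1) = t / 3 := by rw [pow_succ, ← ht]; ring
    rw [f1, f2] at e1 e2
    have hden : 0 < (1 - t ^ 2 / 3) * (1 - t ^ 2 / 9) := by
      refine mul_pos ?_ ?_ <;> nlinarith
    have x1 := mul_le_mul_of_nonneg_left (hxj 2) hB0
    have x2 := mul_le_mul_of_nonneg_left (hxj 1) hA0
    rw [tCount, tCount]
    push_cast
    constructor
    · refine e1.trans (mul_le_mul_of_nonneg_right ?_ (by positivity))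
      rw [div_le_iff₀ hden, f3]
      refine (add_le_add le_rfl (mul_le_mul_of_nonneg_left x1 (by norm_num))).trans ?_
      rw [hA, hB]
      nlinarith [pow_pos ht0 2, pow_pos ht0 3, pow_pos ht0 4, pow_pos ht0 5, mul_le_mul_of_nonneg_left ht3 ht0.le,
        mul_le_mul_of_nonneg_left ht3 (pow_pos ht0 2).le, mul_le_mul_of_nonneg_left ht3 (pow_pos ht0 3).le,
        mul_le_mul_of_nonneg_left ht3 (pow_pos ht0 4).le]
    · refine e2.trans (mul_le_mul_of_nonneg_right ?_ (by positivity))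
      rw [div_le_iff₀ hden, f3]
      refine (add_le_add le_rfl (mul_le_mul_of_nonneg_left x2 (by norm_num))).trans ?_
      rw [hA, hB]
      nlinarith [pow_pos ht0 2, pow_pos ht0 3, pow_pos ht0 4, pow_pos ht0 5, mul_le_mul_of_nonneg_left ht3 ht0.le,
        mul_le_mul_of_nonneg_left ht3 (pow_pos ht0 2).le, mul_le_mul_of_nonneg_left ht3 (pow_pos ht0 3).le,
        mul_le_mul_of_nonneg_left ht3 (pow_pos ht0 4).le]

end CfsgLib.IsometryClasses
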