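import Cfsg.Agent.Lib.IsometryClasses.IndexFour
import Cfsg.Agent.Lib.IsometryClasses.SplitCount
import Cfsg.Agent.Lib.OmegaMem
import Mathlib.LinearAlgebra.QuadraticForm.Basic

/-!
The split classes of the derived orthogonal group in odd dimension.
-/

set_option autoImplicit false
set_option linter.unusedSectionVars false

namespace CfsgLib.IsometryClasses

open Polynomial Matrix QuadraticMap

universe u v

section General

variable {K : Type u} [Field K] [Fintype K] {V : Type v} [AddCommGroup V] [Module K V] [FiniteDimensional K V]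
  {B : V →ₗ[K] V →ₗ[K] K} {x : Module.End K V} {N : ℕ}

/-- An orthogonal list spanning a nondegenerate subspace of a symmetric space. -/
theorem exists_orth_list (hs : ∀ a b, B a b = B b a) (h2 : (2 : K) ≠ 0) {W : Submodule K V} (hnd : Nd B W) :
    ∃ vs : List V, vs.length = Module.finrank K W ∧ (∀ v ∈ vs, v ∈ W ∧ B v v ≠ 0) ∧
      vs.Pairwise (fun a b => B a b = 0) ∧ W ≤ Submodule.span K {v | v ∈ vs} := by
  haveI : Invertible (2 : K) := invertibleOfNonzero h2
  set BW : LinearMap.BilinForm K W := B.compl₁₂ W.subtype W.subtype with hBW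
  have hsym : LinearMap.IsSymm BW := ⟨fun a b => hs _ _⟩
  obtain ⟨b, hb⟩ := LinearMap.BilinForm.exists_orthogonal_basis hsym
  have hb' : ∀ i j, i ≠ j → B (b i : V) (b j) = 0 := fun i j hij => hb hij
  refine ⟨List.ofFn fun i => (b i : V), List.length_ofFn, fun v hv => ?_, ?_, ?_⟩
  · obtain ⟨i, rfl⟩ := List.mem_ofFn.mp hv
    refine ⟨(b i).2, fun h0 => b.ne_zero i (Subtype.ext (hnd _ (b i).2 fun w hw => ?_))⟩
    have hz : BW.flip (b i) = 0 := by
      refine b.ext fun j => ?_
      show B (b j : V) (b i) = 0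
      by_cases hji : j = i
      · rw [hji]; exact h0
      · exact hb' j i hji
    exact LinearMap.congr_fun hz ⟨w, hw⟩
  · rw [List.pairwise_ofFn]
    exact fun i j hij => hb' i j hij.ne
  · intro w hw
    have h1 : (⟨w, hw⟩ : W) ∈ Submodule.span K (Set.range b) := by rw [b.span_eq]; trivial
    have h2 := Submodule.mem_map_of_mem (f := W.subtype) h1
    rw [Submodule.map_span, ← Set.range_comp] at h2
    refine Submodule.span_mono ?_ h2
    rintro - ⟨i, rfl⟩
    exact List.mem_ofFn.mpr ⟨i, rfl⟩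

theorem exists_value (h : Ctx B x (1 : K) N) {p : K[X]} {e : ℕ} {v₁ v₂ : V} (h₁ : IsC B x p e v₁)
    (h₂ : IsC B x p e v₂) (hpm : IsPM p) (ho : ∀ r, gram B x v₁ v₂ r = 0) {c : K} (hc : c ≠ 0) :
    ∃ w, IsC B x p e w ∧ gram B x w w (p ^ (e - 1)) = c := by
  obtain ⟨a, b, hab⟩ := sq_value h.two (div_ne_zero (h₁.gram_q hpm) hc) (div_ne_zero (h₂.gram_q hpm) hc)
  have hab' : a * a * gram B x v₁ v₁ (p ^ (e - 1)) + b * b * gram B x v₂ v₂ (p ^ (e - 1)) = c := by
    field_simp at hab
    linear_combination hab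
  have ho' : ∀ r, gram B x v₂ v₁ r = 0 := fun r => by rw [gram_apply, h.swap, ← gram_apply, ho, mul_zero]
  have hg : ∀ r, gram B x (a • v₁ + b • v₂) (a • v₁ + b • v₂) r =
      a * a * gram B x v₁ v₁ r + b * b * gram B x v₂ v₂ r := fun r => by
    have e1 := ho r
    have e2 := ho' r
    rw [gram_apply] at e1 e2 ⊢
    simp only [act, gram_apply, map_add, map_smul, LinearMap.add_apply, LinearMap.smul_apply, smul_eq_mul] at e1 e2 ⊢
    linear_combination a * b * e1 + b * a * e2
  refine ⟨a • v₁ + b • v₂, ⟨h₁.mon, h₁.irr, h₁.he, h₁.p0, h₁.self, ?_, 1, ?_⟩, by rw [hg, hab']⟩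
  · simp only [act, map_add, map_smul]
    rw [← act, ← act, h₁.kill, h₂.kill, smul_zero, smul_zero, add_zero]
  · rw [one_mul, hg, hab']
    exact hc

end General

section Omega

variable {K : Type u} [Field K] [Fintype K] {ι : Type} [Fintype ι] [DecidableEq ι]
  {Q : QuadraticForm K (ι → K)} {N : ℕ}

/-- The central involution. -/
noncomputable def negOne (Q : QuadraticForm K (ι → K)) : Cfsg.isometryGroup K ⇑Q :=
  ⟨-1, fun u _ => by
    show Q ((-1 : Matrix ι ι K) *ᵥ u) = Q u
    rw [Matrix.neg_mulVec, Matrix.one_mulVec, QuadraticMap.map_neg]⟩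

theorem negOne_comm (g : Cfsg.isometryGroup K ⇑Q) : Commute (negOne Q) g :=
  Subtype.ext (Units.ext (by
    show (-1 : Matrix ι ι K) * g.1.1 = g.1.1 * -1
    rw [Matrix.neg_mul, Matrix.one_mul, Matrix.mul_neg, Matrix.mul_one]))

theorem negOne_mul_self : negOne Q * negOne Q = 1 :=
  Subtype.ext (Units.ext (by
    show (-1 : Matrix ι ι K) * -1 = 1
    rw [Matrix.neg_mul, Matrix.one_mul, neg_neg]))

/-- The linear action. -/
noncomputable abbrev endOf (g : Cfsg.isometryGroup K ⇑Q) : Module.End K (ι → K) := Matrix.toLinAlgEquiv' g.1.1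

theorem endOf_apply (g : Cfsg.isometryGroup K ⇑Q) (u : ι → K) : endOf g u = g.1.1 *ᵥ u :=
  Matrix.toLinAlgEquiv'_apply _ _

/-- Negation of a nondegenerate invariant subspace is an isometry commuting with `g`. -/
theorem exists_flip (hQ : (polarBilin Q).Nondegenerate) {g : Cfsg.isometryGroup K ⇑Q}
    (hg : Ctx (polarBilin Q) (endOf g) (1 : K) N) {W : Submodule K (ι → K)} (hnd : Nd (polarBilin Q) W)
    (hinv : Inv (endOf g) W) {vs : List (ι → K)} (hvs : ∀ v ∈ vs, v ∈ W ∧ Q v ≠ 0)
    (hpw : vs.Pairwise fun a b => polar Q a b = 0) (hspan : W ≤ Submodule.span K {v | v ∈ vs}) :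
    ∃ y : Cfsg.isometryGroup K ⇑Q, y.1.1 = (vs.map fun v => Cfsg.reflectionMatrix (⇑Q) v).prod ∧ Commute g y := by
  classical
  obtain ⟨y, hy, -⟩ := OmegaMem.exists_refl_prod Q hg.two hQ vs fun v hv => (hvs v hv).2
  obtain ⟨π, hπ1, hπ2, hπ3, hπ4⟩ := exists_proj hg hnd hinv
  have hneg : ∀ a ∈ W, y.1.1 *ᵥ a = -a := fun a ha => by
    rw [hy]
    refine Submodule.span_induction (p := fun a _ =>
        (vs.map fun v => Cfsg.reflectionMatrix (⇑Q) v).prod *ᵥ a = -a) ?_ ?_ ?_ ?_ (hspan ha)
    · exact fun v hv => OmegaMem.prod_mulVec_neg Q vs v hv hpw (hvs v hv).2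
    · rw [Matrix.mulVec_zero, neg_zero]
    · intro a b _ _ h1 h3; rw [Matrix.mulVec_add, h1, h3, neg_add]
    · intro c a _ h1; rw [Matrix.mulVec_smul, h1, smul_neg]
  have hfix : ∀ u, y.1.1 *ᵥ u = u - (π u + π u) := fun u => by
    have h1 : y.1.1 *ᵥ (u - π u) = u - π u := by
      rw [hy]
      refine OmegaMem.prod_mulVec_fix Q vs _ fun v hv => ?_
      have := hπ3 u v (hvs v hv).1
      rw [← QuadraticMap.polarBilin_apply_apply, map_sub, this, sub_self]
    calc y.1.1 *ᵥ u = y.1.1 *ᵥ (π u + (u - π u)) := by rw [add_sub_cancel]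
      _ = -π u + (u - π u) := by rw [Matrix.mulVec_add, hneg _ (hπ1 u), h1]
      _ = u - (π u + π u) := by abel
  refine ⟨y, hy, Subtype.ext (Units.ext ?_)⟩
  show g.1.1 * y.1.1 = y.1.1 * g.1.1
  refine Matrix.ext_of_mulVec_single fun i => ?_
  rw [← Matrix.mulVec_mulVec, ← Matrix.mulVec_mulVec, hfix, hfix, Matrix.mulVec_sub, Matrix.mulVec_add,
    ← endOf_apply g (π _), ← endOf_apply g (Pi.single i 1), hπ4]

theorem flip_shift (h2 : (2 : K) ≠ 0) (hQ : (polarBilin Q).Nondegenerate) (hn : 2 ≤ Fintype.card ι)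
    {g y : Cfsg.isometryGroup K ⇑Q}
    (hsp : ∀ y, Commute g y → y ∈ Cfsg.Omega K ⇑Q ∨ negOne Q * y ∈ Cfsg.Omega K ⇑Q) {vs : List (ι → K)}
    (hvs : ∀ v ∈ vs, Q v ≠ 0) (hlen : Odd vs.length)
    (hy : y.1.1 = (vs.map fun v => Cfsg.reflectionMatrix (⇑Q) v).prod) (hgy : Commute g y) :
    negOne Q * y ∈ Cfsg.Omega K ⇑Q := by
  classical
  exact (hsp y hgy).resolve_left fun h => Nat.not_even_iff_odd.mpr hlen
    ((OmegaMem.omega_iff_prod Q h2 hn hQ y vs hvs hy).mp h).1

/-- In split classes the sign of a piece depends only on the exponent. -/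
theorem split_sign_eq (hQ : (polarBilin Q).Nondegenerate) (hn : 2 ≤ Fintype.card ι) {g g' : Cfsg.isometryGroup K ⇑Q}
    (hg : Ctx (polarBilin Q) (endOf g) (1 : K) N) (hg' : Ctx (polarBilin Q) (endOf g') (1 : K) N)
    (hsp : ∀ y, Commute g y → y ∈ Cfsg.Omega K ⇑Q ∨ negOne Q * y ∈ Cfsg.Omega K ⇑Q)
    (hsp' : ∀ y, Commute g' y → y ∈ Cfsg.Omega K ⇑Q ∨ negOne Q * y ∈ Cfsg.Omega K ⇑Q)
    {p : K[X]} {e : ℕ} {v v' : ι → K} (hv : IsC (polarBilin Q) (endOf g) p e v)
    (hv' : IsC (polarBilin Q) (endOf g') p e v') (hpm : IsPM p) :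
    IsSquare (gram (polarBilin Q) (endOf g) v v (p ^ (e - 1))) ↔
      IsSquare (gram (polarBilin Q) (endOf g') v' v' (p ^ (e - 1))) := by
  classical
  set B := polarBilin Q with hB
  have h2 := hg.two
  have hBQ : ∀ a, B a a = 2 * Q a := fun a => by
    rw [hB, polarBilin_apply_apply, polar_self, nsmul_eq_mul]
    norm_num
  set γ := gram B (endOf g) v v (p ^ (e - 1)) with hγ
  set γ' := gram B (endOf g') v' v' (p ^ (e - 1)) with hγ'
  have hγ0 : γ ≠ 0 := hv.gram_q hpm
  have hγ'0 : γ' ≠ 0 := hv'.gram_q hpm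
  set l := γ' / γ with hl
  have hl0 : l ≠ 0 := div_ne_zero hγ'0 hγ0
  have hgl : Ctx (l • B) (endOf g) (1 : K) N := ⟨hg.pos, hg.pow_eq, fun a b => by
      show l * B _ _ = l * B a b
      rw [hg.iso],
    fun a b => by simp only [LinearMap.smul_apply, smul_eq_mul]; rw [hg.symm a b]; ring, h2⟩
  have hgr : ∀ r, gram (l • B) (endOf g) v v r = l * gram B (endOf g) v v r := fun r => by simp [gram_apply]
  have hvl : IsC (l • B) (endOf g) p e v := by
    obtain ⟨r, hr⟩ := hv.top
    exact ⟨hv.mon, hv.irr, hv.he, hv.p0, hv.self, hv.kill, r, by rw [hgr]; exact mul_ne_zero hl0 hr⟩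
  obtain ⟨T, hT⟩ := hvl.exists_iso hv' hgl hg' fun _ => by
    rw [hgr, ← hγ, hl, div_mul_cancel₀ _ hγ0]
  set W := LinearMap.range (orb (endOf g) v) with hW
  set W' := LinearMap.range (orb (endOf g') v') with hW'
  have hnd : Nd B W := hv.nd hg
  obtain ⟨vs, hlen, hvs, hpw, hspan⟩ := exists_orth_list (fun a b => by rw [hg.symm, one_mul]) h2 hnd
  have hvsQ : ∀ a ∈ vs, a ∈ W ∧ Q a ≠ 0 := fun a ha =>
    ⟨(hvs a ha).1, fun h0 => (hvs a ha).2 (by rw [hBQ, h0, mul_zero])⟩
  have hTB : ∀ a ∈ W, ∀ b ∈ W, B (T a) (T b) = l * B a b := fun a ha b hb => by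
    rw [hT.pres a ha b hb]; rfl
  have hTQ : ∀ a ∈ W, Q (T a) = l * Q a := fun a ha => by
    have := hTB a ha a ha
    rw [hBQ, hBQ] at this
    exact mul_left_cancel₀ h2 (by linear_combination this)
  have hmap : W.map T = W' := by
    refine Submodule.eq_of_le_of_finrank_eq (Submodule.map_le_iff_le_comap.mpr fun a ha => hT.mapsTo a ha) ?_
    have hinj : Function.Injective (T.domRestrict W) := by
      rw [← LinearMap.ker_eq_bot, LinearMap.ker_eq_bot']
      rintro ⟨a, ha⟩ h0
      refine Subtype.ext (hnd a ha fun b hb => ?_)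
      have := hTB b hb a ha
      rw [show T a = 0 from h0, map_zero] at this
      exact (mul_eq_zero.mp this.symm).resolve_left hl0
    rw [← LinearMap.range_domRestrict, LinearMap.finrank_range_of_inj hinj, hv.finrank, hv'.finrank]
  have hpw' : (vs.map T).Pairwise fun a b => polar Q a b = 0 := by
    rw [List.pairwise_map]
    refine hpw.imp_of_mem fun {a b} ha hb hab => ?_
    rw [← polarBilin_apply_apply, ← hB, hTB a (hvs a ha).1 b (hvs b hb).1, hab, mul_zero]
  have hvs' : ∀ a ∈ vs.map T, a ∈ W' ∧ Q a ≠ 0 := by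
    intro a ha
    obtain ⟨b, hb, rfl⟩ := List.mem_map.mp ha
    exact ⟨hT.mapsTo b (hvsQ b hb).1, by rw [hTQ b (hvsQ b hb).1]; exact mul_ne_zero hl0 (hvsQ b hb).2⟩
  have hspan' : W' ≤ Submodule.span K {a | a ∈ vs.map T} := by
    rw [← hmap]
    refine (Submodule.map_mono hspan).trans ?_
    rw [Submodule.map_span]
    refine Submodule.span_mono ?_
    rintro - ⟨a, ha, rfl⟩
    exact List.mem_map_of_mem ha
  obtain ⟨y, hy, hyc⟩ := exists_flip hQ hg hnd (inv_range_orb v) hvsQ (hpw.imp fun h => h) hspan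
  obtain ⟨y', hy', hyc'⟩ := exists_flip hQ hg' (hv'.nd hg') (inv_range_orb v') hvs' hpw' hspan'
  have hodd : Odd vs.length := by
    rw [hlen, hv.finrank]
    obtain ⟨a, -, rfl⟩ := hpm.exists_eq
    rw [natDegree_X_sub_C, mul_one]
    have hpar := hv.parity hg hpm
    rw [one_mul] at hpar
    rcases Nat.even_or_odd e with he | he
    · exfalso
      rw [(Nat.Even.sub_odd hv.he he odd_one).neg_one_pow] at hpar
      exact h2 (by linear_combination -hpar)
    · exact he
  have h1 := flip_shift h2 hQ hn hsp (fun a ha => (hvsQ a ha).2) hodd hy hyc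
  have h3 := flip_shift h2 hQ hn hsp' (fun a ha => (hvs' a ha).2) (by rwa [List.length_map]) hy' hyc'
  have hmem : y * y' ∈ Cfsg.Omega K ⇑Q := by
    have := mul_mem h1 h3
    rwa [mul_assoc, ← mul_assoc y, ← (negOne_comm y).eq, mul_assoc (negOne Q) y y', ← mul_assoc, negOne_mul_self,
      one_mul] at this
  have hiff := (OmegaMem.omega_iff_prod Q h2 hn hQ (y * y') (vs ++ vs.map T)
    (fun a ha => by
      rcases List.mem_append.mp ha with ha | ha
      exacts [(hvsQ a ha).2, (hvs' a ha).2])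
    (by
      show y.1.1 * y'.1.1 = _
      rw [hy, hy', List.map_append, List.prod_append])).mp hmem
  have hprod : ((vs ++ vs.map T).map fun a => Q a).prod =
      ((vs.map fun a => Q a).prod * (vs.map fun a => Q a).prod) * l ^ vs.length := by
    have key : ∀ L : List (ι → K), (∀ a ∈ L, a ∈ W) →
        ((L.map T).map fun a => Q a).prod = (L.map fun a => Q a).prod * l ^ L.length := fun L => by
      induction L with
      | nil => intro _; simp
      | cons a L ih =>
        intro hL
        simp only [List.map_cons, List.prod_cons, List.length_cons]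
        rw [ih fun b hb => hL b (List.mem_cons_of_mem _ hb), hTQ a (hL a List.mem_cons_self)]
        ring
    rw [List.map_append, List.prod_append, key vs fun a ha => (hvsQ a ha).1]
    ring
  rw [hprod] at hiff
  have hP : (vs.map fun a => Q a).prod ≠ 0 := List.prod_ne_zero fun h0 => by
    obtain ⟨a, ha, ha0⟩ := List.mem_map.mp h0
    exact (hvsQ a ha).2 ha0
  rw [FiniteForms.isSquare_sq_mul_iff hP] at hiff
  obtain ⟨k, hk⟩ := hodd
  rw [hk, pow_succ, two_mul, pow_add, FiniteForms.isSquare_sq_mul_iff (pow_ne_zero _ hl0)] at hiff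
  have := hiff.2
  rw [hl, div_eq_mul_inv, FiniteForms.isSquare_mul_iff hγ'0 (inv_ne_zero hγ0), isSquare_inv] at this
  exact this.symm

/-- The split classes inject into their polynomials. -/
theorem card_split_le (hQ : (polarBilin Q).Nondegenerate) (h2 : (2 : K) ≠ 0) {n : ℕ}
    (hcard : Fintype.card ι = 2 * n + 1) (hn : 2 ≤ n) :
    Nat.card {C // IsSplitClass (Cfsg.Omega K ⇑Q) (negOne Q) C} ≤ tCount (Fintype.card K) n (2 * n + 1) := by
  classical
  set O := ↥(Cfsg.isometryGroup K ⇑Q)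
  set B := polarBilin Q with hB
  haveI : Finite (Matrix ι ι K) := inferInstanceAs (Finite (ι → ι → K))
  haveI : Finite (Matrix.GeneralLinearGroup ι K) := Finite.of_injective _ Units.val_injective
  haveI : Finite O := Subtype.finite
  have hn' : 2 ≤ Fintype.card ι := by omega
  have hctx : ∀ g : O, Ctx B (endOf g) (1 : K) (Nat.card O) := fun g =>
    ⟨Nat.card_pos,
      by
        rw [endOf, ← map_pow, ← Units.val_pow_eq_pow_val, ← SubmonoidClass.coe_pow, pow_card_eq_one']
        exact map_one _,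
      fun u v => by
        have hQg : ∀ a, Q (g.1.1 *ᵥ a) = Q a := fun a => g.2 a a
        rw [endOf_apply, endOf_apply, hB, polarBilin_apply_apply, polarBilin_apply_apply, polar, polar,
          ← Matrix.mulVec_add, hQg, hQg, hQg],
      fun u v => by rw [one_mul, hB, polarBilin_apply_apply, polarBilin_apply_apply, polar_comm],
      h2⟩
  have hnd : ∀ u, (∀ w, B w u = 0) → u = 0 := hQ.2
  have hframe : ∀ g : O, ∃ m, Frame B (endOf g) (1 : K) ⊤ m ∧ Canon m := fun g =>
    exists_frame (hctx g) _ ⊤ le_rfl (fun u _ => trivial) fun u _ hz => hnd u fun w => hz w trivial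
  choose M hM hcan using hframe
  have hvt : ∀ g, ∀ t ∈ M g, VTag (1 : K) t := fun g => (hM g).vtag (hctx g)
  have hpmp : ∀ {p : K[X]}, IsPM p → (p.Monic ∧ Irreducible p) ∧ p.coeff 0 ≠ 0 := fun {p} hp => by
    obtain ⟨a, ha, rfl⟩ := hp.exists_eq
    exact ⟨⟨monic_X_sub_C a, irreducible_X_sub_C a⟩, by simpa using fun h0 : a = 0 => by simp [h0] at ha⟩
  let sp : O → Prop := fun g => ∀ y, Commute g y → y ∈ Cfsg.Omega K ⇑Q ∨ negOne Q * y ∈ Cfsg.Omega K ⇑Q
  have piece : ∀ {g : O} {p : K[X]} {e : ℕ} {s : Bool}, IsPM p → (p, e, some s) ∈ M g →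
      ∃ v, IsC B (endOf g) p e v ∧ decide (IsSquare (gram B (endOf g) v v (p ^ (e - 1)))) = s := by
    intro g p e s hp hmem
    obtain ⟨m', hm'⟩ := Multiset.exists_cons_of_mem hmem
    obtain ⟨W, U, hW, -, -, -⟩ := (hM g).extract (hctx g) hm'
    rcases hW with ⟨p', e', v, hv, ht, -⟩ | ⟨p', e', v, w, hv, ht, -⟩
    · simp only [Prod.mk.injEq, Option.some.injEq] at ht
      obtain ⟨rfl, rfl, hs⟩ := ht
      rw [sgn, if_pos hp] at hs
      exact ⟨v, hv, by convert hs.symm⟩
    · simp at ht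
  have cf : ∀ (g : O) {p : K[X]}, p.Monic ∧ Irreducible p → p.coeff 0 ≠ 0 → ∀ e,
      (UniqueFactorizationMonoid.normalizedFactors (lprod (M g) e)).count p =
        (M g).count (p, e, some true) + (M g).count (p, e, some false) +
          (if p = du p then 2 else 1) * (M g).count (p * du p, e, none) := fun g {p} hp hp0 e => by
    convert count_factor (hvt g) hp hp0 e
  have sign_eq : ∀ {g g' : O} {p : K[X]} {e : ℕ} {s s' : Bool}, sp g → sp g' → IsPM p →
      (p, e, some s) ∈ M g → (p, e, some s') ∈ M g' → s = s' := by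
    intro g g' p e s s' hg hg' hp hm hm'
    obtain ⟨v, hv, hs⟩ := piece hp hm
    obtain ⟨v', hv', hs'⟩ := piece hp hm'
    rw [← hs, ← hs', decide_eq_decide]
    exact split_sign_eq hQ hn' (hctx g) (hctx g') hg hg' hv hv' hp
  have hzero : ∀ {g : O} {p : K[X]} {e : ℕ}, IsPM p → Odd e → (M g).count (p * du p, e, none) = 0 := by
    intro g p e hp he
    obtain ⟨hpp, hp0⟩ := hpmp hp
    refine Multiset.count_eq_zero.mpr fun hmem => not_vtag_C_H h2 hpp hp0 (s := true) ?_ (hvt g _ hmem)
    refine Or.inl ⟨p, e, true, hpp.1, hpp.2, hp0, du_pm hp, he.pos, fun h => absurd hp h, fun _ => ?_, rfl⟩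
    rw [one_mul, (Nat.Odd.sub_odd he odd_one).neg_one_pow]
  have once : ∀ {g : O} {p : K[X]} {e : ℕ}, sp g → IsPM p → Odd e → ¬ p ^ 2 ∣ lprod (M g) e := by
    intro g p e hg hp he hdvd
    obtain ⟨hpp, hp0⟩ := hpmp hp
    have h1 := cf g hpp hp0 e
    rw [hzero hp he, mul_zero, add_zero] at h1
    have h3 : 2 ≤ (UniqueFactorizationMonoid.normalizedFactors (lprod (M g) e)).count p := by
      have h4 := (UniqueFactorizationMonoid.dvd_iff_normalizedFactors_le_normalizedFactors
        (pow_ne_zero 2 hpp.1.ne_zero) (lprod_facts (hvt g) e).1.ne_zero).mp hdvd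
      rw [UniqueFactorizationMonoid.normalizedFactors_pow,
        UniqueFactorizationMonoid.normalizedFactors_irreducible hpp.2, hpp.1.normalize_eq_self] at h4
      have h5 := Multiset.count_le_of_le p h4
      simpa using h5
    by_cases hf : (p, e, some false) ∈ M g
    · have hcf : (M g).count (p, e, some false) = 1 := by
        obtain ⟨m', hm'⟩ := Multiset.exists_cons_of_mem hf
        rw [hm', Multiset.count_cons_self, Multiset.count_eq_zero.mpr (hcan g _ m' rfl hm')]
      have : 0 < (M g).count (p, e, some true) := by omega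
      exact Bool.noConfusion (sign_eq hg hg hp hf (Multiset.count_pos.mp this))
    · rw [Multiset.count_eq_zero.mpr hf, add_zero] at h1
      obtain ⟨m₁, hm₁⟩ := Multiset.exists_cons_of_mem (Multiset.count_pos.mp (show 0 < (M g).count (p, e, some true) by omega))
      obtain ⟨W, U, hW, ho, -, hU⟩ := (hM g).extract (hctx g) hm₁
      have : 0 < m₁.count (p, e, some true) := by
        have h6 := congrArg (Multiset.count (p, e, some true)) hm₁
        rw [Multiset.count_cons_self] at h6
        omega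
      obtain ⟨m₂, hm₂⟩ := Multiset.exists_cons_of_mem (Multiset.count_pos.mp this)
      obtain ⟨W', U', hW', -, hUeq, -⟩ := hU.extract (hctx g) hm₂
      rcases hW with ⟨p₁, e₁, v₁, hv₁, ht, rfl⟩ | ⟨p₁, e₁, v, w, hv, ht, -⟩
      swap
      · simp at ht
      rcases hW' with ⟨p₂, e₂, v₂, hv₂, ht', rfl⟩ | ⟨p₂, e₂, v, w, hv, ht', -⟩
      swap
      · simp at ht'
      simp only [Prod.mk.injEq, Option.some.injEq] at ht ht'
      obtain ⟨rfl, rfl, hs⟩ := ht
      obtain ⟨rfl, rfl, -⟩ := ht'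
      rw [sgn, if_pos hp] at hs
      have ho' : ∀ r, gram B (endOf g) v₁ v₂ r = 0 := fun r =>
        ho v₁ ⟨1, by simp [orb_apply, act]⟩ _ (hUeq ▸ Submodule.mem_sup_left ⟨r, rfl⟩)
      have hchar : ringChar K ≠ 2 := fun hc => h2 (by
        have : ((ringChar K : ℕ) : K) = 0 := ringChar.Nat.cast_ringChar
        rw [hc] at this
        exact_mod_cast this)
      obtain ⟨c, hc⟩ := FiniteField.exists_nonsquare hchar
      obtain ⟨w, hw, hwc⟩ := exists_value (hctx g) hv₁ hv₂ hp ho' (c := c) fun h0 => hc (h0 ▸ IsSquare.zero)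
      have := (split_sign_eq hQ hn' (hctx g) (hctx g) hg hg hv₁ hw hp).mp (by simpa using hs.symm)
      rw [hwc] at this
      exact hc this
  let P := {C // IsSplitClass (Cfsg.Omega K ⇑Q) (negOne Q) C}
  have hrep : ∀ C : P, sp C.2.choose ∧ ConjClasses.mk C.2.choose = C.1 := fun C =>
    ⟨C.2.choose_spec.2, C.2.choose_spec.1⟩
  have hdim : ∀ g : O, ((M g).map fun t => t.2.1 * t.1.natDegree).sum = 2 * n + 1 := fun g => by
    rw [← (hM g).finrank (hctx g), finrank_top, Module.finrank_pi, hcard]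
  let Φ : P → TData K n (2 * n + 1) := fun C =>
    ⟨fun e => lprod (M C.2.choose) e,
      fun e => by
        refine ⟨lprod_facts (hvt _) e, fun he => ?_, fun he => ⟨once (hrep C).1 (Or.inl rfl) he,
          once (hrep C).1 (Or.inr rfl) he⟩⟩
        rcases Nat.eq_zero_or_pos e with rfl | he0
        · show (lprod (M C.2.choose) 0).coeff 0 = 1 ∧ Even (lprod (M C.2.choose) 0).natDegree
          rw [lprod_of_forall_ne fun t ht h => ?_]
          · simp
          · have := (hvt _ t ht).facts.2.2.2; omega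
        · have hev : Odd (e - 1) := Nat.Even.sub_odd he0 he odd_one
          exact lprod_even h2 (hvt _) (by rw [one_mul, hev.neg_one_pow]),
      fun e he => lprod_of_forall_ne fun t ht h => by
        have := exponent_le (hvt _) (hdim _) ht
        have := (hvt _ t ht).facts.2.2.2
        omega,
      by
        rw [weight_sum (hvt _) fun t ht => Finset.mem_Icc.mpr ⟨(hvt _ t ht).facts.2.2.2,
          exponent_le (hvt _) (hdim _) ht⟩, hdim]⟩
  have hΦ : Function.Injective Φ := by
    intro C C' h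
    obtain ⟨hs, hC⟩ := hrep C
    obtain ⟨hs', hC'⟩ := hrep C'
    set g := C.2.choose
    set g' := C'.2.choose
    have hprod : ∀ e, lprod (M g) e = lprod (M g') e := fun e => congrFun (congrArg Subtype.val h) e
    have half : ∀ {g g' : O}, sp g → sp g' → (∀ e, lprod (M g) e = lprod (M g') e) → ∀ p e, IsPM p →
        (p, e, some false) ∈ M g → (p, e, some false) ∈ M g' := by
      intro g g' hs hs' hprod p e hp hmem
      obtain ⟨hpp, hp0⟩ := hpmp hp
      have h1 := cf g hpp hp0 e
      have h1' := cf g' hpp hp0 e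
      have h0 : ∀ k : O, (M k).count (p * du p, e, none) = 0 := fun k => Multiset.count_eq_zero.mpr fun hh =>
        not_vtag_C_H h2 hpp hp0 (hvt g _ hmem) (hvt k _ hh)
      rw [h0, mul_zero, add_zero, hprod e, h1', h0, mul_zero, add_zero] at h1
      have := Multiset.count_pos.mpr hmem
      by_contra hno
      rw [Multiset.count_eq_zero.mpr hno] at h1
      exact Bool.noConfusion (sign_eq hs hs' hp hmem
        (Multiset.count_pos.mp (show 0 < (M g').count (p, e, some true) by omega)))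
    have hmm : M g = M g' := labels_ext h2 (hvt g) (hvt g') (hcan g) (hcan g') hprod fun p e hp =>
      ⟨half hs hs' hprod p e hp, half hs' hs (fun e => (hprod e).symm) p e hp⟩
    obtain ⟨T, hTc, hTp⟩ := exists_equiv_of_frame (hctx g) (hctx g') hnd (hM g) (hmm ▸ hM g')
    refine Subtype.ext ?_
    rw [← hC, ← hC', ConjClasses.mk_eq_mk_iff_isConj]
    set t := Matrix.toLinAlgEquiv'.symm T.toLinearMap with ht
    have htT : ∀ u, t *ᵥ u = T u := fun u => by
      rw [← Matrix.toLinAlgEquiv'_apply, ht, AlgEquiv.apply_symm_apply]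
      rfl
    have htQ : ∀ u, Q (t *ᵥ u) = Q u := fun u => by
      have := hTp u u
      rw [← htT, hB, polarBilin_apply_apply, polarBilin_apply_apply, polar_self, polar_self, nsmul_eq_mul,
        nsmul_eq_mul] at this
      exact mul_left_cancel₀ h2 (by exact_mod_cast this)
    have htdet : t.det ≠ 0 := fun h0 => by
      obtain ⟨u, hu, hu'⟩ := Matrix.exists_mulVec_eq_zero_iff.mpr h0
      rw [htT] at hu'
      exact hu (T.map_eq_zero_iff.mp hu')
    refine isConj_iff.mpr ⟨⟨Matrix.GeneralLinearGroup.mkOfDetNeZero t htdet, fun u _ => htQ u⟩,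
      mul_inv_eq_iff_eq_mul.mpr (Subtype.ext (Units.ext ?_))⟩
    show t * g.1.1 = g'.1.1 * t
    refine Matrix.ext_of_mulVec_single fun i => ?_
    rw [← Matrix.mulVec_mulVec, ← Matrix.mulVec_mulVec, htT, htT, ← endOf_apply g, ← endOf_apply g']
    exact hTc _
  obtain ⟨_, hB'⟩ := TData.bound (K := K) h2 n (2 * n + 1)
  exact (Nat.card_le_card_of_injective Φ hΦ).trans hB'

end Omega

end CfsgLib.IsometryClasses
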