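import Cfsg.Agent.Lib.IsometryClasses.SpCount

/-!
The count of orthogonal invariants.
-/

set_option autoImplicit false
set_option linter.unusedSectionVars false

namespace CfsgLib.IsometryClasses

open Polynomial Finset

universe u

variable (K : Type u) [Field K]

/-- Admissible orthogonal data at an exponent; without `b` the signs are absent. -/
def OkO {K : Type u} [Field K] (b : Bool) (e : ℕ) (z : Datum K) : Prop :=
  (z.1.Monic ∧ du z.1 = z.1 ∧ z.1.coeff 0 ≠ 0) ∧
    ((Even e ∨ b = false) → z.1.coeff 0 = 1 ∧ Even z.1.natDegree ∧ z.2.1 = false ∧ z.2.2 = false) ∧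
    (z.2.1 = true → z.1.IsRoot 1) ∧ (z.2.2 = true → z.1.IsRoot (-1))

/-- Orthogonal invariants of dimension `M` with exponents at most `2j+1`. -/
def OrData (b : Bool) (j M : ℕ) : Type u :=
  {f : ℕ → Datum K // (∀ e, OkO b e (f e)) ∧ (∀ e, (e = 0 ∨ 2 * j + 1 < e) → f e = (1, false, false)) ∧
    ∑ e ∈ Icc 1 (2 * j + 1), e * (f e).1.natDegree = M}

/-- The options at an odd exponent. -/
def opt (q : ℕ) (b : Bool) (m : ℕ) : ℕ :=
  if b then cc q m else if Even m then q ^ (m / 2) else 0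

/-- The recursive bound. -/
def oCount (q : ℕ) (b : Bool) : ℕ → ℕ → ℕ
  | 0, M => opt q b M
  | j + 1, M => ∑ D ∈ range (M + 1), ∑ m ∈ range (M + 1),
      if 4 * (j + 1) * D + (2 * j + 3) * m ≤ M then
        q ^ D * opt q b m * oCount q b j (M - (4 * (j + 1) * D + (2 * j + 3) * m)) else 0

variable {K} [Fintype K]

/-- The degree and marked polynomial at an odd exponent. -/
def OptT (K : Type u) [Field K] (b : Bool) (m : ℕ) : Type u :=
  {z : Datum K // OkO b 1 z ∧ z.1.natDegree = m}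

theorem OptT.bound (h2 : (2 : K) ≠ 0) (b : Bool) (m : ℕ) :
    Finite (OptT K b m) ∧ Nat.card (OptT K b m) ≤ opt (Fintype.card K) b m := by
  obtain ⟨_, hB⟩ := SDM.bound (K := K) h2 m
  cases b
  · rcases Nat.even_or_odd m with ⟨D, rfl⟩ | hm
    · obtain ⟨_, hA⟩ := SD1.bound (K := K) D
      let Φ : OptT K false (D + D) → SD1 K D := fun z =>
        ⟨⟨z.1.1, z.2.1.1.1, by rw [z.2.2]; ring, z.2.1.1.2.1, z.2.1.1.2.2⟩, (z.2.1.2.1 (Or.inr rfl)).1⟩
      have hΦ : Function.Injective Φ := fun z z' h => by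
        obtain ⟨-, -, a1, a2⟩ := z.2.1.2.1 (Or.inr rfl)
        obtain ⟨-, -, b1, b2⟩ := z'.2.1.2.1 (Or.inr rfl)
        exact Subtype.ext (Prod.ext (congrArg (fun w => w.1.1) h) (Prod.ext (a1.trans b1.symm) (a2.trans b2.symm)))
      refine ⟨Finite.of_injective Φ hΦ, (Nat.card_le_card_of_injective Φ hΦ).trans (hA.trans (le_of_eq ?_))⟩
      simp [opt, show (D + D) / 2 = D by omega]
    · haveI : IsEmpty (OptT K false m) := ⟨fun z => Nat.not_even_iff_odd.mpr hm (z.2.2 ▸ (z.2.1.2.1 (Or.inr rfl)).2.1)⟩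
      exact ⟨inferInstance, (Nat.card_of_isEmpty (α := OptT K false m)).trans_le (Nat.zero_le _)⟩
  · let Φ : OptT K true m → SDM K m := fun z =>
      ⟨z.1, ⟨z.2.1.1.1, z.2.2, z.2.1.1.2.1, z.2.1.1.2.2⟩, z.2.1.2.2⟩
    have hΦ : Function.Injective Φ := fun z z' h => Subtype.ext (congrArg (fun w : SDM K m => w.1) h)
    exact ⟨Finite.of_injective Φ hΦ, (Nat.card_le_card_of_injective Φ hΦ).trans (hB.trans (le_of_eq (by simp [opt])))⟩

theorem okO_odd {b : Bool} {e : ℕ} (he : Odd e) {z : Datum K} (h : OkO b e z) : OkO b 1 z :=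
  ⟨h.1, fun h1 => h.2.1 (h1.elim (fun h1 => absurd h1 Nat.not_even_one) Or.inr), h.2.2⟩

theorem OrData.bound (h2 : (2 : K) ≠ 0) (b : Bool) : ∀ j M,
    Finite (OrData K b j M) ∧ Nat.card (OrData K b j M) ≤ oCount (Fintype.card K) b j M := by
  intro j
  induction j with
  | zero =>
    intro M
    obtain ⟨_, hO⟩ := OptT.bound h2 b M
    let Φ : OrData K b 0 M → OptT K b M := fun f => ⟨f.1 1, f.2.1 1, by
      have h := f.2.2.2
      simpa only [mul_zero, zero_add, Icc_self, sum_singleton, one_mul] using h⟩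
    have hΦ : Function.Injective Φ := fun f f' h => by
      refine Subtype.ext (funext fun e => ?_)
      by_cases he : e = 1
      · subst he; exact congrArg (fun z : OptT K b M => z.1) h
      · rw [f.2.2.1 e (by omega), f'.2.2.1 e (by omega)]
    exact ⟨Finite.of_injective Φ hΦ, (Nat.card_le_card_of_injective Φ hΦ).trans hO⟩
  | succ j ih =>
    intro M
    classical
    have hodd : Odd (2 * j + 3) := ⟨j + 1, by ring⟩
    have heven : Even (2 * j + 2) := ⟨j + 1, by ring⟩
    have hsum : ∀ f : OrData K b (j + 1) M, ∑ e ∈ Icc 1 (2 * j + 1), e * (f.1 e).1.natDegree +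
        4 * (j + 1) * ((f.1 (2 * j + 2)).1.natDegree / 2) + (2 * j + 3) * (f.1 (2 * j + 3)).1.natDegree = M := by
      intro f
      have h : ∑ e ∈ Icc 1 (2 * j + 1 + 1 + 1), e * (f.1 e).1.natDegree = M := f.2.2.2
      rw [Finset.sum_Icc_succ_top (by omega),
        Finset.sum_Icc_succ_top (by omega), show 2 * j + 1 + 1 + 1 = 2 * j + 3 by ring,
        show 2 * j + 1 + 1 = 2 * j + 2 by ring] at h
      obtain ⟨k, hk⟩ := ((f.2.1 _).2.1 (Or.inl heven)).2.1
      rw [hk] at h
      rw [hk, show (k + k) / 2 = k by omega]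
      rw [show 4 * (j + 1) * k = (2 * j + 2) * (k + k) by ring]
      exact h
    let key : OrData K b (j + 1) M → Fin (M + 1) × Fin (M + 1) := fun f =>
      (⟨(f.1 (2 * j + 2)).1.natDegree / 2, by
          have := hsum f
          have := Nat.le_mul_of_pos_left ((f.1 (2 * j + 2)).1.natDegree / 2) (show 0 < 4 * (j + 1) by omega)
          omega⟩,
        ⟨(f.1 (2 * j + 3)).1.natDegree, by
          have := hsum f
          have := Nat.le_mul_of_pos_left (f.1 (2 * j + 3)).1.natDegree (show 0 < 2 * j + 3 by omega)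
          omega⟩)
    have hfib : ∀ z, Finite {f // key f = z} ∧ Nat.card {f // key f = z} ≤
        if 4 * (j + 1) * (z.1 : ℕ) + (2 * j + 3) * (z.2 : ℕ) ≤ M then
          Fintype.card K ^ (z.1 : ℕ) * opt (Fintype.card K) b z.2 *
            oCount (Fintype.card K) b j (M - (4 * (j + 1) * (z.1 : ℕ) + (2 * j + 3) * (z.2 : ℕ)))
        else 0 := by
      rintro ⟨⟨D, hD⟩, ⟨m, hm⟩⟩
      have hkey : ∀ f : {f // key f = (⟨D, hD⟩, ⟨m, hm⟩)},
          (f.1.1 (2 * j + 2)).1.natDegree / 2 = D ∧ (f.1.1 (2 * j + 3)).1.natDegree = m := fun f =>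
        ⟨congrArg (fun z => (z.1 : ℕ)) f.2, congrArg (fun z => (z.2 : ℕ)) f.2⟩
      simp only
      split_ifs with hle
      swap
      · haveI : IsEmpty {f // key f = (⟨D, hD⟩, ⟨m, hm⟩)} := ⟨fun f => hle (by
          obtain ⟨h1, h1'⟩ := hkey f
          have := hsum f.1
          rw [h1, h1'] at this
          omega)⟩
        exact ⟨inferInstance, (Nat.card_of_isEmpty (α := {f // key f = (⟨D, hD⟩, ⟨m, hm⟩)})).le⟩
      set M' := M - (4 * (j + 1) * D + (2 * j + 3) * m) with hM'
      obtain ⟨_, hS⟩ := ih M'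
      obtain ⟨_, hA⟩ := SD1.bound (K := K) D
      obtain ⟨_, hB⟩ := OptT.bound (K := K) h2 b m
      let Φ : {f // key f = (⟨D, hD⟩, ⟨m, hm⟩)} → (SD1 K D × OptT K b m) × OrData K b j M' := fun f =>
        ((⟨⟨(f.1.1 (2 * j + 2)).1, (f.1.2.1 _).1.1, by
            obtain ⟨k, hk⟩ := ((f.1.2.1 (2 * j + 2)).2.1 (Or.inl heven)).2.1
            have := (hkey f).1
            omega, (f.1.2.1 _).1.2.1, (f.1.2.1 _).1.2.2⟩, ((f.1.2.1 _).2.1 (Or.inl heven)).1⟩,
          ⟨f.1.1 (2 * j + 3), okO_odd hodd (f.1.2.1 _), (hkey f).2⟩),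
        ⟨fun e => if e ≤ 2 * j + 1 then f.1.1 e else (1, false, false),
          fun e => by
            show OkO b e (if e ≤ 2 * j + 1 then f.1.1 e else (1, false, false))
            split_ifs
            · exact f.1.2.1 e
            · exact ⟨⟨monic_one, SUClassNumber.dualP_one, by simp⟩, fun _ => by simp, by simp, by simp⟩,
          fun e he => by
            show (if e ≤ 2 * j + 1 then f.1.1 e else (1, false, false)) = _
            split_ifs with h
            · exact f.1.2.2.1 e (by omega)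
            · rfl,
          by
            have := hsum f.1
            rw [(hkey f).1, (hkey f).2] at this
            rw [Finset.sum_congr rfl (g := fun e => e * (f.1.1 e).1.natDegree) fun e he => by
              simp only [Finset.mem_Icc] at he
              simp only [if_pos he.2]]
            omega⟩)
      have hΦ : Function.Injective Φ := by
        intro f f' h
        have h1 : (Φ f).1.1 = (Φ f').1.1 := congrArg (fun z => z.1.1) h
        have h2' : (Φ f).1.2 = (Φ f').1.2 := congrArg (fun z => z.1.2) h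
        have h3 : (Φ f).2 = (Φ f').2 := congrArg (fun z => z.2) h
        refine Subtype.ext (Subtype.ext (funext fun e => ?_))
        by_cases e1 : e ≤ 2 * j + 1
        · have := congrFun (congrArg Subtype.val h3) e
          simpa [Φ, e1] using this
        · by_cases e2 : e = 2 * j + 2
          · subst e2
            obtain ⟨-, -, a1, a2⟩ := (f.1.2.1 _).2.1 (Or.inl heven)
            obtain ⟨-, -, b1, b2⟩ := (f'.1.2.1 _).2.1 (Or.inl heven)
            exact Prod.ext (congrArg (fun z => z.1.1) h1) (Prod.ext (a1.trans b1.symm) (a2.trans b2.symm))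
          · by_cases e3 : e = 2 * j + 3
            · subst e3
              exact congrArg (fun z : OptT K b m => z.1) h2'
            · rw [f.1.2.2.1 e (by omega), f'.1.2.2.1 e (by omega)]
      refine ⟨Finite.of_injective Φ hΦ, (Nat.card_le_card_of_injective Φ hΦ).trans ?_⟩
      rw [Nat.card_prod, Nat.card_prod]
      exact Nat.mul_le_mul (Nat.mul_le_mul hA hB) hS
    haveI := fun z => (hfib z).1
    have hfin : Finite (OrData K b (j + 1) M) := Finite.of_equiv _ (Equiv.sigmaFiberEquiv key)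
    refine ⟨hfin, ?_⟩
    rw [← Nat.card_congr (Equiv.sigmaFiberEquiv key), Nat.card_sigma]
    refine (Finset.sum_le_sum fun z _ => (hfib z).2).trans (le_of_eq ?_)
    rw [Fintype.sum_prod_type, oCount]
    rw [← Fin.sum_univ_eq_sum_range]
    refine Finset.sum_congr rfl fun D _ => ?_
    rw [← Fin.sum_univ_eq_sum_range]

/-- Numerators of the even and odd parts of the options. -/
def evN (b : Bool) (z : ℚ) : ℚ := if b then 1 + 6 * z + z ^ 2 else 1

/-- Numerators of the odd part. -/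
def odN (b : Bool) (z : ℚ) : ℚ := if b then 4 + 4 * z else 0

theorem opt_even_series (q : ℕ) (b : Bool) (z : ℚ) (hz : 0 ≤ z) (hqz : (q : ℚ) * z < 1) (n : ℕ) :
    ∑ i ∈ range (n + 1), (opt q b (2 * i) : ℚ) * z ^ i ≤ evN b z / (1 - q * z) := by
  rw [le_div_iff₀ (by linarith)]
  set S := fun n => ∑ i ∈ range (n + 1), (opt q b (2 * i) : ℚ) * z ^ i with hS
  have hmono : S n ≤ S (n + 1) := by
    simp only [hS]
    rw [Finset.sum_range_succ _ (n + 1)]
    exact le_add_of_nonneg_right (by positivity)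
  suffices h : S (n + 1) ≤ evN b z + q * z * S n by
    show S n * _ ≤ _
    nlinarith
  simp only [hS]
  rw [Finset.sum_range_succ']
  cases b
  · have hopt : ∀ i, (opt q false (2 * i) : ℚ) = (q : ℚ) ^ i := fun i => by simp [opt]
    simp only [hopt, evN, Bool.false_eq_true, if_false, pow_zero, mul_one]
    rw [Finset.mul_sum, add_comm]
    exact le_of_eq (congrArg _ (Finset.sum_congr rfl fun i _ => by ring))
  · have hopt : ∀ i, (opt q true (2 * (i + 1)) : ℚ) = q * (opt q true (2 * i) : ℚ) + (Nat.choose 4 (2 * i + 2) : ℚ) := fun i => by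
      simp [opt, show 2 * (i + 1) = 2 * i + 2 by ring, cc]
    have htail : ∀ n, ∑ i ∈ range n, (Nat.choose 4 (2 * i + 2) : ℚ) * z ^ (i + 1) ≤ 6 * z + z ^ 2 := by
      intro n
      rcases n with _ | _ | n
      · simp; positivity
      · norm_num [Nat.choose]; nlinarith
      · rw [← Finset.sum_subset (Finset.range_subset_range.mpr (show 2 ≤ n + 2 by omega)) fun i _ hi => by
          rw [Finset.mem_range, not_lt] at hi
          rw [Nat.choose_eq_zero_of_lt (by omega)]; simp]
        norm_num [Finset.sum_range_succ, Nat.choose]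
    have h0 : (opt q true (2 * 0) : ℚ) * z ^ 0 = 1 := by simp [opt, cc]
    rw [h0, Finset.sum_congr rfl fun i _ => show (opt q true (2 * (i + 1)) : ℚ) * z ^ (i + 1) =
      q * z * ((opt q true (2 * i) : ℚ) * z ^ i) + (Nat.choose 4 (2 * i + 2) : ℚ) * z ^ (i + 1) by rw [hopt]; ring,
      Finset.sum_add_distrib, ← Finset.mul_sum]
    simp only [evN, if_true]
    linarith [htail (n + 1)]

theorem opt_odd_series (q : ℕ) (b : Bool) (z : ℚ) (hz : 0 ≤ z) (hqz : (q : ℚ) * z < 1) (n : ℕ) :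
    ∑ i ∈ range (n + 1), (opt q b (2 * i + 1) : ℚ) * z ^ i ≤ odN b z / (1 - q * z) := by
  rw [le_div_iff₀ (by linarith)]
  set S := fun n => ∑ i ∈ range (n + 1), (opt q b (2 * i + 1) : ℚ) * z ^ i with hS
  have hmono : S n ≤ S (n + 1) := by
    simp only [hS]
    rw [Finset.sum_range_succ _ (n + 1)]
    exact le_add_of_nonneg_right (by positivity)
  suffices h : S (n + 1) ≤ odN b z + q * z * S n by
    show S n * _ ≤ _
    nlinarith
  simp only [hS]
  cases b
  · simp [opt, odN]
  rw [Finset.sum_range_succ']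
  have hopt : ∀ i, (opt q true (2 * (i + 1) + 1) : ℚ) = q * (opt q true (2 * i + 1) : ℚ) + (Nat.choose 4 (2 * i + 3) : ℚ) := fun i => by
    simp [opt, show 2 * (i + 1) + 1 = (2 * i + 1) + 2 by ring, cc]
  have htail : ∀ n, ∑ i ∈ range n, (Nat.choose 4 (2 * i + 3) : ℚ) * z ^ (i + 1) ≤ 4 * z := by
    intro n
    rcases n with _ | n
    · simp; positivity
    · rw [← Finset.sum_subset (Finset.range_subset_range.mpr (show 1 ≤ n + 1 by omega)) fun i _ hi => by
        rw [Finset.mem_range, not_lt] at hi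
        rw [Nat.choose_eq_zero_of_lt (by omega)]; simp]
      norm_num [Nat.choose]
  have h0 : (opt q true (2 * 0 + 1) : ℚ) * z ^ 0 = 4 := by simp [opt, cc]
  rw [h0, Finset.sum_congr rfl fun i _ => show (opt q true (2 * (i + 1) + 1) : ℚ) * z ^ (i + 1) =
    q * z * ((opt q true (2 * i + 1) : ℚ) * z ^ i) + (Nat.choose 4 (2 * i + 3) : ℚ) * z ^ (i + 1) by rw [hopt]; ring,
    Finset.sum_add_distrib, ← Finset.mul_sum]
  simp only [odN, if_true]
  linarith [htail (n + 1)]

theorem opt_base (q : ℕ) (hq : 1 ≤ q) (b : Bool) (n : ℕ) :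
    (opt q b (2 * n) : ℚ) ≤ evN b ((q : ℚ)⁻¹) * (q : ℚ) ^ n ∧
      (opt q b (2 * n + 1) : ℚ) ≤ odN b ((q : ℚ)⁻¹) * (q : ℚ) ^ n := by
  cases b
  · simp [opt, evN, odN, Nat.not_even_iff_odd]
  have hqQ : (q : ℚ) ≠ 0 := Nat.cast_ne_zero.mpr (by omega)
  induction n with
  | zero =>
    simp only [opt, evN, odN, if_true, mul_zero, zero_add, cc, pow_zero, mul_one]
    constructor <;> push_cast
    · have : (0 : ℚ) ≤ 6 * (q : ℚ)⁻¹ + (q : ℚ)⁻¹ ^ 2 := by positivity
      linarith
    · have : (0 : ℚ) ≤ 4 * (q : ℚ)⁻¹ := by positivity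
      linarith
  | succ n ih =>
    simp only [opt, evN, odN, if_true] at ih ⊢
    rw [show 2 * (n + 1) = 2 * n + 2 by ring, show 2 * n + 2 + 1 = (2 * n + 1) + 2 by ring, cc, cc]
    push_cast
    rcases n with _ | _ | n
    · simp [cc, Nat.choose]
      constructor <;> field_simp <;> nlinarith
    · simp [cc, Nat.choose]
      constructor <;> field_simp <;> nlinarith
    · rw [Nat.choose_eq_zero_of_lt (by omega), Nat.choose_eq_zero_of_lt (by omega)]
      push_cast
      rw [add_zero, add_zero, pow_succ _ (n + 1 + 1)]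
      constructor <;> nlinarith [ih.1, ih.2, mul_le_mul_of_nonneg_left ih.1 (Nat.cast_nonneg q : (0:ℚ) ≤ q),
        mul_le_mul_of_nonneg_left ih.2 (Nat.cast_nonneg q : (0:ℚ) ≤ q)]

/-- The leading coefficients in even and odd dimension. -/
def oLead (b : Bool) (x : ℚ) : ℕ → ℚ × ℚ
  | 0 => (evN b x, odN b x)
  | j + 1 =>
    (((oLead b x j).1 * evN b (x ^ (2 * j + 3)) + (oLead b x j).2 * x ^ (j + 2) * odN b (x ^ (2 * j + 3))) /
        ((1 - x ^ (2 * j + 1)) * (1 - x ^ (2 * j + 2))),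
      ((oLead b x j).2 * evN b (x ^ (2 * j + 3)) + (oLead b x j).1 * x ^ (j + 1) * odN b (x ^ (2 * j + 3))) /
        ((1 - x ^ (2 * j + 1)) * (1 - x ^ (2 * j + 2))))

theorem num_nonneg (b : Bool) {z : ℚ} (hz : 0 ≤ z) : 0 ≤ evN b z ∧ 0 ≤ odN b z ∧ 1 ≤ evN b z := by
  cases b <;> simp only [evN, odN, if_true, Bool.false_eq_true, if_false]
  · exact ⟨zero_le_one, le_rfl, le_rfl⟩
  · exact ⟨by positivity, by positivity, by nlinarith⟩

theorem oLead_nonneg (b : Bool) (x : ℚ) (hx0 : 0 ≤ x) (hx1 : x < 1) :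
    ∀ j, 0 ≤ (oLead b x j).1 ∧ 0 ≤ (oLead b x j).2 := by
  intro j
  induction j with
  | zero => exact ⟨(num_nonneg b hx0).1, (num_nonneg b hx0).2.1⟩
  | succ j ih =>
    obtain ⟨h1, h2, -⟩ := num_nonneg b (pow_nonneg hx0 (2 * j + 3))
    have hb1 : x ^ (2 * j + 1) < 1 := pow_lt_one₀ hx0 hx1 (by omega)
    have hb2 : x ^ (2 * j + 2) < 1 := pow_lt_one₀ hx0 hx1 (by omega)
    have hden : 0 < (1 - x ^ (2 * j + 1)) * (1 - x ^ (2 * j + 2)) := mul_pos (by linarith) (by linarith)
    obtain ⟨i1, i2⟩ := ih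
    constructor <;> (simp only [oLead]; exact div_nonneg (by positivity) hden.le)

theorem sum_parity {f : ℕ → ℚ} : ∀ n, ∑ m ∈ range (2 * n), f m = ∑ i ∈ range n, (f (2 * i) + f (2 * i + 1)) := by
  intro n
  induction n with
  | zero => simp
  | succ n ih => rw [show 2 * (n + 1) = 2 * n + 1 + 1 by ring, sum_range_succ, sum_range_succ, ih, sum_range_succ]; ring

theorem oCount_le_lead (q : ℕ) (hq : 2 ≤ q) (b : Bool) : ∀ j n : ℕ,
    (oCount q b j (2 * n) : ℚ) ≤ (oLead b ((q : ℚ)⁻¹) j).1 * (q : ℚ) ^ n ∧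
      (oCount q b j (2 * n + 1) : ℚ) ≤ (oLead b ((q : ℚ)⁻¹) j).2 * (q : ℚ) ^ n := by
  have hqQ : (q : ℚ) ≠ 0 := Nat.cast_ne_zero.mpr (by omega)
  have hx0 : (0 : ℚ) ≤ (q : ℚ)⁻¹ := by positivity
  have hx1 : (q : ℚ)⁻¹ < 1 := inv_lt_one_of_one_lt₀ (by exact_mod_cast hq)
  intro j
  induction j with
  | zero => intro n; exact opt_base q (by omega) b n
  | succ j ih =>
    intro n
    set x : ℚ := (q : ℚ)⁻¹ with hx
    have hqx : (q : ℚ) * x = 1 := mul_inv_cancel₀ hqQ
    set A := (oLead b x j).1 with hA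
    set B := (oLead b x j).2 with hB
    obtain ⟨hA0, hB0⟩ := oLead_nonneg b x hx0 hx1 j
    set z := x ^ (2 * j + 3) with hz
    set w := x ^ (2 * j + 1) with hw'
    have hz0 : 0 ≤ z := by positivity
    have hqz : (q : ℚ) * z = x ^ (2 * j + 2) := by
      rw [hz, pow_succ' x (2 * j + 2), ← mul_assoc, hqx, one_mul]
    have hb1 : w < 1 := pow_lt_one₀ hx0 hx1 (by omega)
    have hb2 : x ^ (2 * j + 2) < 1 := pow_lt_one₀ hx0 hx1 (by omega)
    have hqw : (q : ℚ) * x ^ (2 * (j + 1)) = w := by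
      rw [hw', show 2 * (j + 1) = (2 * j + 1) + 1 by ring, pow_succ' x (2 * j + 1), ← mul_assoc, hqx, one_mul]
    have gen : ∀ (M : ℕ), M = 2 * n ∨ M = 2 * n + 1 → ∀ (U V : ℚ), 0 ≤ U → 0 ≤ V →
        (∀ D i, 4 * (j + 1) * D + (2 * j + 3) * (2 * i) ≤ M →
          (oCount q b j (M - (4 * (j + 1) * D + (2 * j + 3) * (2 * i))) : ℚ) ≤
            U * ((q : ℚ) ^ n * ((x ^ (2 * (j + 1))) ^ D * z ^ i))) →
        (∀ D i, 4 * (j + 1) * D + (2 * j + 3) * (2 * i + 1) ≤ M →
          (oCount q b j (M - (4 * (j + 1) * D + (2 * j + 3) * (2 * i + 1))) : ℚ) ≤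
            V * ((q : ℚ) ^ n * ((x ^ (2 * (j + 1))) ^ D * z ^ i))) →
        (oCount q b (j + 1) M : ℚ) ≤
          ((U * evN b z + V * odN b z) / ((1 - w) * (1 - x ^ (2 * j + 2)))) * (q : ℚ) ^ n := by
      intro M hM U V hU hV hUb hVb
      rw [oCount]
      push_cast
      set G : ℕ → ℕ → ℚ := fun D m => if Even m then U * ((q : ℚ) ^ n * (w ^ D * ((opt q b m : ℚ) * z ^ (m / 2))))
        else V * ((q : ℚ) ^ n * (w ^ D * ((opt q b m : ℚ) * z ^ (m / 2)))) with hG
      have hG0 : ∀ D m, 0 ≤ G D m := fun D m => by simp only [hG]; split_ifs <;> positivity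
      calc ∑ D ∈ range (M + 1), ∑ m ∈ range (M + 1),
            (if 4 * (j + 1) * D + (2 * j + 3) * m ≤ M then (q : ℚ) ^ D * (opt q b m : ℚ) *
              (oCount q b j (M - (4 * (j + 1) * D + (2 * j + 3) * m)) : ℚ) else 0)
          ≤ ∑ D ∈ range (M + 1), ∑ m ∈ range (2 * (n + 1)), G D m := by
            refine Finset.sum_le_sum fun D _ => ?_
            refine (Finset.sum_le_sum fun m _ => ?_).trans (Finset.sum_le_sum_of_subset_of_nonneg
              (Finset.range_subset_range.mpr (by omega)) fun m _ _ => hG0 D m)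
            split_ifs with hle
            swap
            · exact hG0 D m
            simp only [hG]
            split_ifs with he
            · obtain ⟨i, rfl⟩ := he
              rw [← two_mul i] at hle ⊢
              refine (mul_le_mul_of_nonneg_left (hUb D i hle) (by positivity)).trans (le_of_eq ?_)
              rw [show 2 * i / 2 = i by omega, ← hqw, mul_pow]
              ring
            · obtain ⟨i, rfl⟩ := Nat.not_even_iff_odd.mp he
              refine (mul_le_mul_of_nonneg_left (hVb D i hle) (by positivity)).trans (le_of_eq ?_)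
              rw [show (2 * i + 1) / 2 = i by omega, ← hqw, mul_pow]
              ring
        _ = (q : ℚ) ^ n * (∑ D ∈ range (M + 1), w ^ D) *
            (U * ∑ i ∈ range (n + 1), (opt q b (2 * i) : ℚ) * z ^ i +
              V * ∑ i ∈ range (n + 1), (opt q b (2 * i + 1) : ℚ) * z ^ i) := by
            rw [mul_assoc, Finset.sum_mul, Finset.mul_sum]
            refine Finset.sum_congr rfl fun D _ => ?_
            rw [sum_parity, Finset.sum_add_distrib, Finset.mul_sum, Finset.mul_sum, mul_add, mul_add,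
              Finset.mul_sum, Finset.mul_sum, Finset.mul_sum, Finset.mul_sum]
            congr 1 <;> refine Finset.sum_congr rfl fun i _ => ?_
            · simp only [hG, if_pos (even_two_mul i), show 2 * i / 2 = i by omega]; ring
            · simp only [hG, if_neg (Nat.not_even_two_mul_add_one i), show (2 * i + 1) / 2 = i by omega]; ring
        _ ≤ (q : ℚ) ^ n * (1 / (1 - w)) *
            (U * (evN b z / (1 - x ^ (2 * j + 2))) + V * (odN b z / (1 - x ^ (2 * j + 2)))) := by
            refine mul_le_mul (mul_le_mul_of_nonneg_left ?_ (by positivity)) (add_le_add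
              (mul_le_mul_of_nonneg_left ?_ hU) (mul_le_mul_of_nonneg_left ?_ hV)) (by positivity)
              (mul_nonneg (by positivity) (div_nonneg zero_le_one (by linarith)))
            · rw [le_div_iff₀ (by linarith), geom_sum_mul_neg]
              have : (0 : ℚ) ≤ w ^ (M + 1) := by positivity
              linarith
            · have h := opt_even_series q b z hz0 (by rw [hqz]; exact hb2) n
              rwa [hqz] at h
            · have h := opt_odd_series q b z hz0 (by rw [hqz]; exact hb2) n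
              rwa [hqz] at h
        _ = _ := by
            rw [← mul_div_assoc U, ← mul_div_assoc V, ← add_div, mul_assoc, div_mul_div_comm, one_mul]
            ring
    have hpow : ∀ D i t, 2 * (j + 1) * D + (2 * j + 3) * i + t ≤ n →
        (q : ℚ) ^ (n - (2 * (j + 1) * D + (2 * j + 3) * i + t)) =
          x ^ t * ((q : ℚ) ^ n * ((x ^ (2 * (j + 1))) ^ D * z ^ i)) := fun D i t h => by
      rw [hz, ← pow_mul, ← pow_mul, ← pow_add, hx, pow_sub₀ _ hqQ h, inv_pow]
      rw [pow_add (q : ℚ) (2 * (j + 1) * D + (2 * j + 3) * i) t]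
      ring
    constructor
    · have hev : ∀ D i, 4 * (j + 1) * D + (2 * j + 3) * (2 * i) = 2 * (2 * (j + 1) * D + (2 * j + 3) * i) :=
        fun D i => by ring
      have hod : ∀ D i, 4 * (j + 1) * D + (2 * j + 3) * (2 * i + 1) =
          2 * (2 * (j + 1) * D + (2 * j + 3) * i) + (2 * j + 3) := fun D i => by ring
      refine (gen (2 * n) (Or.inl rfl) A (B * x ^ (j + 2)) hA0 (by positivity) (fun D i hle => ?_) fun D i hle => ?_).trans
        (le_of_eq ?_)
      · rw [hev] at hle ⊢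
        rw [← Nat.mul_sub]
        refine (ih _).1.trans (le_of_eq ?_)
        rw [← Nat.add_zero (2 * (j + 1) * D + (2 * j + 3) * i), hpow D i 0 (by omega), pow_zero, one_mul]
      · rw [hod] at hle ⊢
        rw [show 2 * n - (2 * (2 * (j + 1) * D + (2 * j + 3) * i) + (2 * j + 3)) =
          2 * (n - (2 * (j + 1) * D + (2 * j + 3) * i + (j + 2))) + 1 by omega]
        refine (ih _).2.trans (le_of_eq ?_)
        rw [hpow D i (j + 2) (by omega)]
        ring
      · simp only [oLead, ← hA, ← hB, ← hz, ← hw']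
    · have hev : ∀ D i, 4 * (j + 1) * D + (2 * j + 3) * (2 * i) = 2 * (2 * (j + 1) * D + (2 * j + 3) * i) :=
        fun D i => by ring
      have hod : ∀ D i, 4 * (j + 1) * D + (2 * j + 3) * (2 * i + 1) =
          2 * (2 * (j + 1) * D + (2 * j + 3) * i) + (2 * j + 3) := fun D i => by ring
      refine (gen (2 * n + 1) (Or.inr rfl) B (A * x ^ (j + 1)) hB0 (by positivity) (fun D i hle => ?_) fun D i hle => ?_).trans
        (le_of_eq ?_)
      · rw [hev] at hle ⊢
        rw [show 2 * n + 1 - 2 * (2 * (j + 1) * D + (2 * j + 3) * i) =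
          2 * (n - (2 * (j + 1) * D + (2 * j + 3) * i + 0)) + 1 by omega]
        refine (ih _).2.trans (le_of_eq ?_)
        rw [hpow D i 0 (by omega), pow_zero, one_mul]
      · rw [hod] at hle ⊢
        rw [show 2 * n + 1 - (2 * (2 * (j + 1) * D + (2 * j + 3) * i) + (2 * j + 3)) =
          2 * (n - (2 * (j + 1) * D + (2 * j + 3) * i + (j + 1))) by omega]
        refine (ih _).1.trans (le_of_eq ?_)
        rw [hpow D i (j + 1) (by omega)]
        ring
      · simp only [oLead, ← hA, ← hB, ← hz, ← hw']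

theorem oLead_mono (b : Bool) {x y : ℚ} (hx0 : 0 ≤ x) (hxy : x ≤ y) (hy : y < 1) :
    ∀ j, (oLead b x j).1 ≤ (oLead b y j).1 ∧ (oLead b x j).2 ≤ (oLead b y j).2 := by
  have hev : ∀ {s t : ℚ}, 0 ≤ s → s ≤ t → evN b s ≤ evN b t ∧ odN b s ≤ odN b t := by
    intro s t hs hst
    cases b <;> simp only [evN, odN, if_true, Bool.false_eq_true, if_false, le_refl, and_self]
    exact ⟨by nlinarith, by linarith⟩
  have hy0 : 0 ≤ y := hx0.trans hxy
  intro j
  induction j with
  | zero => exact hev hx0 hxy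
  | succ j ih =>
    obtain ⟨i1, i2⟩ := ih
    obtain ⟨a0, b0⟩ := oLead_nonneg b x hx0 (lt_of_le_of_lt hxy hy) j
    obtain ⟨a0', b0'⟩ := oLead_nonneg b y hy0 hy j
    obtain ⟨e1, e2⟩ := hev (pow_nonneg hx0 (2 * j + 3)) (pow_le_pow_left₀ hx0 hxy (2 * j + 3))
    obtain ⟨n1, n2, -⟩ := num_nonneg b (pow_nonneg hx0 (2 * j + 3))
    obtain ⟨m1, m2, -⟩ := num_nonneg b (pow_nonneg hy0 (2 * j + 3))
    have hd1 : 0 < 1 - y ^ (2 * j + 1) := by have := pow_lt_one₀ hy0 hy (show 2 * j + 1 ≠ 0 by omega); linarith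
    have hd2 : 0 < 1 - y ^ (2 * j + 2) := by have := pow_lt_one₀ hy0 hy (show 2 * j + 2 ≠ 0 by omega); linarith
    have hden : (1 - y ^ (2 * j + 1)) * (1 - y ^ (2 * j + 2)) ≤ (1 - x ^ (2 * j + 1)) * (1 - x ^ (2 * j + 2)) := by
      have h1 := pow_le_pow_left₀ hx0 hxy (2 * j + 1)
      have h2 := pow_le_pow_left₀ hx0 hxy (2 * j + 2)
      exact mul_le_mul (by linarith) (by linarith) hd2.le (by linarith)
    constructor <;>
    · simp only [oLead]
      refine div_le_div₀ (by positivity) ?_ (mul_pos hd1 hd2) hden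
      gcongr

theorem oLead_step_mono (b : Bool) {x : ℚ} (hx0 : 0 ≤ x) (hx1 : x < 1) (j : ℕ) :
    (oLead b x j).1 ≤ (oLead b x (j + 1)).1 := by
  obtain ⟨a0, b0⟩ := oLead_nonneg b x hx0 hx1 j
  obtain ⟨n1, n2, n3⟩ := num_nonneg b (pow_nonneg hx0 (2 * j + 3))
  have hd1 : x ^ (2 * j + 1) < 1 := pow_lt_one₀ hx0 hx1 (by omega)
  have hd2 : x ^ (2 * j + 2) < 1 := pow_lt_one₀ hx0 hx1 (by omega)
  have p1 : (0 : ℚ) ≤ x ^ (2 * j + 1) := by positivity
  have p2 : (0 : ℚ) ≤ x ^ (2 * j + 2) := by positivity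
  have p3 : 0 ≤ (oLead b x j).2 * x ^ (j + 2) * odN b (x ^ (2 * j + 3)) := by positivity
  simp only [oLead]
  rw [le_div_iff₀ (mul_pos (by linarith) (by linarith))]
  calc (oLead b x j).1 * ((1 - x ^ (2 * j + 1)) * (1 - x ^ (2 * j + 2))) ≤ (oLead b x j).1 * 1 :=
        mul_le_mul_of_nonneg_left (mul_le_one₀ (by linarith) (by linarith) (by linarith)) a0
    _ ≤ _ := by nlinarith

/-- The bounds of the leading coefficients with signs. -/
theorem oLead_true_inv : ∀ i, (oLead true (1 / 3) (2 + i)).1 ≤ 17 - 21 * (1 / 3 : ℚ) ^ (2 + i) ∧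
      (oLead true (1 / 3) (2 + i)).2 ≤ 293 / 10 - 36 * (1 / 3 : ℚ) ^ (2 + i) := by
  intro i
  induction i with
  | zero => norm_num [oLead, evN, odN]
  | succ i ih =>
    rw [← add_assoc]
    set k := 2 + i with hk
    set t := (1 / 3 : ℚ) ^ k with ht
    obtain ⟨a0, b0⟩ := oLead_nonneg true (1 / 3) (by norm_num) (by norm_num) k
    have ht0 : 0 < t := by positivity
    have ht9 : t ≤ 1 / 9 := by
      rw [ht, show (1 / 9 : ℚ) = (1 / 3) ^ 2 by norm_num]
      exact pow_le_pow_of_le_one (by norm_num) (by norm_num) (by omega)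
    have e0 : (1 / 3 : ℚ) ^ (k + 1) = t / 3 := by rw [pow_succ, ← ht]; ring
    have e3 : (1 / 3 : ℚ) ^ (2 * k + 3) = t ^ 2 / 27 := by rw [pow_add, mul_comm 2 k, pow_mul, ← ht]; ring
    have e1 : (1 / 3 : ℚ) ^ (2 * k + 1) = t ^ 2 / 3 := by rw [pow_add, mul_comm 2 k, pow_mul, ← ht]; ring
    have e2 : (1 / 3 : ℚ) ^ (2 * k + 2) = t ^ 2 / 9 := by rw [pow_add, mul_comm 2 k, pow_mul, ← ht]; ring
    have e4 : (1 / 3 : ℚ) ^ (k + 2) = t / 9 := by rw [pow_add, ← ht]; ring
    obtain ⟨iA, iB⟩ := ih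
    simp only [oLead, evN, odN, if_true, e0, e1, e2, e3, e4]
    set A := (oLead true (1 / 3) k).1
    set B := (oLead true (1 / 3) k).2
    have hz0 : (0 : ℚ) ≤ t ^ 2 / 27 := by positivity
    set z := t ^ 2 / 27 with hz
    have hden : 0 < (1 - t ^ 2 / 3) * (1 - t ^ 2 / 9) := by
      refine mul_pos ?_ ?_ <;> nlinarith
    have hE : 0 ≤ 1 + 6 * z + z ^ 2 := by positivity
    have hO : 0 ≤ 4 + 4 * z := by positivity
    have n1 : A * (1 + 6 * z + z ^ 2) + B * (t / 9) * (4 + 4 * z) ≤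
        (17 - 21 * t) * (1 + 6 * z + z ^ 2) + (293 / 10 - 36 * t) * (t / 9) * (4 + 4 * z) :=
      add_le_add (mul_le_mul_of_nonneg_right iA hE)
        (mul_le_mul_of_nonneg_right (mul_le_mul_of_nonneg_right iB (by positivity)) hO)
    have n2 : B * (1 + 6 * z + z ^ 2) + A * (t / 3) * (4 + 4 * z) ≤
        (293 / 10 - 36 * t) * (1 + 6 * z + z ^ 2) + (17 - 21 * t) * (t / 3) * (4 + 4 * z) :=
      add_le_add (mul_le_mul_of_nonneg_right iB hE)
        (mul_le_mul_of_nonneg_right (mul_le_mul_of_nonneg_right iA (by positivity)) hO)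
    constructor
    · rw [div_le_iff₀ hden]
      refine n1.trans ?_
      rw [hz]
      nlinarith [pow_le_pow_left₀ ht0.le ht9 2, pow_pos ht0 3, pow_pos ht0 4, pow_pos ht0 5]
    · rw [div_le_iff₀ hden]
      refine n2.trans ?_
      rw [hz]
      nlinarith [pow_le_pow_left₀ ht0.le ht9 2, pow_pos ht0 3, pow_pos ht0 4, pow_pos ht0 5]

theorem oLead_true_le : ∀ j, (oLead true (1 / 3) j).1 ≤ 17 := by
  have hinv := oLead_true_inv
  intro j
  rcases le_or_gt 2 j with h | h
  · obtain ⟨i, rfl⟩ := Nat.exists_eq_add_of_le h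
    refine (hinv i).1.trans ?_
    have : (0 : ℚ) ≤ 21 * (1 / 3 : ℚ) ^ (2 + i) := by positivity
    linarith
  · have hmono : Monotone fun j => (oLead true (1 / 3) j).1 :=
      monotone_nat_of_le_succ (oLead_step_mono true (by norm_num) (by norm_num))
    refine (hmono h.le).trans ((hinv 0).1.trans ?_)
    norm_num

theorem oLead_false_le : ∀ j, (oLead false (1 / 3) j).1 ≤ 19 / 10 := by
  have hinv : ∀ i, (oLead false (1 / 3) (2 + i)).1 ≤ 19 / 10 * (1 - ((1 / 3 : ℚ) ^ (2 + i)) ^ 2) := by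
    intro i
    induction i with
    | zero => norm_num [oLead, evN, odN]
    | succ i ih =>
      rw [← add_assoc]
      set k := 2 + i with hk
      set t := (1 / 3 : ℚ) ^ k with ht
      have ht0 : 0 < t := by positivity
      have ht9 : t ≤ 1 / 9 := by
        rw [ht, show (1 / 9 : ℚ) = (1 / 3) ^ 2 by norm_num]
        exact pow_le_pow_of_le_one (by norm_num) (by norm_num) (by omega)
      have e0 : (1 / 3 : ℚ) ^ (k + 1) = t / 3 := by rw [pow_succ, ← ht]; ring
      have e1 : (1 / 3 : ℚ) ^ (2 * k + 1) = t ^ 2 / 3 := by rw [pow_add, mul_comm 2 k, pow_mul, ← ht]; ring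
      have e2 : (1 / 3 : ℚ) ^ (2 * k + 2) = t ^ 2 / 9 := by rw [pow_add, mul_comm 2 k, pow_mul, ← ht]; ring
      simp only [oLead, evN, odN, Bool.false_eq_true, if_false, mul_one, mul_zero, add_zero, e0, e1, e2]
      have ht2 : t ^ 2 ≤ 1 / 81 := by nlinarith
      rw [div_le_iff₀ (mul_pos (by linarith) (by linarith))]
      nlinarith [pow_pos ht0 2, pow_pos ht0 4, pow_pos ht0 6]
  intro j
  rcases le_or_gt 2 j with h | h
  · obtain ⟨i, rfl⟩ := Nat.exists_eq_add_of_le h
    refine (hinv i).trans ?_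
    have : (0 : ℚ) ≤ ((1 / 3 : ℚ) ^ (2 + i)) ^ 2 := by positivity
    linarith
  · have hmono : Monotone fun j => (oLead false (1 / 3) j).1 :=
      monotone_nat_of_le_succ (oLead_step_mono false (by norm_num) (by norm_num))
    refine (hmono h.le).trans ((hinv 0).trans ?_)
    norm_num

theorem oCount_le (q : ℕ) (hq : 3 ≤ q) (j n : ℕ) :
    oCount q true j (2 * n) + oCount q false j (2 * n) ≤ 19 * q ^ n := by
  have hx : (q : ℚ)⁻¹ ≤ 1 / 3 := by
    rw [one_div]; exact inv_anti₀ (by norm_num) (by exact_mod_cast hq)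
  have h : ∀ b C, (oLead b (1 / 3) j).1 ≤ C → (oCount q b j (2 * n) : ℚ) ≤ C * (q : ℚ) ^ n := fun b C hC =>
    (oCount_le_lead q (by omega) b j n).1.trans (mul_le_mul_of_nonneg_right
      ((oLead_mono b (by positivity) hx (by norm_num) j).1.trans hC) (by positivity))
  have h1 := h true 17 (oLead_true_le j)
  have h2 := h false (19 / 10) (oLead_false_le j)
  have h0 : (0 : ℚ) ≤ (q : ℚ) ^ n := by positivity
  have : ((oCount q true j (2 * n) + oCount q false j (2 * n) : ℕ) : ℚ) ≤ ((19 * q ^ n : ℕ) : ℚ) := by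
    push_cast
    linarith
  exact_mod_cast this

end CfsgLib.IsometryClasses
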