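import Cfsg.Agent.Lib.IsometryClasses.Basic
import Cfsg.Agent.Lib.FiniteForms.Quad

/-!
Cyclic isometries with a prescribed palindromic characteristic polynomial.
-/

set_option autoImplicit false
set_option linter.unusedSectionVars false

namespace CfsgLib.IsometryClasses

open Polynomial

universe u

variable {K : Type u} [Field K]

theorem exists_cyclic_isometry {h : K[X]} {m : ℕ} (hm : h.Monic) (hd : h.natDegree = 2 * m)
    (h0 : h.coeff 0 = 1) (hrev : h.reverse = h) (h1 : h.eval 1 ≠ 0) (hm1 : h.eval (-1) ≠ 0) :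
    ∃ (J A : Matrix (Fin m ⊕ Fin m) (Fin m ⊕ Fin m) K), J.IsSymm ∧ J.det ≠ 0 ∧ Matrix.transpose A * J * A = J ∧
      A.charpoly = h ∧ IsSquare (J.det * (h.eval 1 * h.eval (-1))) := by
  classical
  rcases Nat.eq_zero_or_pos m with rfl | hmpos
  · have h' : h = 1 := eq_one_of_monic_natDegree_zero hm (by simpa using hd)
    refine ⟨1, 1, Matrix.isSymm_one, by simp, by simp, ?_, ?_⟩
    · rw [h', Matrix.charpoly, Matrix.det_isEmpty]
    · simp [h']
  set R := AdjoinRoot h
  set r : R := AdjoinRoot.root h with hr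
  haveI : Module.Finite K R := hm.finite_adjoinRoot
  set pb := AdjoinRoot.powerBasis' hm with hpb
  have hmk : ∀ p : K[X], aeval r p = AdjoinRoot.mk h p := fun p => AdjoinRoot.aeval_eq p
  set y : R := -aeval r h.divX with hy
  have hry : r * y = 1 := by
    have e : aeval r h = 0 := by rw [hmk, AdjoinRoot.mk_self]
    have e' : aeval r (X * h.divX + C (h.coeff 0)) = 0 := by rw [Polynomial.X_mul_divX_add]; exact e
    rw [h0, map_add, map_mul, aeval_X, C_1, map_one] at e'
    rw [hy]
    linear_combination -e'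
  have hyr : y * r = 1 := by rw [mul_comm, hry]
  have hhy : aeval y h = 0 := by
    letI : Invertible r := ⟨y, hyr, hry⟩
    have e := eval₂_reverse_mul_pow (algebraMap K R) r h
    rw [hrev, show ⅟r = y from rfl] at e
    have e2 : h.eval₂ (algebraMap K R) r = 0 := by rw [← aeval_def, hmk, AdjoinRoot.mk_self]
    rw [e2, ← aeval_def] at e
    exact (IsUnit.of_mul_eq_one y hry).pow h.natDegree |>.mul_left_eq_zero.mp e
  let σ : R →ₐ[K] R := AdjoinRoot.liftAlgHom h (Algebra.ofId K R) y (by rwa [aeval_def] at hhy)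
  have hσr : σ r = y := AdjoinRoot.liftAlgHom_root ..
  have hσy : σ y = r := by
    have e : σ (r * y) = 1 := by rw [hry, map_one]
    rw [map_mul, hσr] at e
    calc σ y = (r * y) * σ y := by rw [hry, one_mul]
      _ = r * (y * σ y) := by ring
      _ = r := by rw [e, mul_one]
  have hσσ : ∀ z, σ (σ z) = z := fun z => by
    have : σ.comp σ = AlgHom.id K R := AdjoinRoot.algHom_ext (by rw [AlgHom.comp_apply, hσr, hσy]; rfl)
    exact AlgHom.congr_fun this z
  let τ : R →ₗ[K] K := (lcoeff K (2 * m - 1)).comp (AdjoinRoot.modByMonicHom hm)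
  have hτ : ∀ p : K[X], p.natDegree < 2 * m → τ (aeval r p) = p.coeff (2 * m - 1) := fun p hp => by
    show lcoeff K (2 * m - 1) (AdjoinRoot.modByMonicHom hm (aeval r p)) = _
    rw [hmk, AdjoinRoot.modByMonicHom_mk, (modByMonic_eq_self_iff hm).mpr ?_, lcoeff_apply]
    rw [degree_eq_natDegree hm.ne_zero, hd]
    exact lt_of_le_of_lt degree_le_natDegree (by exact_mod_cast hp)
  have hτpow : ∀ k, k < 2 * m → τ (r ^ k) = if k = 2 * m - 1 then 1 else 0 := fun k hk => by
    rw [show r ^ k = aeval r (X ^ k : K[X]) by simp, hτ _ (by rw [natDegree_X_pow]; exact hk), coeff_X_pow]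
    simp [eq_comm]
  have hτy : τ y = -1 := by
    have e1 : h.divX.natDegree = 2 * m - 1 := by rw [natDegree_divX_eq_natDegree_tsub_one, hd]
    rw [hy, map_neg, hτ _ (by rw [e1]; omega), coeff_divX, show 2 * m - 1 + 1 = h.natDegree by omega, hm.coeff_natDegree]
  -- the antisymmetric functional
  let L₀ : R →ₗ[K] K := τ.comp (LinearMap.mulRight K (r ^ (m - 1)))
  have hL₀ : ∀ z, L₀ z = τ (z * r ^ (m - 1)) := fun z => rfl
  have hyr_pow : ∀ k, y ^ k * r ^ k = 1 := fun k => by rw [← mul_pow, hyr, one_pow]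
  have hanti : ∀ z, L₀ (σ z) = -L₀ z := by
    intro z
    have hF : (L₀.comp σ.toLinearMap + L₀).comp (LinearMap.mulRight K (y ^ (m - 1))) = 0 := by
      refine pb.basis.ext fun i => ?_
      rw [LinearMap.zero_apply, PowerBasis.coe_basis, LinearMap.comp_apply, LinearMap.add_apply, LinearMap.comp_apply,
        LinearMap.mulRight_apply, AlgHom.toLinearMap_apply, map_mul, map_pow, map_pow, hL₀, hL₀,
        show pb.gen = r from rfl, hσr, hσy]
      have hi : (i : ℕ) < 2 * m := hd ▸ i.2
      have e2 : r ^ (i : ℕ) * y ^ (m - 1) * r ^ (m - 1) = r ^ (i : ℕ) := by rw [mul_assoc, hyr_pow, mul_one]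
      rw [e2, hτpow _ hi]
      by_cases hlast : (i : ℕ) = 2 * m - 1
      · rw [if_pos hlast, hlast]
        have e3 : y ^ (2 * m - 1) * r ^ (m - 1) * r ^ (m - 1) = y := by
          rw [mul_assoc, ← pow_add, show 2 * m - 1 = 1 + (m - 1 + (m - 1)) by omega, pow_add, pow_one, mul_assoc,
            hyr_pow, mul_one]
        rw [e3, hτy, neg_add_cancel]
      · rw [if_neg hlast, add_zero]
        have e3 : y ^ (i : ℕ) * r ^ (m - 1) * r ^ (m - 1) = r ^ (m - 1 + (m - 1) - (i : ℕ)) := by
          rw [mul_assoc, ← pow_add]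
          nth_rewrite 1 [show m - 1 + (m - 1) = (i : ℕ) + (m - 1 + (m - 1) - (i : ℕ)) by omega]
          rw [pow_add, ← mul_assoc, hyr_pow, one_mul]
        rw [e3, hτpow _ (by omega), if_neg (by omega)]
    have := LinearMap.congr_fun hF (z * r ^ (m - 1))
    rw [LinearMap.comp_apply, LinearMap.mulRight_apply, mul_assoc, mul_comm (r ^ (m - 1)), hyr_pow, mul_one,
      LinearMap.zero_apply, LinearMap.add_apply, LinearMap.comp_apply, AlgHom.toLinearMap_apply] at this
    exact eq_neg_of_add_eq_zero_left this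
  let e : Fin pb.dim ≃ Fin m ⊕ Fin m := (finCongr (show pb.dim = m + m by
    rw [show pb.dim = h.natDegree from rfl, hd, two_mul])).trans finSumFinEquiv.symm
  let b := pb.basis.reindex e
  have hbl : ∀ i : Fin m, b (Sum.inl i) = r ^ (i : ℕ) := fun i => by
    simp [b, e, PowerBasis.coe_basis, pb, r]
  have hbr : ∀ i : Fin m, b (Sum.inr i) = r ^ (m + (i : ℕ)) := fun i => by
    simp [b, e, PowerBasis.coe_basis, pb, r, add_comm]
  let β₀ : R →ₗ[K] R →ₗ[K] K := ((LinearMap.mul K R).comp σ.toLinearMap).compr₂ L₀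
  have hβ₀ : ∀ z w, β₀ z w = L₀ (σ z * w) := fun z w => rfl
  set J₀ := LinearMap.toMatrix₂ b b β₀ with hJ₀
  have hent : ∀ i j, J₀ i j = L₀ (σ (b i) * b j) := fun i j => by rw [hJ₀, LinearMap.toMatrix₂_apply, hβ₀]
  have hskew : ∀ i j, J₀ i j = -J₀ j i := fun i j => by
    rw [hent, hent, ← hanti, map_mul σ, hσσ, mul_comm]
  have hzero : ∀ i j : Fin m, J₀ (Sum.inl i) (Sum.inl j) = 0 ∧ J₀ (Sum.inr i) (Sum.inr j) = 0 := by
    intro i j
    have key : L₀ (y ^ (i : ℕ) * r ^ (j : ℕ)) = 0 := by
      rw [hL₀, mul_assoc, ← pow_add]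
      have hi := i.2
      have hj := j.2
      rcases le_or_gt (i : ℕ) ((j : ℕ) + (m - 1)) with hle | hlt
      · nth_rewrite 1 [show (j : ℕ) + (m - 1) = (i : ℕ) + ((j : ℕ) + (m - 1) - (i : ℕ)) by omega]
        rw [pow_add, ← mul_assoc, hyr_pow, one_mul, hτpow _ (by omega), if_neg (by omega)]
      · omega
    refine ⟨by rw [hent, hbl, hbl, map_pow, hσr]; exact key, ?_⟩
    rw [hent, hbr, hbr, map_pow, hσr, pow_add, pow_add, mul_mul_mul_comm, hyr_pow, one_mul]
    exact key
  set T : Matrix (Fin m) (Fin m) K := Matrix.of fun i j => J₀ (Sum.inl i) (Sum.inr j) with hT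
  have hTtri : T.BlockTriangular id ∧ ∀ i, T i i = 1 := by
    have key : ∀ i j : Fin m, (j : ℕ) ≤ (i : ℕ) → T i j = if i = j then 1 else 0 := by
      intro i j hji
      have hi := i.2
      rw [hT, Matrix.of_apply, hent, hbl, hbr, map_pow, hσr, hL₀, mul_assoc, ← pow_add]
      rw [show m + (j : ℕ) + (m - 1) = (i : ℕ) + ((2 * m - 1) - ((i : ℕ) - (j : ℕ))) by omega, pow_add, ← mul_assoc,
        hyr_pow, one_mul, hτpow _ (by omega)]
      by_cases hij : i = j
      · subst hij; simp
      · rw [if_neg hij, if_neg]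
        have : (i : ℕ) ≠ (j : ℕ) := fun h => hij (Fin.ext h)
        omega
    refine ⟨fun i j hij => ?_, fun i => by rw [key i i le_rfl, if_pos rfl]⟩
    rw [key i j (Fin.le_def.mp hij.le), if_neg (show ¬ i = j from ne_of_gt hij)]
  have hTdet : T.det = 1 := by
    rw [Matrix.det_of_upperTriangular hTtri.1]
    exact Finset.prod_eq_one fun i _ => hTtri.2 i
  have hJ₀det : J₀.det = 1 := by
    have e1 : J₀ = Matrix.fromBlocks T 0 0 (Matrix.transpose T) * (-Matrix.J (Fin m) K) := by
      rw [Matrix.J, Matrix.fromBlocks_neg, Matrix.fromBlocks_multiply]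
      refine Matrix.ext fun i j => ?_
      rcases i with i | i <;> rcases j with j | j
      · simp [(hzero i j).1]
      · simp [hT]
      · simp [hskew (Sum.inr i) (Sum.inl j), hT]
      · simp [(hzero i j).2]
    rw [e1, Matrix.det_mul, Matrix.det_fromBlocks_zero₂₁, Matrix.det_transpose, hTdet, one_mul, one_mul, Matrix.det_neg,
      Fintype.card_sum, Fintype.card_fin, ← two_mul, pow_mul, neg_one_sq, one_pow, one_mul]
    exact SymplecticGroup.det_eq_one (SymplecticGroup.J_mem (Fin m) K)
  -- the symmetric form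
  set mu : R → (R →ₗ[K] R) := fun z => LinearMap.mulLeft K z with hmu
  let β := β₀.compl₂ (mu (r - y))
  set J := LinearMap.toMatrix₂ b b β with hJ
  set A := LinearMap.toMatrix b b (mu r) with hA
  have hβ : ∀ z w, β z w = L₀ (σ z * ((r - y) * w)) := fun z w => rfl
  have hnorm : ∀ z : R, (LinearMap.toMatrix b b (mu z)).det = Algebra.norm K z := fun z => by
    rw [LinearMap.det_toMatrix, Algebra.norm_apply]
    rfl
  have hchar : A.charpoly = h := by
    have e2 := charpoly_leftMulMatrix pb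
    rw [Algebra.leftMulMatrix_apply, LinearMap.charpoly_toMatrix] at e2
    rw [hA, LinearMap.charpoly_toMatrix]
    refine Eq.trans ?_ (e2.trans ?_)
    · rfl
    · show minpoly K (AdjoinRoot.root h) = h
      rw [AdjoinRoot.minpoly_root hm.ne_zero, hm.leadingCoeff, inv_one, C_1, mul_one]
  have heval : ∀ a : K, h.eval a = Algebra.norm K (r - algebraMap K R a) := fun a => by
    rw [← hnorm, show h.eval a = A.charpoly.eval a by rw [hchar], Matrix.eval_charpoly, ← neg_sub,
      Matrix.det_neg, Fintype.card_sum, Fintype.card_fin, ← two_mul, pow_mul, neg_one_sq, one_pow, one_mul]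
    congr 1
    rw [hA]
    have : mu (r - algebraMap K R a) = mu r - a • LinearMap.id := by
      refine LinearMap.ext fun w => ?_
      simp [mu, sub_mul, Algebra.smul_def]
    rw [this, map_sub, map_smul, LinearMap.toMatrix_id, Matrix.smul_one_eq_diagonal]
    rfl
  have hnr : Algebra.norm K r = 1 := by
    have := heval 0
    rw [map_zero, sub_zero, ← coeff_zero_eq_eval_zero, h0] at this
    exact this.symm
  have hdet : J.det = h.eval 1 * h.eval (-1) := by
    rw [hJ, LinearMap.toMatrix₂_compl₂ b b, Matrix.det_mul, ← hJ₀, hJ₀det, one_mul, hnorm, heval, heval, map_one,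
      map_neg, map_one, ← map_mul]
    rw [show (r - 1) * (r - -1) = r * (r - y) by linear_combination hry, map_mul, hnr, one_mul]
  refine ⟨J, A, ?_, by rw [hdet]; exact mul_ne_zero h1 hm1, ?_, hchar, ⟨h.eval 1 * h.eval (-1), by rw [hdet]⟩⟩
  · refine Matrix.ext fun i j => ?_
    rw [Matrix.transpose_apply, hJ, LinearMap.toMatrix₂_apply, LinearMap.toMatrix₂_apply, hβ, hβ]
    rw [show σ (b j) * ((r - y) * b i) = -σ (σ (b i) * ((r - y) * b j)) by
      rw [map_mul, map_mul, map_sub, hσσ, hσr, hσy]; ring, map_neg, hanti, neg_neg]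
  · rw [hA, hJ, ← LinearMap.toMatrix₂_compl₁₂ b b b b]
    congr 1
    refine LinearMap.ext fun z => LinearMap.ext fun w => ?_
    rw [LinearMap.compl₁₂_apply, hβ, hβ]
    congr 1
    show σ (r * z) * ((r - y) * (r * w)) = _
    rw [map_mul, hσr]
    linear_combination σ z * (r - y) * w * hyr

end CfsgLib.IsometryClasses
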