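import Cfsg.Agent.Lib.IsometryClasses.Symplectic
import Cfsg.Agent.Lib.IsometryClasses.OrCount

/-!
An upper bound for the number of classes of an orthogonal group in even dimension, odd characteristic.
-/

set_option autoImplicit false
set_option linter.unusedSectionVars false

namespace CfsgLib.IsometryClasses

open Polynomial Matrix

universe u

variable {K : Type u} [Field K] [Fintype K] {ι : Type} [Fintype ι] [DecidableEq ι]

/-- The matrices preserving a bilinear form. -/
def OG (G : Matrix ι ι K) : Subgroup (Matrix.GeneralLinearGroup ι K) where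
  carrier := {g | g.1ᵀ * G * g.1 = G}
  one_mem' := by simp
  mul_mem' {g h} hg hh := by
    simp only [Set.mem_setOf_eq, Units.val_mul, Matrix.transpose_mul] at hg hh ⊢
    calc h.1ᵀ * g.1ᵀ * G * (g.1 * h.1) = h.1ᵀ * (g.1ᵀ * G * g.1) * h.1 := by simp only [Matrix.mul_assoc]
      _ = G := by rw [hg, hh]
  inv_mem' {g} hg := by
    simp only [Set.mem_setOf_eq] at hg ⊢
    conv_lhs => rw [← hg]
    calc (g⁻¹).1ᵀ * (g.1ᵀ * G * g.1) * (g⁻¹).1 = ((g.1 * (g⁻¹).1)ᵀ) * G * (g.1 * (g⁻¹).1) := by
          rw [Matrix.transpose_mul]; simp only [Matrix.mul_assoc]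
      _ = G := by rw [Units.mul_inv, Matrix.transpose_one, Matrix.one_mul, Matrix.mul_one]

/-- A self-dual polynomial without roots at one and minus one is palindromic of even degree. -/
theorem pal_of_noroot (h2 : (2 : K) ≠ 0) {p : K[X]} (hp0 : p.coeff 0 ≠ 0)
    (hsd : du p = p) (h1 : ¬ p.IsRoot 1) (hm1 : ¬ p.IsRoot (-1)) : p.coeff 0 = 1 ∧ Even p.natDegree := by
  have key : ∀ a : K, a * a = 1 → ¬ p.IsRoot a → p.coeff 0 * a ^ p.natDegree = 1 := by
    intro a ha hne
    letI : Invertible a := ⟨a, ha, ha⟩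
    have h1 := eval₂_reverse_mul_pow (RingHom.id K) a p
    rw [← eval, ← eval, invOf_eq_right_inv ha] at h1
    have h3 : p.eval a = (p.coeff 0)⁻¹ * p.reverse.eval a := by
      conv_lhs => rw [← hsd]
      rw [du, SUClassNumber.dualP, eval_mul, eval_C, Polynomial.map_id, RingHom.id_apply]
    have h4 : p.eval a * (p.coeff 0 * a ^ p.natDegree) = p.eval a * 1 := by
      rw [mul_one]
      nth_rewrite 1 [h3]
      rw [← mul_assoc, mul_comm (p.coeff 0)⁻¹, mul_assoc, mul_assoc, ← mul_assoc (p.coeff 0)⁻¹,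
        inv_mul_cancel₀ hp0, one_mul]
      exact h1
    exact mul_left_cancel₀ hne h4
  have e1 := key 1 (one_mul 1) h1
  rw [one_pow, mul_one] at e1
  have e2 := key (-1) (by ring) hm1
  rw [e1, one_mul] at e2
  refine ⟨e1, ?_⟩
  by_contra hodd
  rw [Nat.not_even_iff_odd] at hodd
  rw [hodd.neg_one_pow] at e2
  exact h2 (by linear_combination -e2)

theorem dataFun_orth (h2 : (2 : K) ≠ 0) {m : Multiset (Tag K)} (hm : ∀ t ∈ m, VTag (1 : K) t) {n M : ℕ}
    (hM : M ≤ 2 * n + 1)
    (hw2 : (m.map fun t => t.2.1 * t.1.natDegree).sum = M) :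
    (∀ e, OkO true e (dataFun m e)) ∧ (∀ e, (e = 0 ∨ 2 * n + 1 < e) → dataFun m e = (1, false, false)) ∧
      ∑ e ∈ Finset.Icc 1 (2 * n + 1), e * (dataFun m e).1.natDegree = M := by
  classical
  have hne : (1 : K) ≠ -1 := fun h => h2 (by linear_combination h)
  have hrange : ∀ t ∈ m, t.2.1 ∈ Finset.Icc 1 (2 * n + 1) := fun t ht =>
    Finset.mem_Icc.mpr ⟨(hm t ht).facts.2.2.2, (exponent_le hm hw2 ht).trans hM⟩
  have hf : ∀ p e, (∀ t ∈ m, t.2.1 ≠ e) → decide ((p, e, some false) ∈ m) = false := fun p e hno =>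
    decide_eq_false fun h => hno _ h rfl
  refine ⟨fun e => ⟨lprod_facts hm e, fun he => ?_, fun hb => ?_, fun hb => ?_⟩, fun e he => ?_, ?_⟩
  · rcases Nat.eq_zero_or_pos e with rfl | he0
    · have hno : ∀ t ∈ m, t.2.1 ≠ 0 := fun t ht h => by
        have := (hm t ht).facts.2.2.2
        omega
      simp [dataFun, lprod_of_forall_ne hno, hf _ _ hno]
    have he' : Odd (e - 1) := by
      rcases he with ⟨k, hk⟩ | he
      · exact ⟨k - 1, by omega⟩
      · exact absurd he Bool.noConfusion
    have hpar : (1 : K) * (-1) ^ (e - 1) = -1 := by rw [one_mul, he'.neg_one_pow]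
    obtain ⟨h1, hd⟩ := lprod_even h2 hm hpar
    refine ⟨h1, hd, ?_, ?_⟩ <;>
    · refine decide_eq_false fun h => hne ?_
      exact (vtag_false (hm _ h)).2.symm.trans hpar
  · exact dvd_iff_isRoot.mp (dvd_lprod (of_decide_eq_true hb))
  · exact dvd_iff_isRoot.mp (dvd_lprod (of_decide_eq_true hb))
  · have hno : ∀ t ∈ m, t.2.1 ≠ e := fun t ht h => by
      have := Finset.mem_Icc.mp (hrange t ht)
      omega
    simp only [dataFun, lprod_of_forall_ne hno, hf _ _ hno]
  · exact (weight_sum hm hrange).trans hw2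

theorem vtag_swap {p : K[X]} {e : ℕ} (h : VTag (1 : K) (p, e, some false)) : VTag (1 : K) (p, e, some true) := by
  rcases h with ⟨p', e', s, a1, a2, a3, a4, a5, -, a7, ht⟩ | ⟨p', e', -, -, -, -, -, ht⟩
  · simp only [Prod.mk.injEq] at ht
    obtain ⟨rfl, rfl, -⟩ := ht
    exact Or.inl ⟨p, e, true, a1, a2, a3, a4, a5, fun _ => rfl, a7, rfl⟩
  · simp at ht

variable {n : ℕ}

/-- Two isometries cannot differ by exactly one sign. -/
theorem no_flip (h2 : (2 : K) ≠ 0) {G : Matrix ι ι K} (hG0 : G.det ≠ 0)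
    {x y : Module.End K (ι → K)} {N : ℕ} (hx : Ctx (Matrix.toLinearMap₂' K G) x (1 : K) N)
    (hy : Ctx (Matrix.toLinearMap₂' K G) y (1 : K) N) {m m' : Multiset (Tag K)}
    (hFx : Frame (Matrix.toLinearMap₂' K G) x (1 : K) ⊤ m) (hFy : Frame (Matrix.toLinearMap₂' K G) y (1 : K) ⊤ m')
    (hc : Canon m) (hc' : Canon m') (hprod : ∀ e, lprod m e = lprod m' e) {p : K[X]} {e : ℕ}
    (hin : (p, e, some false) ∈ m) (hout : (p, e, some false) ∉ m')
    (hother : ∀ p' e', IsPM p' → ¬ (p' = p ∧ e' = e) →
      ((p', e', some false) ∈ m ↔ (p', e', some false) ∈ m')) : False := by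
  classical
  set B : (ι → K) →ₗ[K] (ι → K) →ₗ[K] K := Matrix.toLinearMap₂' K G with hB
  have hvm := hFx.vtag hx
  have hvm' := hFy.vtag hy
  have hF := hvm _ hin
  obtain ⟨hpm, hpar⟩ := vtag_false hF
  have hp : p.Monic ∧ Irreducible p := by
    obtain ⟨a, -, rfl⟩ := hpm.exists_eq
    exact ⟨monic_X_sub_C a, irreducible_X_sub_C a⟩
  have hp0 : p.coeff 0 ≠ 0 := hF.facts.2.2.1
  obtain ⟨r, rfl⟩ := Multiset.exists_cons_of_mem hin
  have hFr : (p, e, some false) ∉ r := hc _ r rfl rfl
  -- the sign true occurs on the other side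
  have hT : (p, e, some true) ∈ m' := by
    have h1 := count_factor hvm hp hp0 e
    have h1' := count_factor hvm' hp hp0 e
    have hz : ∀ {k : Multiset (Tag K)}, (∀ t ∈ k, VTag (1 : K) t) → k.count (p * du p, e, none) = 0 := fun hk =>
      Multiset.count_eq_zero.mpr fun h => not_vtag_C_H h2 hp hp0 hF (hk _ h)
    rw [hz hvm, Multiset.count_cons_self, Multiset.count_eq_zero.mpr hFr] at h1
    rw [hz hvm', Multiset.count_eq_zero.mpr hout, ← hprod e, h1] at h1'
    exact Multiset.count_pos.mp (by omega)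
  obtain ⟨r', rfl⟩ := Multiset.exists_cons_of_mem hT
  have hvr : ∀ t ∈ r, VTag (1 : K) t := fun t ht => hvm t (Multiset.mem_cons_of_mem ht)
  have hvr' : ∀ t ∈ r', VTag (1 : K) t := fun t ht => hvm' t (Multiset.mem_cons_of_mem ht)
  have hcr : Canon r := fun t k hf hk ht => hc t ((p, e, some false) ::ₘ k) hf (by rw [hk, Multiset.cons_swap])
    (Multiset.mem_cons_of_mem ht)
  have hcr' : Canon r' := fun t k hf hk ht => hc' t ((p, e, some true) ::ₘ k) hf (by rw [hk, Multiset.cons_swap])
    (Multiset.mem_cons_of_mem ht)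
  have hrr : r = r' := by
    refine labels_ext h2 hvr hvr' hcr hcr' (fun e' => ?_) fun p' e' hp' => ?_
    · have h1 := hprod e'
      rw [lprod_cons, lprod_cons] at h1
      refine mul_left_cancel₀ ?_ h1
      split_ifs
      exacts [hp.1.ne_zero, one_ne_zero]
    · by_cases hpe : p' = p ∧ e' = e
      · obtain ⟨rfl, rfl⟩ := hpe
        exact iff_of_false hFr fun h => hout (Multiset.mem_cons_of_mem h)
      · have h1 := hother p' e' hp' hpe
        rw [Multiset.mem_cons, Multiset.mem_cons] at h1
        have e1 : (p', e', some false) ≠ (p, e, some false) := fun h => hpe (by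
          simp only [Prod.mk.injEq, and_true] at h; exact h)
        have e2 : (p', e', some false) ≠ (p, e, some true) := fun h => by simp at h
        simpa [e1, e2] using h1
  subst hrr
  obtain ⟨W, U, hW, ho, htop, hU⟩ := hFx.extract hx rfl
  obtain ⟨W', U', hW', ho', htop', hU'⟩ := hFy.extract hy rfl
  obtain ⟨Tu, hTu⟩ := hU.exists_iso hx hy hU'
  rcases hW with ⟨p₁, e₁, v, hv, ht, rfl⟩ | ⟨p₁, e₁, v, w, hv, ht, rfl⟩
  swap
  · simp at ht
  rcases hW' with ⟨p₂, e₂, v', hv', ht', rfl⟩ | ⟨p₂, e₂, v', w', hv', ht', rfl⟩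
  swap
  · simp at ht'
  simp only [Prod.mk.injEq, Option.some.injEq] at ht ht'
  obtain ⟨rfl, rfl, hs⟩ := ht
  obtain ⟨rfl, rfl, hs'⟩ := ht'
  rw [sgn, if_pos hpm] at hs hs'
  have hs1 : ¬ IsSquare (gram B x v v (p ^ (e - 1))) := by simpa using hs.symm
  have hs2 : IsSquare (gram B y v' v' (p ^ (e - 1))) := by simpa using hs'.symm
  set l := gram B x v v (p ^ (e - 1)) with hl
  have hl0 : l ≠ 0 := hv.gram_q hpm
  have hxl : Ctx (l • B) x (1 : K) N := ⟨hx.pos, hx.pow_eq, fun a b => by simp [hx.iso],
    fun a b => by simp only [LinearMap.smul_apply, smul_eq_mul]; rw [hx.symm a b]; ring, h2⟩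
  have hgl : ∀ r, gram (l • B) x v v r = l * gram B x v v r := fun r => by simp [gram_apply]
  have hvl : IsC (l • B) x p e v := by
    obtain ⟨r, hr⟩ := hv.top
    exact ⟨hv.mon, hv.irr, hv.he, hv.p0, hv.self, hv.kill, r, by rw [hgl]; exact mul_ne_zero hl0 hr⟩
  obtain ⟨Tw, hTw⟩ := hvl.exists_iso hv' hxl hy (fun _ => by
    rw [hgl, ← hl]
    exact iff_of_true ⟨l, rfl⟩ hs2)
  set W := LinearMap.range (orb x v)
  have hWnd : Nd B W := hv.nd hx
  obtain ⟨π, hπ1, hπ2, hπ3, hπ4⟩ := exists_proj hx hWnd (inv_range_orb v)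
  let T := Tw.comp π + Tu.comp (LinearMap.id - π)
  let D := l • π + (LinearMap.id - π)
  have hπb : ∀ b ∈ U, π b = 0 := fun b hb => hWnd.unique (hπ1 b) (zero_mem _) fun w hw => by
    rw [hπ3 b w hw, ho w hw b hb, map_zero]
  have key : ∀ a b : ι → K, B (T a) (T b) = B (D a) b := by
    have hall : ∀ z : ι → K, ∃ a ∈ W, ∃ b ∈ U, a + b = z := fun z => Submodule.mem_sup.mp (htop ▸ Submodule.mem_top)
    intro z z'
    obtain ⟨a, ha, b, hb, rfl⟩ := hall z
    obtain ⟨a', ha', b', hb', rfl⟩ := hall z'
    have hT' : ∀ a ∈ W, ∀ b ∈ U, T (a + b) = Tw a + Tu b := fun a ha b hb => by simp [T, hπ2 a ha, hπb b hb]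
    have hD' : D (a + b) = l • a + b := by simp [D, hπ2 a ha, hπb b hb]
    rw [hT' a ha b hb, hT' a' ha' b' hb', hD']
    simp only [map_add, map_smul, LinearMap.add_apply, LinearMap.smul_apply, smul_eq_mul]
    rw [hTw.pres a ha a' ha', hTu.pres b hb b' hb', ho a ha b' hb', hx.orth_symm ho b hb a' ha',
      ho' _ (hTw.mapsTo a ha) _ (hTu.mapsTo b' hb'), hy.orth_symm ho' _ (hTu.mapsTo b hb) _ (hTw.mapsTo a' ha')]
    simp [LinearMap.smul_apply]
  have hmat : (LinearMap.toMatrix' T)ᵀ * G * LinearMap.toMatrix' T = (LinearMap.toMatrix' D)ᵀ * G := by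
    refine Matrix.ext fun i j => ?_
    have h1 := key (Pi.single i 1) (Pi.single j 1)
    rw [← LinearMap.toMatrix'_mulVec T, ← LinearMap.toMatrix'_mulVec T, ← LinearMap.toMatrix'_mulVec D, hB,
      Matrix.toLinearMap₂'_apply', Matrix.toLinearMap₂'_apply', ← Matrix.vecMul_transpose,
      ← Matrix.dotProduct_mulVec, Matrix.mulVec_mulVec, Matrix.mulVec_mulVec,
      ← Matrix.vecMul_transpose (LinearMap.toMatrix' D), ← Matrix.dotProduct_mulVec, Matrix.mulVec_mulVec] at h1
    simpa [Matrix.mulVec_single_one, Matrix.mul_assoc] using h1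
  have hdet := congrArg Matrix.det hmat
  rw [det_mul, det_mul, det_mul, det_transpose, det_transpose, LinearMap.det_toMatrix',
    LinearMap.det_toMatrix'] at hdet
  have hdetD : LinearMap.det D = l ^ Module.finrank K W := by
    have hcompl : IsCompl W (LinearMap.ker π) := by
      refine IsCompl.of_eq ?_ ?_
      · exact (Submodule.eq_bot_iff _).mpr fun z hz => by rw [← hπ2 z hz.1, LinearMap.mem_ker.mp hz.2]
      · refine eq_top_iff.mpr fun z _ => Submodule.mem_sup.mpr ⟨π z, hπ1 z, z - π z, ?_, add_sub_cancel _ _⟩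
        rw [LinearMap.mem_ker, map_sub, hπ2 _ (hπ1 z), sub_self]
    let E := Submodule.prodEquivOfIsCompl W (LinearMap.ker π) hcompl
    have hD : D = E.toLinearMap ∘ₗ ((l • (LinearMap.id : W →ₗ[K] W)).prodMap
        (LinearMap.id : LinearMap.ker π →ₗ[K] LinearMap.ker π)) ∘ₗ E.symm.toLinearMap := by
      refine LinearMap.ext fun z => ?_
      obtain ⟨⟨a, b⟩, rfl⟩ := E.surjective z
      have hb : π (b : ι → K) = 0 := b.2
      simp [D, E, hπ2 _ a.2, hb]
    rw [hD, LinearMap.det_conj, LinearMap.det_prodMap, LinearMap.det_smul, LinearMap.det_id, LinearMap.det_id,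
      mul_one, mul_one]
  rw [hdetD, hv.finrank] at hdet
  have hodd : Odd (e * p.natDegree) := by
    have hd1 : p.natDegree = 1 := by
      obtain ⟨a, -, rfl⟩ := hpm.exists_eq
      exact natDegree_X_sub_C a
    rw [hd1, mul_one]
    by_contra hev
    obtain ⟨k, hk⟩ := Nat.not_odd_iff_even.mp hev
    have he := hv.he
    have hOdd : Odd (e - 1) := ⟨k - 1, by omega⟩
    rw [one_mul, hOdd.neg_one_pow] at hpar
    exact h2 (by linear_combination -hpar)
  obtain ⟨k, hk⟩ := hodd
  rw [hk] at hdet
  refine hs1 ⟨LinearMap.det T / l ^ k, ?_⟩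
  have h3 : LinearMap.det T * LinearMap.det T = l ^ (2 * k + 1) :=
    mul_right_cancel₀ hG0 (by linear_combination hdet)
  rw [div_mul_div_comm, h3]
  field_simp
  ring

/-- The number of classes of an orthogonal group. -/
theorem og_classes_le_gen (h2 : (2 : K) ≠ 0) (G : Matrix ι ι K) (hG : G.IsSymm) (hG0 : G.det ≠ 0)
    {D : ℕ} (hD : D ≤ 2 * n + 1) (hcard : Fintype.card ι = D) :
    2 * Nat.card (ConjClasses ↥(OG G)) ≤
      oCount (Fintype.card K) true n D + oCount (Fintype.card K) false n D := by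
  classical
  set B : (ι → K) →ₗ[K] (ι → K) →ₗ[K] K := Matrix.toLinearMap₂' K G with hB
  haveI : Finite (Matrix ι ι K) := inferInstanceAs (Finite (ι → ι → K))
  haveI : Finite (Matrix.GeneralLinearGroup ι K) := Finite.of_injective _ Units.val_injective
  haveI : Finite ↥(OG G) := Subtype.finite
  have hBapp : ∀ u v, B u v = u ⬝ᵥ G *ᵥ v := fun u v => Matrix.toLinearMap₂'_apply' _ u v
  have hctx : ∀ g : ↥(OG G), Ctx B (Matrix.toLinAlgEquiv' g.1.1) (1 : K) (Nat.card ↥(OG G)) := fun g =>
    ⟨Nat.card_pos,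
      by
        rw [← map_pow, ← Units.val_pow_eq_pow_val, ← SubmonoidClass.coe_pow, pow_card_eq_one']
        exact map_one _,
      fun u v => by
        rw [Matrix.toLinAlgEquiv'_apply, Matrix.toLinAlgEquiv'_apply, hBapp, hBapp, Matrix.mulVec_mulVec,
          ← Matrix.vecMul_transpose, ← Matrix.dotProduct_mulVec, Matrix.mulVec_mulVec, ← Matrix.mul_assoc, g.2],
      fun u v => by
        rw [hBapp, hBapp, one_mul, Matrix.dotProduct_mulVec v, ← Matrix.mulVec_transpose, hG.eq, dotProduct_comm],
      h2⟩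
  have hnd : ∀ u, (∀ w, B w u = 0) → u = 0 := fun u hu => by
    have h1 : G *ᵥ u = 0 := by
      refine funext fun i => ?_
      have := hu (Pi.single i 1)
      rwa [hBapp, single_one_dotProduct] at this
    by_contra hne
    exact hG0 (Matrix.exists_mulVec_eq_zero_iff.mp ⟨u, hne, h1⟩)
  have hframe : ∀ g : ↥(OG G), ∃ m, Frame B (Matrix.toLinAlgEquiv' g.1.1) (1 : K) ⊤ m ∧ Canon m := fun g =>
    exists_frame (hctx g) _ ⊤ le_rfl (fun u _ => trivial) fun u _ hz => hnd u fun w => hz w trivial
  choose M hM hcan using hframe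
  have hdim : ∀ g : ↥(OG G), ((M g).map fun t => t.2.1 * t.1.natDegree).sum = D := fun g => by
    rw [← (hM g).finrank (hctx g), finrank_top, Module.finrank_pi, hcard]
  obtain ⟨hfin, hT⟩ := OrData.bound h2 true n D
  obtain ⟨hfin0, hT0⟩ := OrData.bound h2 false n D
  let rep : ConjClasses ↥(OG G) → ↥(OG G) := fun c => c.exists_rep.choose
  let Φ : ConjClasses ↥(OG G) → OrData K true n D := fun c =>
    ⟨dataFun (M (rep c)), dataFun_orth h2 ((hM _).vtag (hctx _)) hD (hdim _)⟩
  have hΦ : Function.Injective Φ := by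
    intro c c' h
    set g := rep c with hg
    set g' := rep c' with hg'
    have hmm : M g = M g' := dataFun_eq h2 ((hM g).vtag (hctx g)) ((hM g').vtag (hctx g')) (hcan g) (hcan g')
      (congrArg Subtype.val h)
    obtain ⟨T, hTc, hTp⟩ := exists_equiv_of_frame (hctx g) (hctx g') hnd (hM g) (hmm ▸ hM g')
    rw [← c.exists_rep.choose_spec, ← c'.exists_rep.choose_spec]
    show ConjClasses.mk g = ConjClasses.mk g'
    rw [ConjClasses.mk_eq_mk_iff_isConj]
    set t := Matrix.toLinAlgEquiv'.symm T.toLinearMap with ht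
    have htT : ∀ u, t *ᵥ u = T u := fun u => by
      rw [← Matrix.toLinAlgEquiv'_apply, ht, AlgEquiv.apply_symm_apply]
      rfl
    have htmem : tᵀ * G * t = G := by
      refine Matrix.ext fun i j => ?_
      have := hTp (Pi.single i 1) (Pi.single j 1)
      rw [← htT, ← htT, hBapp, hBapp, ← Matrix.vecMul_transpose, ← Matrix.dotProduct_mulVec, Matrix.mulVec_mulVec,
        Matrix.mulVec_mulVec] at this
      simpa [Matrix.mulVec_single_one, Matrix.mul_assoc] using this
    have htdet : t.det ≠ 0 := fun h0 => by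
      have := congrArg Matrix.det htmem
      rw [det_mul, det_mul, h0, mul_zero] at this
      exact hG0 this.symm
    refine isConj_iff.mpr ⟨⟨Matrix.GeneralLinearGroup.mkOfDetNeZero t htdet, htmem⟩,
      mul_inv_eq_iff_eq_mul.mpr (Subtype.ext (Units.ext ?_))⟩
    show t * g.1.1 = g'.1.1 * t
    refine Matrix.ext_of_mulVec_single fun i => ?_
    rw [← Matrix.mulVec_mulVec, ← Matrix.mulVec_mulVec, htT, htT, ← Matrix.toLinAlgEquiv'_apply g.1.1,
      ← Matrix.toLinAlgEquiv'_apply g'.1.1]
    exact hTc _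
  -- exponents carrying a sign
  let P : OrData K true n D → ℕ → Prop := fun f e => Odd e ∧ ((f.1 e).1.IsRoot 1 ∨ (f.1 e).1.IsRoot (-1))
  let fl : (f : OrData K true n D) → (∃ e, P f e) → OrData K true n D := fun f hf =>
    ⟨Function.update f.1 (Nat.find hf)
        (if (f.1 (Nat.find hf)).1.IsRoot 1 then ((f.1 (Nat.find hf)).1, !(f.1 (Nat.find hf)).2.1, (f.1 (Nat.find hf)).2.2)
          else ((f.1 (Nat.find hf)).1, (f.1 (Nat.find hf)).2.1, !(f.1 (Nat.find hf)).2.2)),
      fun e => by
        by_cases he : e = Nat.find hf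
        · subst he
          rw [Function.update_self]
          obtain ⟨ho, hr⟩ := Nat.find_spec hf
          obtain ⟨b1, b2, b3, b4⟩ := f.2.1 (Nat.find hf)
          have hne : ¬ (Even (Nat.find hf) ∨ true = false) := by
            rintro (h | h)
            · exact Nat.not_even_iff_odd.mpr ho h
            · exact Bool.noConfusion h
          split_ifs with hroot
          · exact ⟨b1, fun h => absurd h hne, fun _ => hroot, b4⟩
          · exact ⟨b1, fun h => absurd h hne, b3, fun _ => hr.resolve_left hroot⟩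
        · rw [Function.update_of_ne he]; exact f.2.1 e,
      fun e he => by
        rw [Function.update_of_ne]
        · exact f.2.2.1 e he
        · intro h
          subst h
          obtain ⟨-, hr⟩ := Nat.find_spec hf
          rw [f.2.2.1 _ he] at hr
          simp at hr,
      by
        refine Eq.trans (Finset.sum_congr rfl fun e _ => ?_) f.2.2.2
        by_cases he : e = Nat.find hf
        · subst he
          rw [Function.update_self]
          split_ifs <;> rfl
        · rw [Function.update_of_ne he]⟩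
  have hfl1 : ∀ f hf e, ((fl f hf).1 e).1 = (f.1 e).1 := fun f hf e => by
    show (Function.update f.1 (Nat.find hf) _ e).1 = _
    by_cases he : e = Nat.find hf
    · subst he
      rw [Function.update_self]
      split_ifs <;> rfl
    · rw [Function.update_of_ne he]
  have hfl_inj : ∀ f hf f' hf', fl f hf = fl f' hf' → f = f' := by
    intro f hf f' hf' h
    have hroots : ∀ e, (f.1 e).1 = (f'.1 e).1 := fun e => by rw [← hfl1 f hf, ← hfl1 f' hf', h]
    have he0 : Nat.find hf = Nat.find hf' := Nat.find_congr' fun {e} => by simp only [P, hroots]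
    refine Subtype.ext (funext fun e => ?_)
    have h1 : Function.update f.1 (Nat.find hf) _ e = Function.update f'.1 (Nat.find hf') _ e :=
      congrFun (congrArg Subtype.val h) e
    rw [← he0] at h1
    by_cases he : e = Nat.find hf
    · subst he
      rw [Function.update_self, Function.update_self, ← hroots (Nat.find hf)] at h1
      split_ifs at h1
      · simp only [Prod.mk.injEq, Bool.not_inj_iff, true_and] at h1
        exact Prod.ext (hroots _) (Prod.ext h1.1 h1.2)
      · simp only [Prod.mk.injEq, Bool.not_inj_iff, true_and] at h1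
        exact Prod.ext (hroots _) (Prod.ext h1.1 h1.2)
    · rwa [Function.update_of_ne he, Function.update_of_ne he] at h1
  have hflip : ∀ c c' hf, Φ c' ≠ fl (Φ c) hf := by
    intro c c' hf h
    set g := rep c
    set g' := rep c'
    obtain ⟨ho, hr⟩ := Nat.find_spec hf
    set e₀ := Nat.find hf with he₀
    have hval : dataFun (M g') = Function.update (dataFun (M g)) e₀
        (if (dataFun (M g) e₀).1.IsRoot 1 then ((dataFun (M g) e₀).1, !(dataFun (M g) e₀).2.1, (dataFun (M g) e₀).2.2)
          else ((dataFun (M g) e₀).1, (dataFun (M g) e₀).2.1, !(dataFun (M g) e₀).2.2)) := congrArg Subtype.val h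
    have hprod : ∀ e, lprod (M g') e = lprod (M g) e := fun e => by
      have := hfl1 (Φ c) hf e
      rw [← h] at this
      exact this
    have h11 : (X - C (1 : K)) ≠ X - C (-1) := fun h0 => h2 (by
      have := C_injective (sub_right_injective h0)
      linear_combination this)
    -- the changed label
    obtain ⟨p, hp, hflag, hoth⟩ : ∃ p, IsPM p ∧
        (((p, e₀, some false) ∈ M g') ↔ (p, e₀, some false) ∉ M g) ∧
        (∀ p' e', IsPM p' → ¬ (p' = p ∧ e' = e₀) → ((p', e', some false) ∈ M g' ↔ (p', e', some false) ∈ M g)) := by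
      by_cases hroot : (dataFun (M g) e₀).1.IsRoot 1
      · refine ⟨X - C 1, Or.inl rfl, ?_, ?_⟩
        · have h1 := congrArg (fun z => z.2.1) (congrFun hval e₀)
          rw [Function.update_self, if_pos hroot] at h1
          simp only [dataFun, ← decide_not, decide_eq_decide] at h1
          exact h1
        · intro p' e' hp' hne
          by_cases he : e' = e₀
          · subst he
            rcases hp' with rfl | rfl
            · exact absurd ⟨rfl, rfl⟩ hne
            · have h1 := congrArg (fun z => z.2.2) (congrFun hval e₀)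
              rw [Function.update_self, if_pos hroot] at h1
              simpa [dataFun] using h1
          · have h1 := congrFun hval e'
            rw [Function.update_of_ne he] at h1
            rcases hp' with rfl | rfl
            · simpa [dataFun] using congrArg (fun z => z.2.1) h1
            · simpa [dataFun] using congrArg (fun z => z.2.2) h1
      · refine ⟨X - C (-1), Or.inr rfl, ?_, ?_⟩
        · have h1 := congrArg (fun z => z.2.2) (congrFun hval e₀)
          rw [Function.update_self, if_neg hroot] at h1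
          simp only [dataFun, ← decide_not, decide_eq_decide] at h1
          exact h1
        · intro p' e' hp' hne
          by_cases he : e' = e₀
          · subst he
            rcases hp' with rfl | rfl
            · have h1 := congrArg (fun z => z.2.1) (congrFun hval e₀)
              rw [Function.update_self, if_neg hroot] at h1
              simpa [dataFun] using h1
            · exact absurd ⟨rfl, rfl⟩ hne
          · have h1 := congrFun hval e'
            rw [Function.update_of_ne he] at h1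
            rcases hp' with rfl | rfl
            · simpa [dataFun] using congrArg (fun z => z.2.1) h1
            · simpa [dataFun] using congrArg (fun z => z.2.2) h1
    by_cases hin : (p, e₀, some false) ∈ M g
    · exact no_flip h2 hG0 (hctx g) (hctx g') (hM g) (hM g') (hcan g) (hcan g') (fun e => (hprod e).symm) hin
        (fun h => (hflag.mp h) hin) fun p' e' h1 h2 => (hoth p' e' h1 h2).symm
    · exact no_flip h2 hG0 (hctx g') (hctx g) (hM g') (hM g) (hcan g') (hcan g) hprod (hflag.mpr hin) hin hoth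
  let Z := OrData K true n D ⊕ OrData K false n D
  let free : ∀ f : OrData K true n D, ¬ (∃ e, P f e) → OrData K false n D := fun f hf =>
    ⟨f.1, fun e => by
      obtain ⟨b1, b2, b3, b4⟩ := f.2.1 e
      refine ⟨b1, fun _ => ?_, b3, b4⟩
      rcases Nat.even_or_odd e with he | he
      · exact b2 (Or.inl he)
      · have h1 : ¬ (f.1 e).1.IsRoot 1 := fun h => hf ⟨e, he, Or.inl h⟩
        have h1' : ¬ (f.1 e).1.IsRoot (-1) := fun h => hf ⟨e, he, Or.inr h⟩
        obtain ⟨a1, a2⟩ := pal_of_noroot h2 b1.2.2 b1.2.1 h1 h1'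
        exact ⟨a1, a2, Bool.eq_false_iff.mpr fun h => h1 (b3 h), Bool.eq_false_iff.mpr fun h => h1' (b4 h)⟩,
      f.2.2.1, f.2.2.2⟩
  let Ψ : ConjClasses ↥(OG G) ⊕ ConjClasses ↥(OG G) → Z := Sum.elim (fun c => Sum.inl (Φ c))
    fun c => if hf : ∃ e, P (Φ c) e then Sum.inl (fl (Φ c) hf) else Sum.inr (free (Φ c) hf)
  have hΨ : Function.Injective Ψ := by
    rintro (c | c) (c' | c') h <;> simp only [Ψ, Sum.elim_inl, Sum.elim_inr] at h
    · exact congrArg Sum.inl (hΦ (Sum.inl_injective h))
    · split_ifs at h with hf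
      exact absurd (Sum.inl_injective h) (hflip c' c hf)
    · split_ifs at h with hf
      exact absurd (Sum.inl_injective h).symm (hflip c c' hf)
    · split_ifs at h with hf hf' hf'
      · exact congrArg Sum.inr (hΦ (hfl_inj _ _ _ _ (Sum.inl_injective h)))
      · exact congrArg Sum.inr (hΦ (Subtype.ext
          (congrArg (fun z : OrData K false n D => z.1) (Sum.inr_injective h) :)))
  have h := Nat.card_le_card_of_injective Ψ hΨ
  rw [Nat.card_sum, Nat.card_sum] at h
  omega

/-- The number of classes of an orthogonal group in even dimension. -/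
theorem og_classes_le (h2 : (2 : K) ≠ 0) (G : Matrix ι ι K) (hG : G.IsSymm) (hG0 : G.det ≠ 0)
    (hcard : Fintype.card ι = 2 * n) :
    2 * Nat.card (ConjClasses ↥(OG G)) ≤
      oCount (Fintype.card K) true n (2 * n) + oCount (Fintype.card K) false n (2 * n) :=
  og_classes_le_gen h2 G hG hG0 (Nat.le_succ _) hcard

end CfsgLib.IsometryClasses
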