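import Cfsg.Agent.Lib.IsometryClasses.OrCyclic
import Cfsg.Agent.Lib.IsometryClasses.Orthogonal

/-!
A lower bound for the number of classes of an orthogonal group in even dimension.
-/

set_option autoImplicit false
set_option linter.unusedSectionVars false

namespace CfsgLib.IsometryClasses

open Polynomial

universe u

variable {K : Type u} [Field K]

/-- The lower half of a palindromic polynomial. -/
noncomputable def palBase (k : ℕ) (c : Fin (k - 1) → K) : K[X] :=
  X ^ (2 * k) + 1 + ∑ i : Fin (k - 1), C (c i) * (X ^ ((i : ℕ) + 1) + X ^ (2 * k - 1 - (i : ℕ)))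

/-- A palindromic polynomial. -/
noncomputable def pal (k : ℕ) (z : (Fin (k - 1) → K) × K) : K[X] := palBase k z.1 + C z.2 * X ^ k

theorem pal_coeff {k : ℕ} (hk : 1 ≤ k) (z : (Fin (k - 1) → K) × K) :
    (pal k z).coeff 0 = 1 ∧ (pal k z).coeff k = z.2 ∧ (pal k z).coeff (2 * k) = 1 ∧
      ∀ i : Fin (k - 1), (pal k z).coeff ((i : ℕ) + 1) = z.1 i := by
  classical
  have hc : ∀ j, (pal k z).coeff j = (if j = 2 * k then 1 else 0) + (if j = 0 then 1 else 0) +
      ∑ i : Fin (k - 1), z.1 i * ((if j = (i : ℕ) + 1 then 1 else 0) + (if j = 2 * k - 1 - (i : ℕ) then 1 else 0)) +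
      z.2 * (if j = k then 1 else 0) := fun j => by
    simp only [pal, palBase, coeff_add, finset_sum_coeff, coeff_C_mul, coeff_X_pow, coeff_one]
  refine ⟨?_, ?_, ?_, fun l => ?_⟩
  · rw [hc, if_neg (by omega), if_pos rfl, if_neg (by omega), Finset.sum_eq_zero fun i _ => ?_]
    · ring
    · have := i.2
      rw [if_neg (by omega), if_neg (by omega)]; ring
  · rw [hc, if_neg (by omega), if_neg (by omega), if_pos rfl, Finset.sum_eq_zero fun i _ => ?_]
    · ring
    · have := i.2
      rw [if_neg (by omega), if_neg (by omega)]; ring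
  · rw [hc, if_pos rfl, if_neg (by omega), if_neg (by omega), Finset.sum_eq_zero fun i _ => ?_]
    · ring
    · have := i.2
      rw [if_neg (by omega), if_neg (by omega)]; ring
  · have hl := l.2
    rw [hc, if_neg (by omega), if_neg (by omega), if_neg (by omega), Finset.sum_eq_single l]
    · rw [if_pos rfl, if_neg (by omega)]; ring
    · intro i _ hi
      have := i.2
      have hne : (i : ℕ) ≠ (l : ℕ) := fun h => hi (Fin.ext h)
      rw [if_neg (by omega), if_neg (by omega)]; ring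
    · simp

theorem pal_facts {k : ℕ} (hk : 1 ≤ k) (z : (Fin (k - 1) → K) × K) :
    (pal k z).Monic ∧ (pal k z).natDegree = 2 * k ∧ (pal k z).coeff 0 = 1 ∧ (pal k z).reverse = pal k z := by
  obtain ⟨h0, -, h2, -⟩ := pal_coeff hk z
  have hle : (pal k z).natDegree ≤ 2 * k := by
    refine natDegree_add_le_of_degree_le (natDegree_add_le_of_degree_le
      (natDegree_add_le_of_degree_le (by simp) (by simp)) ?_) ?_
    · refine natDegree_sum_le_of_forall_le _ _ fun i _ => (natDegree_C_mul_le _ _).trans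
        (natDegree_add_le_of_degree_le ?_ ?_)
      all_goals rw [natDegree_X_pow]; have := i.2; omega
    · refine (natDegree_C_mul_le _ _).trans ?_
      rw [natDegree_X_pow]; omega
  have hdeg : (pal k z).natDegree = 2 * k :=
    le_antisymm hle (le_natDegree_of_ne_zero (by rw [h2]; exact one_ne_zero))
  refine ⟨by rw [Monic, leadingCoeff, hdeg, h2], hdeg, h0, ?_⟩
  rw [reverse, hdeg, pal, palBase]
  have hsum : ∀ (s : Finset (Fin (k - 1))) (f : Fin (k - 1) → K[X]),
      reflect (2 * k) (∑ i ∈ s, f i) = ∑ i ∈ s, reflect (2 * k) (f i) := fun s f => by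
    induction s using Finset.cons_induction with
    | empty => simp
    | cons a s ha ih => rw [Finset.sum_cons, Finset.sum_cons, reflect_add, ih]
  have hX : ∀ j, j ≤ 2 * k → reflect (2 * k) (X ^ j : K[X]) = X ^ (2 * k - j) := fun j hj => by
    simpa [revAt_le hj] using reflect_C_mul_X_pow (2 * k) j (c := (1 : K))
  rw [reflect_add, reflect_add, reflect_add, hsum, hX _ le_rfl, Nat.sub_self, pow_zero,
    show reflect (2 * k) (1 : K[X]) = X ^ (2 * k) by simpa using hX 0 (Nat.zero_le _),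
    reflect_C_mul_X_pow, revAt_le (by omega), show 2 * k - k = k by omega, add_comm (1 : K[X])]
  congr 2
  refine Finset.sum_congr rfl fun i _ => ?_
  have := i.2
  rw [reflect_C_mul, reflect_add, hX _ (by omega), hX _ (by omega),
    show 2 * k - ((i : ℕ) + 1) = 2 * k - 1 - (i : ℕ) by omega,
    show 2 * k - (2 * k - 1 - (i : ℕ)) = (i : ℕ) + 1 by omega]
  ring

theorem pal_injective {k : ℕ} (hk : 1 ≤ k) : Function.Injective (pal (K := K) k) := fun z z' h => by
  obtain ⟨-, h1, -, h3⟩ := pal_coeff hk z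
  obtain ⟨-, h1', -, h3'⟩ := pal_coeff hk z'
  exact Prod.ext (funext fun i => by rw [← h3 i, ← h3' i, h]) (by rw [← h1, ← h1', h])

theorem pal_eval (k : ℕ) (z : (Fin (k - 1) → K) × K) (a : K) :
    (pal k z).eval a = (palBase k z.1).eval a + z.2 * a ^ k := by
  simp [pal]

variable [Fintype K]

/-- Pairs of nonzero values with a prescribed square class of the product. -/
theorem card_pairs (h2 : (2 : K) ≠ 0) {s : K} (hs : s ≠ 0) :
    2 * Nat.card {z : K × K // z.1 ≠ 0 ∧ z.2 ≠ 0 ∧ IsSquare (z.1 * z.2 * s)} = (Fintype.card K - 1) ^ 2 := by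
  classical
  have hchar : ringChar K ≠ 2 := fun hc => h2 (by
    have : ((ringChar K : ℕ) : K) = 0 := ringChar.Nat.cast_ringChar
    rw [hc] at this
    exact_mod_cast this)
  obtain ⟨l, hl⟩ := FiniteField.exists_nonsquare hchar
  have hl0 : l ≠ 0 := fun h => hl (h ▸ IsSquare.zero)
  let P := {z : K × K // z.1 ≠ 0 ∧ z.2 ≠ 0}
  let p : P → Prop := fun z => IsSquare (z.1.1 * z.1.2 * s)
  have hflip : ∀ z : P, p ⟨(z.1.1, l * z.1.2), z.2.1, mul_ne_zero hl0 z.2.2⟩ ↔ ¬ p z := fun z => by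
    show IsSquare (z.1.1 * (l * z.1.2) * s) ↔ ¬ IsSquare (z.1.1 * z.1.2 * s)
    rw [show z.1.1 * (l * z.1.2) * s = l * (z.1.1 * z.1.2 * s) by ring,
      FiniteForms.isSquare_mul_iff hl0 (mul_ne_zero (mul_ne_zero z.2.1 z.2.2) hs)]
    tauto
  let e : {z : P // p z} ≃ {z : P // ¬ p z} :=
    Equiv.subtypeEquiv
      { toFun := fun z => ⟨(z.1.1, l * z.1.2), z.2.1, mul_ne_zero hl0 z.2.2⟩
        invFun := fun z => ⟨(z.1.1, l⁻¹ * z.1.2), z.2.1, mul_ne_zero (inv_ne_zero hl0) z.2.2⟩
        left_inv := fun z => Subtype.ext (Prod.ext rfl (by simp [hl0]))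
        right_inv := fun z => Subtype.ext (Prod.ext rfl (by simp [hl0])) }
      fun z => by
        show p z ↔ ¬ p ⟨(z.1.1, l * z.1.2), z.2.1, mul_ne_zero hl0 z.2.2⟩
        rw [hflip, not_not]
  have h1 : Nat.card P = (Fintype.card K - 1) ^ 2 := by
    have hne : Nat.card {x : K // x ≠ 0} = Fintype.card K - 1 := by
      rw [Nat.card_eq_fintype_card, Fintype.card_subtype_compl, Fintype.card_subtype_eq]
    rw [show Nat.card P = Nat.card ({x : K // x ≠ 0} × {x : K // x ≠ 0}) from Nat.card_congr (Equiv.subtypeProdEquivProd (p := fun x : K => x ≠ 0) (q := fun x : K => x ≠ 0)),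
      Nat.card_prod, hne, sq]
  have h3 : Nat.card P = Nat.card {z : P // p z} + Nat.card {z : P // ¬ p z} := by
    rw [← Nat.card_congr (Equiv.sumCompl p), Nat.card_sum]
  rw [← Nat.card_congr e] at h3
  have h4 : Nat.card {z : P // p z} = Nat.card {z : K × K // z.1 ≠ 0 ∧ z.2 ≠ 0 ∧ IsSquare (z.1 * z.2 * s)} :=
    Nat.card_congr ((Equiv.subtypeSubtypeEquivSubtypeInter (fun z : K × K => z.1 ≠ 0 ∧ z.2 ≠ 0)
      fun z => IsSquare (z.1 * z.2 * s)).trans (Equiv.subtypeEquivRight fun z => and_assoc))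
  omega

theorem card_palA (h2 : (2 : K) ≠ 0) {k : ℕ} (hk : 2 ≤ k) {s : K} (hs : s ≠ 0) :
    Fintype.card K ^ (k - 2) * (Fintype.card K - 1) ^ 2 ≤ 2 * Nat.card {z : (Fin (k - 1) → K) × K //
      (pal k z).eval 1 ≠ 0 ∧ (pal k z).eval (-1) ≠ 0 ∧
        IsSquare ((pal k z).eval 1 * (pal k z).eval (-1) * s)} := by
  classical
  obtain ⟨k, rfl⟩ : ∃ j, k = j + 2 := ⟨k - 2, by omega⟩
  let Φ : (Fin (k + 1) → K) × K → (Fin k → K) × (K × K) := fun z =>
    (fun i => z.1 i.castSucc, (pal (k + 2) z).eval 1, (pal (k + 2) z).eval (-1))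
  have hinj : Function.Injective Φ := by
    intro z z' h
    simp only [Φ, Prod.mk.injEq] at h
    obtain ⟨h1, h3, h4⟩ := h
    have hb : ∀ (w : (Fin (k + 1) → K) × K) (a : K), (pal (k + 2) w).eval a =
        (a ^ (2 * (k + 2)) + 1 + ∑ i : Fin k, w.1 i.castSucc * (a ^ ((i : ℕ) + 1) + a ^ (2 * (k + 2) - 1 - (i : ℕ)))) +
          w.1 (Fin.last k) * (a ^ (k + 1) + a ^ (k + 3)) + w.2 * a ^ (k + 2) := fun w a => by
      rw [pal_eval, palBase]
      simp only [eval_add, eval_finset_sum, eval_mul, eval_C, eval_pow, eval_X, eval_one]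
      erw [Fin.sum_univ_castSucc]
      simp only [Fin.val_castSucc, Fin.val_last, show 2 * (k + 2) - 1 - k = k + 3 by omega]
      ring
    simp only [hb] at h3 h4
    simp only [fun i : Fin k => congrFun h1 i] at h3 h4
    set u := z.1 (Fin.last k) - z'.1 (Fin.last k) with hu
    set v := z.2 - z'.2 with hv
    have e3 : 2 * u + v = 0 := by rw [hu, hv]; simp only [one_pow] at h3; linear_combination h3
    have e4 : (-1 : K) ^ (k + 1) * (2 * u - v) = 0 := by
      rw [hu, hv]
      have q1 : (-1 : K) ^ (k + 3) = (-1) ^ (k + 1) := by rw [show k + 3 = k + 1 + 2 by omega, pow_add]; simp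
      rw [q1, pow_succ (-1 : K) (k + 1)] at h4
      linear_combination h4
    have e5 : 2 * u - v = 0 := (mul_eq_zero.mp e4).resolve_left (pow_ne_zero _ (neg_ne_zero.mpr one_ne_zero))
    have hv0 : v = 0 := by
      have : (2 : K) * v = 0 := by linear_combination e3 - e5
      exact (mul_eq_zero.mp this).resolve_left h2
    have hu0 : u = 0 := by
      have : (2 : K) * u = 0 := by linear_combination e3 - hv0
      exact (mul_eq_zero.mp this).resolve_left h2
    refine Prod.ext (funext fun i => ?_) (sub_eq_zero.mp hv0)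
    induction i using Fin.lastCases with
    | last => exact sub_eq_zero.mp hu0
    | cast i => exact congrFun h1 i
  have hbij : Function.Bijective Φ := (Fintype.bijective_iff_injective_and_card Φ).mpr ⟨hinj, by
    simp only [Fintype.card_prod, Fintype.card_fun, Fintype.card_fin]; ring⟩
  have e : {z : (Fin (k + 2 - 1) → K) × K // (pal (k + 2) z).eval 1 ≠ 0 ∧ (pal (k + 2) z).eval (-1) ≠ 0 ∧
        IsSquare ((pal (k + 2) z).eval 1 * (pal (k + 2) z).eval (-1) * s)} ≃
      {w : (Fin k → K) × (K × K) // w.2.1 ≠ 0 ∧ w.2.2 ≠ 0 ∧ IsSquare (w.2.1 * w.2.2 * s)} :=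
    Equiv.subtypeEquiv (Equiv.ofBijective Φ hbij) fun _ => Iff.rfl
  let e' : {w : (Fin k → K) × (K × K) // w.2.1 ≠ 0 ∧ w.2.2 ≠ 0 ∧ IsSquare (w.2.1 * w.2.2 * s)} ≃
      (Fin k → K) × {z : K × K // z.1 ≠ 0 ∧ z.2 ≠ 0 ∧ IsSquare (z.1 * z.2 * s)} :=
    { toFun := fun w => (w.1.1, ⟨w.1.2, w.2⟩), invFun := fun w => ⟨(w.1, w.2.1), w.2.2⟩,
      left_inv := fun _ => rfl, right_inv := fun _ => rfl }
  rw [Nat.card_congr (e.trans e'), Nat.card_prod, Nat.card_fun, Nat.card_eq_fintype_card (α := K), Nat.card_fin,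
    ← card_pairs h2 hs, Nat.add_sub_cancel]
  exact le_of_eq (by ring)

theorem card_palB {k : ℕ} :
    (Fintype.card K - 2) * Fintype.card K ^ (k - 1) ≤ Nat.card {z : (Fin (k - 1) → K) × K //
      (pal k z).eval 1 ≠ 0 ∧ (pal k z).eval (-1) ≠ 0} := by
  classical
  let bad : (Fin (k - 1) → K) → Finset K := fun c =>
    {-((palBase k c).eval 1), -((palBase k c).eval (-1)) / (-1) ^ k}
  let g : (c : Fin (k - 1) → K) × {a : K // a ∉ bad c} →
      {z : (Fin (k - 1) → K) × K // (pal k z).eval 1 ≠ 0 ∧ (pal k z).eval (-1) ≠ 0} := fun w =>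
    ⟨(w.1, w.2.1), by
      have hw := w.2.2
      simp only [bad, Finset.mem_insert, Finset.mem_singleton, not_or] at hw
      refine ⟨fun h => hw.1 ?_, fun h => hw.2 ?_⟩
      · rw [pal_eval, one_pow, mul_one] at h
        linear_combination h
      · rw [pal_eval] at h
        rw [eq_div_iff (pow_ne_zero _ (neg_ne_zero.mpr one_ne_zero))]
        linear_combination h⟩
  have hg : Function.Injective g := fun w w' h => by
    simp only [g, Subtype.mk.injEq, Prod.mk.injEq] at h
    obtain ⟨c, a, ha⟩ := w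
    obtain ⟨c', a', ha'⟩ := w'
    obtain ⟨rfl, rfl⟩ := h
    rfl
  refine le_trans ?_ (Nat.card_le_card_of_injective g hg)
  rw [Nat.card_sigma]
  refine le_trans ?_ (Finset.sum_le_sum fun c _ => (?_ : Fintype.card K - 2 ≤ Nat.card {a : K // a ∉ bad c}))
  · rw [Finset.sum_const, Finset.card_univ, Fintype.card_fun, Fintype.card_fin, smul_eq_mul]
    exact le_of_eq (mul_comm _ _)
  · have h1 : (bad c).card ≤ 2 := Finset.card_le_two
    rw [Nat.card_eq_fintype_card, Fintype.card_subtype_compl, Fintype.card_coe]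
    omega

variable {ι : Type} [Fintype ι] [DecidableEq ι]

/-- An isometry of some form with the same discriminant gives one of the given form. -/
theorem exists_og_charpoly (h2 : (2 : K) ≠ 0) {G : Matrix ι ι K} (hG : G.IsSymm) (hG0 : G.det ≠ 0)
    {κ : Type} [Fintype κ] [DecidableEq κ] (hcard : Fintype.card κ = Fintype.card ι) {J A : Matrix κ κ K}
    (hJ : J.IsSymm) (hJ0 : J.det ≠ 0) (hA : Matrix.transpose A * J * A = J) (hsq : IsSquare (J.det * G.det)) :
    ∃ g : ↥(OG G), (g.1.1).charpoly = A.charpoly := by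
  let e := Fintype.equivOfCardEq hcard
  have hAdet : A.det ≠ 0 := fun h0 => hJ0 (by
    have := congrArg Matrix.det hA
    rw [Matrix.det_mul, Matrix.det_mul, h0, mul_zero] at this
    exact this.symm)
  set J' := J.submatrix e.symm e.symm with hJ'
  set A' := A.submatrix e.symm e.symm with hA'
  have hJdet : J'.det = J.det := Matrix.det_submatrix_equiv_self _ _
  have hJA : Matrix.transpose A' * J' * A' = J' := by
    rw [hA', hJ', Matrix.transpose_submatrix, Matrix.submatrix_mul_equiv, Matrix.submatrix_mul_equiv, hA]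
  obtain ⟨P, hP, hPe⟩ := (FiniteForms.congr_iff h2 hG (hJ.submatrix _) hG0 (hJdet ▸ hJ0)).mpr
    (by rw [hJdet, mul_comm]; exact hsq)
  let Pu := Matrix.GeneralLinearGroup.mkOfDetNeZero P hP
  let Au := Matrix.GeneralLinearGroup.mkOfDetNeZero A'
    (by rw [hA', Matrix.det_submatrix_equiv_self]; exact hAdet)
  have hGe : G = Matrix.transpose (Pu⁻¹).1 * J' * (Pu⁻¹).1 := by
    rw [hJ', ← hPe]
    show G = Matrix.transpose (Pu⁻¹).1 * (Matrix.transpose Pu.1 * G * Pu.1) * (Pu⁻¹).1
    rw [show Matrix.transpose (Pu⁻¹).1 * (Matrix.transpose Pu.1 * G * Pu.1) * (Pu⁻¹).1 =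
      Matrix.transpose (Pu.1 * (Pu⁻¹).1) * G * (Pu.1 * (Pu⁻¹).1) by
        rw [Matrix.transpose_mul]; simp only [Matrix.mul_assoc],
      Units.mul_inv, Matrix.transpose_one, Matrix.one_mul, Matrix.mul_one]
  refine ⟨⟨Pu * Au * Pu⁻¹, ?_⟩, ?_⟩
  · show Matrix.transpose (Pu * Au * Pu⁻¹).1 * G * (Pu * Au * Pu⁻¹).1 = G
    calc Matrix.transpose (Pu * Au * Pu⁻¹).1 * G * (Pu * Au * Pu⁻¹).1
        = Matrix.transpose (Pu⁻¹).1 * (Matrix.transpose A' * (Matrix.transpose P * G * P) * A') * (Pu⁻¹).1 := by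
          simp only [Units.val_mul, Matrix.transpose_mul, Matrix.mul_assoc]; rfl
      _ = G := by rw [hPe, hJA, ← hGe]
  · show (Pu.1 * Au.1 * (Pu⁻¹).1).charpoly = _
    rw [Matrix.coe_units_inv, Matrix.charpoly_units_conj]
    exact Matrix.charpoly_reindex e A

theorem le_og_classes (h2 : (2 : K) ≠ 0) (G : Matrix ι ι K) (hG : G.IsSymm) (hG0 : G.det ≠ 0) {n : ℕ} (hn : 2 ≤ n)
    (hcard : Fintype.card ι = 2 * n) : Fintype.card K ^ n ≤ 2 * Nat.card (ConjClasses ↥(OG G)) := by
  classical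
  obtain ⟨k, rfl⟩ : ∃ j, n = j + 2 := ⟨n - 2, by omega⟩
  haveI : Finite (Matrix ι ι K) := inferInstanceAs (Finite (ι → ι → K))
  haveI : Finite (Matrix.GeneralLinearGroup ι K) := Finite.of_injective _ Units.val_injective
  haveI : Finite ↥(OG G) := Subtype.finite
  let S := {f : K[X] // ∃ g : ↥(OG G), g.1.1.charpoly = f}
  let χ : ConjClasses ↥(OG G) → S := Quotient.lift (fun g => (⟨g.1.1.charpoly, g, rfl⟩ : S)) (fun a b hab => by
    obtain ⟨c, hc⟩ := isConj_iff.mp hab
    refine Subtype.ext ?_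
    show a.1.1.charpoly = b.1.1.charpoly
    rw [← hc]
    show _ = (c.1.1 * a.1.1 * (c.1⁻¹).1).charpoly
    rw [Matrix.coe_units_inv, Matrix.charpoly_units_conj])
  have hχ : Function.Surjective χ := fun ⟨f, g, hg⟩ => ⟨ConjClasses.mk g, Subtype.ext hg⟩
  haveI : Finite S := Finite.of_surjective χ hχ
  have hS : Nat.card S ≤ Nat.card (ConjClasses ↥(OG G)) := Nat.card_le_card_of_surjective χ hχ
  -- root-free characteristic polynomials of the right discriminant
  let PA := {z : (Fin (k + 2 - 1) → K) × K // (pal (k + 2) z).eval 1 ≠ 0 ∧ (pal (k + 2) z).eval (-1) ≠ 0 ∧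
      IsSquare ((pal (k + 2) z).eval 1 * (pal (k + 2) z).eval (-1) * G.det)}
  have hA : ∀ z : PA, ∃ g : ↥(OG G), g.1.1.charpoly = pal (k + 2) z.1 := fun z => by
    obtain ⟨a, b, c, d⟩ := pal_facts (k := k + 2) (by omega) z.1
    obtain ⟨J, A, hJ, hJ0, hJA, hchar, hsq⟩ := exists_cyclic_isometry a b c d z.2.1 z.2.2.1
    rw [← hchar]
    refine exists_og_charpoly h2 hG hG0 (by simp [hcard]; ring) hJ hJ0 hJA ?_
    have h3 := mul_ne_zero z.2.1 z.2.2.1
    rw [FiniteForms.isSquare_mul_iff hJ0 h3] at hsq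
    rw [FiniteForms.isSquare_mul_iff hJ0 hG0, hsq]
    exact (FiniteForms.isSquare_mul_iff h3 hG0).mp z.2.2.2
  -- extended by a two-dimensional block
  let PB := {z : (Fin (k + 1 - 1) → K) × K // (pal (k + 1) z).eval 1 ≠ 0 ∧ (pal (k + 1) z).eval (-1) ≠ 0}
  let blk : Fin 3 → K × K := ![(1, 1), (1, -1), (-1, -1)]
  have hblk : ∀ i, (blk i).1 * (blk i).1 = 1 ∧ (blk i).2 * (blk i).2 = 1 := fun i => by
    fin_cases i <;> simp [blk]
  have hB : ∀ (z : PB) (i : Fin 3), ∃ g : ↥(OG G),
      g.1.1.charpoly = pal (k + 1) z.1 * ((X - C (blk i).1) * (X - C (blk i).2)) := fun z i => by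
    obtain ⟨a, b, c, d⟩ := pal_facts (k := k + 1) (by omega) z.1
    obtain ⟨J, A, hJ, hJ0, hJA, hchar, -⟩ := exists_cyclic_isometry a b c d z.2.1 z.2.2
    set w := J.det * G.det
    have hw : w ≠ 0 := mul_ne_zero hJ0 hG0
    let dg : Fin 2 → K := ![1, w]
    let ev : Fin 2 → K := ![(blk i).1, (blk i).2]
    have hA' : (Matrix.fromBlocks A 0 0 (Matrix.diagonal ev)).charpoly =
        pal (k + 1) z.1 * ((X - C (blk i).1) * (X - C (blk i).2)) := by
      rw [Matrix.charpoly_fromBlocks_zero₁₂, hchar, Matrix.charpoly_diagonal, Fin.prod_univ_two]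
      rfl
    rw [← hA']
    refine exists_og_charpoly h2 hG hG0 (J := Matrix.fromBlocks J 0 0 (Matrix.diagonal dg)) ?_
      (Matrix.IsSymm.fromBlocks hJ (by simp) (Matrix.isSymm_diagonal dg)) ?_ ?_ ?_
    · simp [hcard]; ring
    · rw [Matrix.det_fromBlocks_zero₂₁, Matrix.det_diagonal, Fin.prod_univ_two]
      exact mul_ne_zero hJ0 (mul_ne_zero one_ne_zero hw)
    · rw [Matrix.fromBlocks_transpose, Matrix.fromBlocks_multiply, Matrix.fromBlocks_multiply]
      simp only [Matrix.transpose_zero, Matrix.diagonal_transpose, Matrix.zero_mul, Matrix.mul_zero, add_zero,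
        zero_add, hJA, Matrix.diagonal_mul_diagonal]
      congr 2
      funext j
      fin_cases j
      · simp [ev, dg, (hblk i).1]
      · show (blk i).2 * w * (blk i).2 = w
        linear_combination w * (hblk i).2
    · refine ⟨w, ?_⟩
      rw [Matrix.det_fromBlocks_zero₂₁, Matrix.det_diagonal, Fin.prod_univ_two]
      simp only [dg, Matrix.cons_val_zero, Matrix.cons_val_one]
      ring
  let Ψ : PA ⊕ (PB × Fin 3) → S := Sum.elim (fun z => ⟨_, hA z⟩) fun z => ⟨_, hB z.1 z.2⟩
  have hroot : ∀ (z : PB) (i : Fin 3) (a : K), (pal (k + 1) z.1).eval a ≠ 0 →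
      ((pal (k + 1) z.1 * ((X - C (blk i).1) * (X - C (blk i).2))).eval a = 0 ↔ a = (blk i).1 ∨ a = (blk i).2) := by
    intro z i a ha
    simp [eval_mul, ha, sub_eq_zero]
  have h11 : (1 : K) ≠ -1 := fun h => h2 (by linear_combination h)
  have hΨ : Function.Injective Ψ := by
    rintro (z | ⟨z, i⟩) (z' | ⟨z', i'⟩) h <;> replace h := congrArg Subtype.val h <;>
      simp only [Ψ, Sum.elim_inl, Sum.elim_inr] at h
    · exact congrArg Sum.inl (Subtype.ext (pal_injective (by omega) h))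
    · have e1 := congrArg (Polynomial.eval (blk i').1) h
      have hb : (blk i').1 = 1 ∨ (blk i').1 = -1 := mul_self_eq_one_iff.mp (hblk i').1
      rw [show Polynomial.eval (blk i').1 ((pal (k + 1) z'.1 : K[X]) * ((X - C (blk i').1) * (X - C (blk i').2))) = (0 : K) by simp] at e1
      rcases hb with hb | hb <;> rw [hb] at e1
      exacts [absurd e1 z.2.1, absurd e1 z.2.2.1]
    · have e1 := congrArg (Polynomial.eval (blk i).1) h
      have hb : (blk i).1 = 1 ∨ (blk i).1 = -1 := mul_self_eq_one_iff.mp (hblk i).1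
      rw [show Polynomial.eval (blk i).1 ((pal (k + 1) z.1 : K[X]) * ((X - C (blk i).1) * (X - C (blk i).2))) = (0 : K) by simp] at e1
      rcases hb with hb | hb <;> rw [hb] at e1
      exacts [absurd e1.symm z'.2.1, absurd e1.symm z'.2.2.1]
    · have p1 := hroot z i 1 z.2.1
      have p2 := hroot z i (-1) z.2.2
      rw [h, hroot z' i' 1 z'.2.1] at p1
      rw [h, hroot z' i' (-1) z'.2.2] at p2
      have hii : i = i' := by fin_cases i <;> fin_cases i' <;> simp [blk, h11, h11.symm] at p1 p2 ⊢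
      subst hii
      exact congrArg Sum.inr (Prod.ext (Subtype.ext (pal_injective (by omega) (mul_right_cancel₀
        (mul_ne_zero (X_sub_C_ne_zero _) (X_sub_C_ne_zero _)) h))) rfl)
  have h1 := Nat.card_le_card_of_injective Ψ hΨ
  rw [Nat.card_sum, Nat.card_prod, Nat.card_fin] at h1
  have hPA : Fintype.card K ^ k * (Fintype.card K - 1) ^ 2 ≤ 2 * Nat.card PA :=
    card_palA h2 (k := k + 2) (by omega) hG0
  have hPB : (Fintype.card K - 2) * Fintype.card K ^ k ≤ Nat.card PB := card_palB (K := K) (k := k + 1)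
  have hq : 3 ≤ Fintype.card K := by
    by_contra hlt
    have := Fintype.one_lt_card (α := K)
    have h4 : Fintype.card K = 2 := by omega
    refine h2 ?_
    have h5 := FiniteField.cast_card_eq_zero K
    rw [h4] at h5
    exact_mod_cast h5
  obtain ⟨r, hr⟩ : ∃ r, Fintype.card K = r + 3 := ⟨_, (Nat.sub_add_cancel hq).symm⟩
  rw [hr, show r + 3 - 1 = r + 2 by omega] at hPA
  rw [hr, show r + 3 - 2 = r + 1 by omega] at hPB
  rw [hr, pow_add]
  have e1 : 0 ≤ (r + 3) ^ k * (r * (4 + r)) := Nat.zero_le _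
  nlinarith

end CfsgLib.IsometryClasses
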