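import Cfsg.Agent.Lib.IsometryClasses.OrLower
import Cfsg.Agent.Lib.IsometryClasses.Orthogonal

/-!
Self-dual polynomials with at most simple roots at one and minus one.
-/

set_option autoImplicit false
set_option linter.unusedSectionVars false

namespace CfsgLib.IsometryClasses

open Polynomial

universe u

variable {K : Type u} [Field K]

theorem du_of_reverse {p : K[X]} (h0 : p.coeff 0 = 1) (hr : p.reverse = p) : du p = p := by
  rw [du, SUClassNumber.dualP, RingHom.id_apply, h0, inv_one, C_1, one_mul, Polynomial.map_id, hr]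

/-- A value determines the two top coordinates. -/
theorem pal_two_values (h2 : (2 : K) ≠ 0) {k : ℕ} {z z' : (Fin (k + 1) → K) × K}
    (h1 : ∀ i : Fin k, z.1 i.castSucc = z'.1 i.castSucc)
    (h3 : (pal (k + 2) z).eval 1 = (pal (k + 2) z').eval 1)
    (h4 : (pal (k + 2) z).eval (-1) = (pal (k + 2) z').eval (-1)) : z = z' := by
  have hb : ∀ (w : (Fin (k + 1) → K) × K) (a : K), (pal (k + 2) w).eval a =
      (a ^ (2 * (k + 2)) + 1 + ∑ i : Fin k, w.1 i.castSucc * (a ^ ((i : ℕ) + 1) + a ^ (2 * (k + 2) - 1 - (i : ℕ)))) +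
        w.1 (Fin.last k) * (a ^ (k + 1) + a ^ (k + 3)) + w.2 * a ^ (k + 2) := fun w a => by
    rw [pal_eval, palBase]
    simp only [eval_add, eval_finset_sum, eval_mul, eval_C, eval_pow, eval_X, eval_one]
    erw [Fin.sum_univ_castSucc]
    simp only [Fin.val_castSucc, Fin.val_last, show 2 * (k + 2) - 1 - k = k + 3 by omega]
    ring
  simp only [hb] at h3 h4
  simp only [h1] at h3 h4
  set u := z.1 (Fin.last k) - z'.1 (Fin.last k) with hu
  set v := z.2 - z'.2 with hv
  have e3 : 2 * u + v = 0 := by rw [hu, hv]; simp only [one_pow] at h3; linear_combination h3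
  have e4 : (-1 : K) ^ (k + 1) * (2 * u - v) = 0 := by
    rw [hu, hv]
    have q1 : (-1 : K) ^ (k + 3) = (-1) ^ (k + 1) := by rw [show k + 3 = k + 1 + 2 by omega, pow_add]; simp
    rw [q1, pow_succ (-1 : K) (k + 1)] at h4
    linear_combination h4
  have e5 : 2 * u - v = 0 := (mul_eq_zero.mp e4).resolve_left (pow_ne_zero _ (neg_ne_zero.mpr one_ne_zero))
  have hv0 : v = 0 := (mul_eq_zero.mp (show (2 : K) * v = 0 by linear_combination e3 - e5)).resolve_left h2
  have hu0 : u = 0 := (mul_eq_zero.mp (show (2 : K) * u = 0 by linear_combination e3 - hv0)).resolve_left h2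
  refine Prod.ext (funext fun i => ?_) (sub_eq_zero.mp hv0)
  induction i using Fin.lastCases with
  | last => exact sub_eq_zero.mp hu0
  | cast i => exact h1 i

variable [Fintype K]

theorem exists_pal_of_sd1 {k : ℕ} (hk : 1 ≤ k) (f : SD1 K k) : ∃ z, pal k z = f.1.1 := by
  obtain ⟨_, hB⟩ := SD1.bound (K := K) k
  let Φ : (Fin (k - 1) → K) × K → SD1 K k := fun z =>
    ⟨⟨pal k z, (pal_facts hk z).1, (pal_facts hk z).2.1,
      du_of_reverse (pal_facts hk z).2.2.1 (pal_facts hk z).2.2.2,
      by rw [(pal_facts hk z).2.2.1]; exact one_ne_zero⟩, (pal_facts hk z).2.2.1⟩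
  have hΦ : Function.Injective Φ := fun z z' h => pal_injective hk (congrArg (fun w : SD1 K k => w.1.1) h)
  have hcard : Nat.card ((Fin (k - 1) → K) × K) = Fintype.card K ^ k := by
    rw [Nat.card_prod, Nat.card_fun, Nat.card_eq_fintype_card (α := K), Nat.card_fin, ← pow_succ,
      Nat.sub_add_cancel hk]
  obtain ⟨z, hz⟩ := (hΦ.bijective_of_nat_card_le (hcard ▸ hB)).2 f
  exact ⟨z, congrArg (fun w : SD1 K k => w.1.1) hz⟩

/-- Self-dual polynomials of degree `2 * i` without roots at one and minus one. -/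
def SDR (K : Type u) [Field K] (i : ℕ) : Type u :=
  {f : SD1 K i // ¬ f.1.1.IsRoot 1 ∧ ¬ f.1.1.IsRoot (-1)}

/-- The number of these. -/
def n0 (q : ℕ) : ℕ → ℕ
  | 0 => 1
  | 1 => q - 2
  | k + 2 => q ^ k * (q - 1) ^ 2

theorem SDR.bound (h2 : (2 : K) ≠ 0) (i : ℕ) : Finite (SDR K i) ∧ Nat.card (SDR K i) ≤ n0 (Fintype.card K) i := by
  classical
  obtain ⟨_, hB⟩ := SD1.bound (K := K) i
  haveI hfin : Finite (SDR K i) := Subtype.finite
  refine ⟨hfin, ?_⟩
  rcases i with _ | _ | k
  · refine (Nat.card_le_card_of_injective (fun f : SDR K 0 => f.1) Subtype.val_injective).trans ?_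
    simpa [n0] using hB
  · choose Z hZ using fun f : SDR K 1 => exists_pal_of_sd1 le_rfl f.1
    have hev : ∀ f : SDR K 1, (Z f).2 ≠ -2 ∧ (Z f).2 ≠ 2 := fun f => by
      constructor <;> intro h
      · refine f.2.1 ?_
        rw [← hZ f, IsRoot, pal_eval, palBase, h]
        simp
        norm_num
      · refine f.2.2 ?_
        rw [← hZ f, IsRoot, pal_eval, palBase, h]
        simp
        norm_num
    let Φ : SDR K 1 → {c : K // c ∉ ({-2, 2} : Finset K)} := fun f => ⟨(Z f).2, by simp [hev f]⟩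
    have hΦ : Function.Injective Φ := fun f f' h => by
      refine Subtype.ext (Subtype.ext (Subtype.ext ?_))
      rw [← hZ f, ← hZ f', show Z f = Z f' from Prod.ext (funext fun i => absurd i.2 (by simp)) (congrArg Subtype.val h)]
    refine (Nat.card_le_card_of_injective Φ hΦ).trans (le_of_eq ?_)
    have hne : (-2 : K) ≠ 2 := fun h => h2 ((mul_eq_zero.mp (show (2 : K) * 2 = 0 by linear_combination -h)).elim id id)
    rw [Nat.card_eq_fintype_card, Fintype.card_subtype_compl, Fintype.card_coe, Finset.card_pair hne]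
    rfl
  · choose Z hZ using fun f : SDR K (k + 2) => exists_pal_of_sd1 (by omega) f.1
    let Φ : SDR K (k + 2) → (Fin k → K) × {a : K // a ≠ 0} × {a : K // a ≠ 0} := fun f =>
      (fun i => (Z f).1 i.castSucc, ⟨(pal (k + 2) (Z f)).eval 1, by rw [hZ f]; exact f.2.1⟩,
        ⟨(pal (k + 2) (Z f)).eval (-1), by rw [hZ f]; exact f.2.2⟩)
    have hΦ : Function.Injective Φ := fun f f' h => by
      simp only [Φ, Prod.mk.injEq, Subtype.mk.injEq] at h
      refine Subtype.ext (Subtype.ext (Subtype.ext ?_))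
      rw [← hZ f, ← hZ f', pal_two_values h2 (congrFun h.1) h.2.1 h.2.2]
    refine (Nat.card_le_card_of_injective Φ hΦ).trans (le_of_eq ?_)
    have hne : Nat.card {x : K // x ≠ 0} = Fintype.card K - 1 := by
      rw [Nat.card_eq_fintype_card, Fintype.card_subtype_compl, Fintype.card_subtype_eq]
    rw [Nat.card_prod, Nat.card_prod, Nat.card_fun, Nat.card_eq_fintype_card (α := K), Nat.card_fin, hne, n0, sq]

/-- Self-dual polynomials with at most simple roots at one and minus one. -/
def SDS (K : Type u) [Field K] (m : ℕ) : Type u :=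
  {f : K[X] // (f.Monic ∧ f.natDegree = m ∧ du f = f ∧ f.coeff 0 ≠ 0) ∧
    ¬ (X - C 1) ^ 2 ∣ f ∧ ¬ (X - C (-1)) ^ 2 ∣ f}

/-- The bound for their number. -/
def ropt (q m : ℕ) : ℕ :=
  if Even m then n0 q (m / 2) + (if m = 0 then 0 else n0 q (m / 2 - 1)) else 2 * n0 q (m / 2)

/-- The degree of the part at one and minus one. -/
def pmDeg (a b : Bool) : ℕ := (if a then 1 else 0) + (if b then 1 else 0)

/-- The factor at one and minus one. -/
noncomputable def pmFac (K : Type u) [Field K] (a b : Bool) : K[X] :=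
  (if a then X - C 1 else 1) * (if b then X - C (-1) else 1)

theorem SDS.split (h2 : (2 : K) ≠ 0) {m : ℕ} (f : SDS K m) : ∃ (a b : Bool) (i : ℕ) (h : SDR K i),
    f.1 = pmFac K a b * h.1.1.1 ∧ m = pmDeg a b + 2 * i := by
  classical
  obtain ⟨f, ⟨hmon, hdeg, hdu, h0⟩, hs1, hs2⟩ := f
  set a : Bool := decide (f.IsRoot 1)
  set b : Bool := decide (f.IsRoot (-1))
  have h11 : (1 : K) ≠ -1 := fun h => h2 (by linear_combination h)
  have hg : pmFac K a b ∣ f := by
    by_cases h1 : f.IsRoot 1 <;> by_cases hm1 : f.IsRoot (-1) <;>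
      simp only [pmFac, a, b, decide_true, decide_false, h1, hm1, if_true, Bool.false_eq_true, if_false, one_mul,
        mul_one, one_dvd, dvd_iff_isRoot]
    exact (isCoprime_X_sub_C_of_isUnit_sub (isUnit_iff_ne_zero.mpr (sub_ne_zero.mpr h11))).mul_dvd
      (dvd_iff_isRoot.mpr h1) (dvd_iff_isRoot.mpr hm1)
  obtain ⟨h, hh⟩ := hg
  have hgm : (pmFac K a b).Monic := by
    refine Monic.mul ?_ ?_ <;> split_ifs <;> first | exact monic_X_sub_C _ | exact monic_one
  have hhm : h.Monic := hgm.of_mul_monic_left (hh ▸ hmon)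
  have hgdu : du (pmFac K a b) = pmFac K a b := by
    rw [pmFac, du, SUClassNumber.dualP_mul]
    split_ifs <;> simp only [SUClassNumber.dualP_one, show SUClassNumber.dualP (RingHom.id K) (X - C (1 : K)) = _ from du_pm (Or.inl rfl),
      show SUClassNumber.dualP (RingHom.id K) (X - C (-1 : K)) = _ from du_pm (Or.inr rfl)]
  have hhdu : du h = h := by
    have h1 := hdu
    rw [hh, du, SUClassNumber.dualP_mul] at h1
    rw [show SUClassNumber.dualP (RingHom.id K) (pmFac K a b) = pmFac K a b from hgdu] at h1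
    exact mul_left_cancel₀ hgm.ne_zero h1
  have hh0 : h.coeff 0 ≠ 0 := fun hz => h0 (by rw [hh, mul_coeff_zero, hz, mul_zero])
  have hnr1 : ¬ h.IsRoot 1 := fun hr => by
    have hd := dvd_iff_isRoot.mpr hr
    by_cases h1 : f.IsRoot 1
    · refine hs1 ?_
      rw [hh, sq]
      exact mul_dvd_mul (by simp only [pmFac, a, decide_eq_true h1, if_true]; exact dvd_mul_right _ _) hd
    · exact h1 (by rw [hh]; exact dvd_iff_isRoot.mp (hd.mul_left _))
  have hnrm1 : ¬ h.IsRoot (-1) := fun hr => by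
    have hd := dvd_iff_isRoot.mpr hr
    by_cases h1 : f.IsRoot (-1)
    · refine hs2 ?_
      rw [hh, sq]
      exact mul_dvd_mul (by simp only [pmFac, b, decide_eq_true h1, if_true]; exact dvd_mul_left _ _) hd
    · exact h1 (by rw [hh]; exact dvd_iff_isRoot.mp (hd.mul_left _))
  obtain ⟨hc1, i, hi⟩ := pal_of_noroot h2 hh0 hhdu hnr1 hnrm1
  refine ⟨a, b, i, ⟨⟨⟨h, hhm, by rw [hi]; ring, hhdu, hh0⟩, hc1⟩, hnr1, hnrm1⟩, hh, ?_⟩
  rw [← hdeg, hh, hgm.natDegree_mul hhm, hi, pmFac, pmDeg]
  split_ifs <;>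
    simp only [natDegree_mul (X_sub_C_ne_zero (1 : K)) (X_sub_C_ne_zero (-1 : K)), natDegree_X_sub_C, one_mul, mul_one,
      natDegree_one] <;> ring

theorem SDS.bound (h2 : (2 : K) ≠ 0) (m : ℕ) : Finite (SDS K m) ∧ Nat.card (SDS K m) ≤ ropt (Fintype.card K) m := by
  classical
  choose A B I H hH hm using fun f : SDS K m => f.split h2
  haveI := fun i => (SDR.bound (K := K) h2 i).1
  rcases Nat.even_or_odd m with ⟨i, hi⟩ | ⟨i, hi⟩
  · have key : ∀ f : SDS K m, (A f = false ∧ B f = false ∧ I f = i) ∨ (A f = true ∧ B f = true ∧ I f = i - 1 ∧ m ≠ 0) :=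
      fun f => by
        have := hm f
        cases hA : A f <;> cases hB : B f <;> simp [pmDeg, hA, hB] at this ⊢ <;> omega
    let Φ : SDS K m → SDR K i ⊕ {_h : SDR K (i - 1) // m ≠ 0} := fun f =>
      if h : A f = false ∧ B f = false ∧ I f = i then Sum.inl (h.2.2 ▸ H f)
      else Sum.inr ⟨((key f).resolve_left h).2.2.1 ▸ H f, ((key f).resolve_left h).2.2.2⟩
    have hval : ∀ {j k : ℕ} (e : j = k) (w : SDR K j), (e ▸ w : SDR K k).1.1.1 = w.1.1.1 := by
      intro j k e w; subst e; rfl
    have hΦ : Function.Injective Φ := fun f f' h => by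
      refine Subtype.ext ?_
      rw [hH f, hH f']
      simp only [Φ] at h
      split_ifs at h with c c' c'
      · have := congrArg (fun w : SDR K i => w.1.1.1) (Sum.inl_injective h)
        simp only [hval] at this
        rw [c.1, c.2.1, c'.1, c'.2.1, this]
      · have := congrArg (fun w : {_h : SDR K (i - 1) // m ≠ 0} => w.1.1.1.1) (Sum.inr_injective h)
        simp only [hval] at this
        obtain ⟨a1, b1, -⟩ := (key f).resolve_left c
        obtain ⟨a2, b2, -⟩ := (key f').resolve_left c'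
        rw [a1, b1, a2, b2, this]
    haveI hfin : Finite (SDS K m) := Finite.of_injective Φ hΦ
    refine ⟨hfin, (Nat.card_le_card_of_injective Φ hΦ).trans ?_⟩
    rw [Nat.card_sum, ropt, if_pos ⟨i, hi⟩, show m / 2 = i by omega]
    refine Nat.add_le_add (SDR.bound h2 i).2 ?_
    split_ifs with h0
    · haveI : IsEmpty {_h : SDR K (i - 1) // m ≠ 0} := ⟨fun w => w.2 h0⟩
      simp
    · exact (Nat.card_le_card_of_injective Subtype.val Subtype.val_injective).trans (SDR.bound h2 (i - 1)).2
  · have key : ∀ f : SDS K m, I f = i ∧ B f = !A f := fun f => by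
      have := hm f
      cases hA : A f <;> cases hB : B f <;> simp [pmDeg, hA, hB] at this ⊢ <;> omega
    let Φ : SDS K m → Bool × SDR K i := fun f => (A f, (key f).1 ▸ H f)
    have hval : ∀ {j k : ℕ} (e : j = k) (w : SDR K j), (e ▸ w : SDR K k).1.1.1 = w.1.1.1 := by
      intro j k e w; subst e; rfl
    have hΦ : Function.Injective Φ := fun f f' h => by
      refine Subtype.ext ?_
      have h1 : A f = A f' := congrArg Prod.fst h
      have := congrArg (fun w : Bool × SDR K i => w.2.1.1.1) h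
      simp only [Φ, hval] at this
      rw [hH f, hH f', (key f).2, (key f').2, h1, this]
    refine ⟨Finite.of_injective Φ hΦ, (Nat.card_le_card_of_injective Φ hΦ).trans ?_⟩
    rw [Nat.card_prod, Nat.card_eq_fintype_card (α := Bool), Fintype.card_bool, ropt,
      if_neg (Nat.not_even_iff_odd.mpr ⟨i, hi⟩), show m / 2 = i by omega]
    exact Nat.mul_le_mul_left 2 (SDR.bound h2 i).2

end CfsgLib.IsometryClasses
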