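import Cfsg.Agent.Lib.IsometryClasses.Norm

/-!
Cyclic and hyperbolic pieces of an isometry and their invariants.
-/

set_option autoImplicit false
set_option linter.unusedSectionVars false

namespace CfsgLib.IsometryClasses

open Polynomial

universe u v w

variable {K : Type u} [Field K] [Fintype K] {V : Type v} [AddCommGroup V] [Module K V]
  {B : V →ₗ[K] V →ₗ[K] K} {x : Module.End K V} {ε : K} {N : ℕ}

theorem exact_dvd {p : K[X]} (hp : Irreducible p) {e : ℕ} {u : V} (hf : act x (p ^ e) u = 0)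
    (hq : act x (p ^ (e - 1)) u ≠ 0) {r : K[X]} (hr : act x r u = 0) : p ^ e ∣ r := by
  by_contra hne
  obtain ⟨a, b, hab⟩ := bezout_q hp hne
  refine hq ?_
  rw [hab, act_add, act_zero_of_dvd hr (dvd_mul_left r a), act_zero_of_dvd hf (dvd_mul_left _ b), add_zero]

theorem finrank_range_orb [FiniteDimensional K V] {f : K[X]} (hf : f.Monic) {u : V}
    (hu : ∀ a, act x a u = 0 ↔ f ∣ a) : Module.finrank K (LinearMap.range (orb x u)) = f.natDegree := by
  let φ : degreeLT K f.natDegree →ₗ[K] V := (orb x u).comp (degreeLT K f.natDegree).subtype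
  have hker : LinearMap.ker φ = ⊥ := by
    rw [LinearMap.ker_eq_bot']
    rintro ⟨a, ha⟩ h
    refine Subtype.ext (eq_zero_of_dvd_of_degree_lt ((hu a).mp h) ?_)
    rw [mem_degreeLT] at ha
    rwa [degree_eq_natDegree hf.ne_zero]
  have hrange : LinearMap.range φ = LinearMap.range (orb x u) := by
    refine le_antisymm (LinearMap.range_comp_le_range _ _) ?_
    rintro w ⟨a, rfl⟩
    refine ⟨⟨a %ₘ f, ?_⟩, ?_⟩
    · rw [mem_degreeLT, ← degree_eq_natDegree hf.ne_zero]
      exact degree_modByMonic_lt a hf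
    · show act x (a %ₘ f) u = act x a u
      refine act_eq_of_dvd ((hu f).mpr dvd_rfl) ⟨-(a /ₘ f), ?_⟩
      linear_combination modByMonic_add_div a f
  rw [← hrange, LinearMap.finrank_range_of_inj (LinearMap.ker_eq_bot.mp hker),
    (degreeLTEquiv K f.natDegree).finrank_eq, Module.finrank_fin_fun]

theorem Ctx.gram_act (h : Ctx B x ε N) (a b : K[X]) (u w : V) :
    B (act x a u) (act x b w) = gram B x u w (rev N a * b) := by
  rw [h.adj, gram_apply, act_mul]

/-- A cyclic piece. -/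
structure IsC (B : V →ₗ[K] V →ₗ[K] K) (x : Module.End K V) (p : K[X]) (e : ℕ) (v : V) : Prop where
  mon : p.Monic
  irr : Irreducible p
  he : 1 ≤ e
  p0 : p.coeff 0 ≠ 0
  self : du p = p
  kill : act x (p ^ e) v = 0
  top : ∃ r, gram B x v v (r * p ^ (e - 1)) ≠ 0

/-- A hyperbolic piece. -/
structure IsH (B : V →ₗ[K] V →ₗ[K] K) (x : Module.End K V) (ε : K) (p : K[X]) (e : ℕ) (v w : V) : Prop where
  mon : p.Monic
  irr : Irreducible p
  he : 1 ≤ e
  p0 : p.coeff 0 ≠ 0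
  shape : p ≠ du p ∨ (IsPM p ∧ ε * (-1) ^ (e - 1) = -1)
  kill_v : act x (p ^ e) v = 0
  kill_w : act x (du p ^ e) w = 0
  iso_v : ∀ r, gram B x v v r = 0
  iso_w : ∀ r, gram B x w w r = 0
  top : ∃ r, gram B x w v (r * p ^ (e - 1)) ≠ 0

theorem gram_q_ne {u w : V} {p : K[X]} {e : ℕ} (h : ∃ r, gram B x w u (r * p ^ (e - 1)) ≠ 0) :
    act x (p ^ (e - 1)) u ≠ 0 := by
  obtain ⟨r, hr⟩ := h
  intro h0
  rw [gram_apply, act_mul, h0, act, map_zero, map_zero] at hr
  exact hr rfl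

namespace IsC

variable {p : K[X]} {e : ℕ} {v : V}

theorem toTop (hv : IsC B x p e v) : Top p e (gram B x v v) :=
  ⟨fun r hr => by rw [gram_apply, act_zero_of_dvd hv.kill hr, map_zero], hv.top⟩

theorem zero_iff (hv : IsC B x p e v) (a : K[X]) : act x a v = 0 ↔ p ^ e ∣ a :=
  ⟨exact_dvd hv.irr hv.kill (gram_q_ne hv.top), act_zero_of_dvd hv.kill⟩

theorem dvd (hv : IsC B x p e v) (h : Ctx B x ε N) : p ^ e ∣ X ^ N - 1 := (hv.zero_iff _).mp (h.kill v)

theorem symm (h : Ctx B x ε N) (v : V) (r : K[X]) : gram B x v v r = ε * gram B x v v (rev N r) := h.swap r v v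

theorem nd (hv : IsC B x p e v) (h : Ctx B x ε N) : Nd B (LinearMap.range (orb x v)) := by
  rintro u ⟨a, rfl⟩ hu
  rw [orb_apply, hv.zero_iff]
  refine hv.toTop.nondeg hv.irr fun r => ?_
  have h1 : B (act x (rev N r) v) (act x a v) = 0 := hu _ ⟨rev N r, rfl⟩
  rw [h.gram_act] at h1
  rw [← h1]
  refine hv.toTop.eq_of_dvd ((hv.dvd h).trans ?_)
  rw [← sub_mul]
  exact dvd_mul_of_dvd_left (dvd_sub_comm.mp (rev_rev h.pos r)) _

theorem finrank [FiniteDimensional K V] (hv : IsC B x p e v) :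
    Module.finrank K (LinearMap.range (orb x v)) = e * p.natDegree := by
  rw [finrank_range_orb (hv.mon.pow e) hv.zero_iff, natDegree_pow]

theorem gram_q (hv : IsC B x p e v) (hpm : IsPM p) : gram B x v v (p ^ (e - 1)) ≠ 0 := by
  obtain ⟨r, hr⟩ := hv.top
  obtain ⟨a, -, rfl⟩ := hpm.exists_eq
  intro h0
  refine hr ?_
  rw [hv.toTop.eq_of_dvd (r := r * (X - C a) ^ (e - 1)) (s := C (r.eval a) * (X - C a) ^ (e - 1)) ?_,
    ← smul_eq_C_mul, map_smul, h0, smul_zero]
  rw [← sub_mul]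
  conv_lhs => rw [show e = 1 + (e - 1) by have := hv.he; omega, pow_add, pow_one]
  exact mul_dvd_mul_right X_sub_C_dvd_sub_C_eval _

theorem parity (hv : IsC B x p e v) (h : Ctx B x ε N) (hpm : IsPM p) : ε * (-1) ^ (e - 1) = 1 := by
  have h1 : gram B x v v (rev N (p ^ (e - 1))) = (-1) ^ (e - 1) * gram B x v v (p ^ (e - 1)) := by
    rw [hv.toTop.eq_of_dvd (rev_pm h.pos hpm hv.he (hv.dvd h)), ← smul_eq_C_mul, map_smul, smul_eq_mul]
  have h2 := symm h v (p ^ (e - 1))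
  rw [h1, ← mul_assoc] at h2
  exact (mul_eq_right₀ (hv.gram_q hpm)).mp h2.symm

end IsC

namespace IsH

variable {p : K[X]} {e : ℕ} {v w : V}

theorem toTop (hv : IsH B x ε p e v w) : Top p e (gram B x w v) :=
  ⟨fun r hr => by rw [gram_apply, act_zero_of_dvd hv.kill_v hr, map_zero], hv.top⟩

theorem zero_iff (hv : IsH B x ε p e v w) (a : K[X]) : act x a v = 0 ↔ p ^ e ∣ a :=
  ⟨exact_dvd hv.irr hv.kill_v (gram_q_ne hv.top), act_zero_of_dvd hv.kill_v⟩

theorem dvd (hv : IsH B x ε p e v w) (h : Ctx B x ε N) : p ^ e ∣ X ^ N - 1 := (hv.zero_iff _).mp (h.kill v)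

theorem swap (hv : IsH B x ε p e v w) (h : Ctx B x ε N) : IsH B x ε (du p) e w v := by
  obtain ⟨hm, hi, h0, -⟩ := du_props ⟨hv.mon, hv.irr⟩ hv.p0
  refine ⟨hm, hi, hv.he, h0, ?_, hv.kill_w, by rw [du_du hv.mon hv.p0]; exact hv.kill_v, hv.iso_w, hv.iso_v, ?_⟩
  · rcases hv.shape with h1 | ⟨h1, h2⟩
    · exact Or.inl (by rw [du_du hv.mon hv.p0]; exact Ne.symm h1)
    · exact Or.inr ⟨by rwa [du_pm h1], h2⟩
  · obtain ⟨s, hs⟩ := hv.top
    obtain ⟨m, m', hm1, hm2⟩ := rev_du_pow h.pos hv.p0 (e - 1)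
    refine ⟨rev N (s * m'), fun h1 => hs ?_⟩
    rw [gram_apply, h.swap, mul_eq_zero] at h1
    rcases h1 with h1 | h1
    · rw [gram_apply, h.symm, h1, zero_mul]
    · rw [gram_apply]
      rw [rev_mul, h.congr (s := s * m' * (m * p ^ (e - 1)))] at h1
      · rwa [h.congr (r := s * p ^ (e - 1)) (s := s * m' * (m * p ^ (e - 1)))]
        rw [show s * p ^ (e - 1) - s * m' * (m * p ^ (e - 1)) = -(s * p ^ (e - 1)) * (m * m' - 1) by ring]
        exact dvd_mul_of_dvd_right hm2 _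
      · rw [show rev N (rev N (s * m')) * rev N (du p ^ (e - 1)) - s * m' * (m * p ^ (e - 1)) =
          (rev N (rev N (s * m')) - s * m') * rev N (du p ^ (e - 1)) +
            s * m' * (rev N (du p ^ (e - 1)) - m * p ^ (e - 1)) by ring]
        exact dvd_add (dvd_mul_of_dvd_left (rev_rev h.pos _) _) (dvd_mul_of_dvd_right hm1 _)

theorem pair_v (hv : IsH B x ε p e v w) (h : Ctx B x ε N) {a : K[X]}
    (ha : ∀ r, B (act x r w) (act x a v) = 0) : act x a v = 0 := by
  rw [hv.zero_iff]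
  refine hv.toTop.nondeg hv.irr fun r => ?_
  have h1 := ha (rev N r)
  rw [h.gram_act] at h1
  rw [← h1]
  refine hv.toTop.eq_of_dvd ((hv.dvd h).trans ?_)
  rw [← sub_mul]
  exact dvd_mul_of_dvd_left (dvd_sub_comm.mp (rev_rev h.pos r)) _

theorem iso_pair (hv : IsH B x ε p e v w) (h : Ctx B x ε N) (a b : K[X]) : B (act x a v) (act x b v) = 0 := by
  rw [h.gram_act, hv.iso_v]

theorem nd (hv : IsH B x ε p e v w) (h : Ctx B x ε N) :
    Nd B (LinearMap.range (orb x v) ⊔ LinearMap.range (orb x w)) := by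
  intro u hu hz
  obtain ⟨-, ⟨a, rfl⟩, -, ⟨b, rfl⟩, rfl⟩ := Submodule.mem_sup.mp hu
  have h1 : act x a v = 0 := hv.pair_v h fun r => by
    have := hz (act x r w) (Submodule.mem_sup_right ⟨r, rfl⟩)
    rwa [map_add, orb_apply, orb_apply, (hv.swap h).iso_pair h, add_zero] at this
  have h2 : act x b w = 0 := (hv.swap h).pair_v h fun r => by
    have := hz (act x r v) (Submodule.mem_sup_left ⟨r, rfl⟩)
    rwa [map_add, orb_apply, orb_apply, hv.iso_pair h, zero_add] at this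
  rw [orb_apply, orb_apply, h1, h2, add_zero]

theorem finrank [FiniteDimensional K V] (hv : IsH B x ε p e v w) (h : Ctx B x ε N) :
    Module.finrank K (LinearMap.range (orb x v) ⊔ LinearMap.range (orb x w) : Submodule K V) =
      e * (p * du p).natDegree := by
  have hinf : LinearMap.range (orb x v) ⊓ LinearMap.range (orb x w) = ⊥ := by
    refine (Submodule.eq_bot_iff _).mpr fun u hu => ?_
    obtain ⟨⟨a, rfl⟩, b, hb⟩ := Submodule.mem_inf.mp hu
    refine hv.nd h _ (Submodule.mem_sup_left ⟨a, rfl⟩) fun z hz => ?_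
    obtain ⟨-, ⟨c, rfl⟩, -, ⟨d, rfl⟩, rfl⟩ := Submodule.mem_sup.mp hz
    rw [map_add, LinearMap.add_apply]
    conv_lhs => arg 2; rw [← hb]
    rw [orb_apply, orb_apply, orb_apply, orb_apply, hv.iso_pair h, (hv.swap h).iso_pair h, add_zero]
  have h1 := Submodule.finrank_sup_add_finrank_inf_eq (LinearMap.range (orb x v)) (LinearMap.range (orb x w))
  rw [hinf, finrank_bot, add_zero, finrank_range_orb (hv.mon.pow e) hv.zero_iff,
    finrank_range_orb ((hv.swap h).mon.pow e) (hv.swap h).zero_iff, natDegree_pow, natDegree_pow] at h1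
  rw [h1, natDegree_mul hv.mon.ne_zero (hv.swap h).mon.ne_zero, mul_add]

end IsH

/-- A partial isometry intertwining two endomorphisms. -/
structure Iso {V' : Type w} [AddCommGroup V'] [Module K V'] (B : V →ₗ[K] V →ₗ[K] K) (x : Module.End K V)
    (B' : V' →ₗ[K] V' →ₗ[K] K) (y : Module.End K V') (U : Submodule K V) (U' : Submodule K V')
    (T : V →ₗ[K] V') : Prop where
  mapsTo : ∀ u ∈ U, T u ∈ U'
  comm : ∀ u ∈ U, T (x u) = y (T u)
  pres : ∀ u ∈ U, ∀ u' ∈ U, B' (T u) (T u') = B u u'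

variable {V' : Type w} [AddCommGroup V'] [Module K V'] {B' : V' →ₗ[K] V' →ₗ[K] K} {y : Module.End K V'}

theorem exists_map {M : Type u} [AddCommGroup M] [Module K M] (Φ : M →ₗ[K] V) (Φ' : M →ₗ[K] V') (S : M → M)
    (hS : ∀ a, Φ (S a) = x (Φ a)) (hS' : ∀ a, Φ' (S a) = y (Φ' a))
    (hG : ∀ a b, B' (Φ' a) (Φ' b) = B (Φ a) (Φ b)) (hnd : Nd B' (LinearMap.range Φ')) {U' : Submodule K V'}
    (hU : LinearMap.range Φ' ≤ U') : ∃ T, Iso B x B' y (LinearMap.range Φ) U' T := by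
  have hker : LinearMap.ker Φ ≤ LinearMap.ker Φ' := fun a ha => by
    refine hnd _ ⟨a, rfl⟩ ?_
    rintro - ⟨b, rfl⟩
    rw [hG, LinearMap.mem_ker.mp ha, map_zero]
  let T₀ : LinearMap.range Φ →ₗ[K] V' :=
    ((LinearMap.ker Φ).liftQ Φ' hker).comp Φ.quotKerEquivRange.symm.toLinearMap
  obtain ⟨T, hT⟩ := LinearMap.exists_extend T₀
  have key : ∀ a, T (Φ a) = Φ' a := fun a => by
    have h1 := LinearMap.congr_fun hT ⟨Φ a, a, rfl⟩
    rw [LinearMap.comp_apply, Submodule.subtype_apply] at h1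
    rw [h1]
    show (LinearMap.ker Φ).liftQ Φ' hker (Φ.quotKerEquivRange.symm ⟨Φ a, LinearMap.mem_range_self Φ a⟩) = Φ' a
    rw [LinearMap.quotKerEquivRange_symm_apply_image, Submodule.mkQ_apply, Submodule.liftQ_apply]
  refine ⟨T, ?_, ?_, ?_⟩
  · rintro - ⟨a, rfl⟩
    rw [key]
    exact hU ⟨a, rfl⟩
  · rintro - ⟨a, rfl⟩
    rw [← hS, key, hS', key]
  · rintro - ⟨a, rfl⟩ - ⟨b, rfl⟩
    rw [key, key, hG]

theorem orb_X (v : V) (a : K[X]) : orb x v (X * a) = x (orb x v a) := by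
  rw [orb_apply, act_mul, act_X, orb_apply]

theorem isSquare_div_of_iff (h2 : (2 : K) ≠ 0) {a b : K} (ha : a ≠ 0) (hb : b ≠ 0)
    (h : IsSquare a ↔ IsSquare b) : IsSquare (a / b) := by
  classical
  have hchar : ringChar K ≠ 2 := fun hc => h2 (by
    have : ((ringChar K : ℕ) : K) = 0 := ringChar.Nat.cast_ringChar
    rw [hc] at this
    exact_mod_cast this)
  by_cases hs : IsSquare a
  · exact hs.div (h.mp hs)
  · have h1 : quadraticChar K (a * b) = 1 := by
      rw [map_mul, quadraticChar_neg_one_iff_not_isSquare.mpr hs,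
        quadraticChar_neg_one_iff_not_isSquare.mpr (mt h.mpr hs)]
      norm_num
    obtain ⟨c, hc⟩ := (quadraticChar_one_iff_isSquare (mul_ne_zero ha hb)).mp h1
    refine ⟨c / b, ?_⟩
    field_simp
    linear_combination hc

theorem IsC.exists_iso {p : K[X]} {e : ℕ} {v : V} {v' : V'} (hv : IsC B x p e v) (hv' : IsC B' y p e v')
    (h : Ctx B x ε N) (h' : Ctx B' y ε N)
    (hs : IsPM p → (IsSquare (gram B x v v (p ^ (e - 1))) ↔ IsSquare (gram B' y v' v' (p ^ (e - 1))))) :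
    ∃ T, Iso B x B' y (LinearMap.range (orb x v)) (LinearMap.range (orb y v')) T := by
  obtain ⟨c, hc⟩ := exists_congr_gram h.pos h.two ⟨hv.mon, hv.irr⟩ hv.self hv.he (hv.dvd h) hv'.toTop hv.toTop
    (IsC.symm h' v') (IsC.symm h v)
    (fun hpm => isSquare_div_of_iff h.two (hv.gram_q hpm) (hv'.gram_q hpm) (hs hpm))
  set v₁ := act y c v' with hv1
  have hg : ∀ r, gram B' y v₁ v₁ r = gram B x v v r := fun r => by
    rw [hc, gram_apply, hv1, h'.adj, ← act_mul, ← act_mul, gram_apply]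
    congr 2
    ring
  have hv₁ : IsC B' y p e v₁ := by
    refine ⟨hv.mon, hv.irr, hv.he, hv.p0, hv.self, ?_, ?_⟩
    · rw [hv1, act_mul_comm, hv'.kill, act, map_zero]
    · obtain ⟨r, hr⟩ := hv.top
      exact ⟨r, by rwa [hg]⟩
  refine exists_map (orb x v) (orb y v₁) (fun a => X * a) (orb_X v) (orb_X v₁) (fun a b => ?_) (hv₁.nd h') ?_
  · rw [orb_apply, orb_apply, orb_apply, orb_apply, h.gram_act, h'.gram_act, hg]
  · rintro - ⟨a, rfl⟩
    exact ⟨a * c, by rw [orb_apply, act_mul, orb_apply]⟩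

theorem IsH.exists_iso {p : K[X]} {e : ℕ} {v w : V} {v' w' : V'} (hv : IsH B x ε p e v w)
    (hv' : IsH B' y ε p e v' w') (h : Ctx B x ε N) (h' : Ctx B' y ε N) :
    ∃ T, Iso B x B' y (LinearMap.range (orb x v) ⊔ LinearMap.range (orb x w))
      (LinearMap.range (orb y v') ⊔ LinearMap.range (orb y w')) T := by
  obtain ⟨u, hu⟩ := exists_rep ⟨hv.mon, hv.irr⟩ hv'.toTop hv.toTop.kill
  set v₁ := act y u v' with hv1
  have hg : ∀ r, gram B' y w' v₁ r = gram B x w v r := fun r => by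
    rw [hu, gram_apply, hv1, ← act_mul, gram_apply]
  have hiso : ∀ r, gram B' y v₁ v₁ r = 0 := fun r => by
    rw [gram_apply, hv1, h'.adj, ← act_mul, ← act_mul]
    exact hv'.iso_v _
  have hv₁ : IsH B' y ε p e v₁ w' := by
    refine ⟨hv.mon, hv.irr, hv.he, hv.p0, hv.shape, ?_, hv'.kill_w, hiso, hv'.iso_w, ?_⟩
    · rw [hv1, act_mul_comm, hv'.kill_v, act, map_zero]
    · obtain ⟨r, hr⟩ := hv.top
      exact ⟨r, by rwa [hg]⟩
  obtain ⟨T, hT⟩ := exists_map (M := K[X] × K[X]) (x := x) (B := B) (y := y) (B' := B')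
    ((orb x v).coprod (orb x w)) ((orb y v₁).coprod (orb y w'))
    (fun a => (X * a.1, X * a.2))
    (fun a => by simp only [LinearMap.coprod_apply, orb_X, map_add])
    (fun a => by simp only [LinearMap.coprod_apply, orb_X, map_add])
    (fun a b => by
      simp only [LinearMap.coprod_apply, map_add, LinearMap.add_apply, orb_apply]
      rw [h.symm (act x a.1 v) (act x b.2 w), h'.symm (act y a.1 v₁) (act y b.2 w')]
      simp only [h.gram_act, h'.gram_act, hv.iso_v, hv.iso_w, hiso, hv'.iso_w, hg])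
    (by rw [LinearMap.range_coprod]; exact hv₁.nd h')
    (U' := LinearMap.range (orb y v') ⊔ LinearMap.range (orb y w')) (by
      rw [LinearMap.range_coprod]
      refine sup_le_sup_right ?_ _
      rintro - ⟨a, rfl⟩
      exact ⟨a * u, by rw [orb_apply, act_mul, orb_apply]⟩)
  rw [LinearMap.range_coprod] at hT
  exact ⟨T, hT⟩

/-- The label of a piece. -/
abbrev Tag (K : Type u) [Field K] : Type u := K[X] × ℕ × Option Bool

/-- The sign of a cyclic piece. -/
noncomputable def sgn (B : V →ₗ[K] V →ₗ[K] K) (x : Module.End K V) (p : K[X]) (e : ℕ) (v : V) : Bool :=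
  open Classical in if IsPM p then decide (IsSquare (gram B x v v (p ^ (e - 1)))) else true

/-- A piece with its label. -/
def IsPiece (B : V →ₗ[K] V →ₗ[K] K) (x : Module.End K V) (ε : K) (t : Tag K) (W : Submodule K V) : Prop :=
  (∃ p e v, IsC B x p e v ∧ t = (p, e, some (sgn B x p e v)) ∧ W = LinearMap.range (orb x v)) ∨
  (∃ p e v w, IsH B x ε p e v w ∧ t = (p * du p, e, none) ∧
    W = LinearMap.range (orb x v) ⊔ LinearMap.range (orb x w))

/-- The possible labels. -/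
def VTag (ε : K) (t : Tag K) : Prop :=
  (∃ p e s, p.Monic ∧ Irreducible p ∧ p.coeff 0 ≠ 0 ∧ du p = p ∧ 1 ≤ e ∧ (¬ IsPM p → s = true) ∧
    (IsPM p → ε * (-1) ^ (e - 1) = 1) ∧ t = (p, e, some s)) ∨
  (∃ p e, p.Monic ∧ Irreducible p ∧ p.coeff 0 ≠ 0 ∧ 1 ≤ e ∧
    (p ≠ du p ∨ (IsPM p ∧ ε * (-1) ^ (e - 1) = -1)) ∧ t = (p * du p, e, none))

theorem IsPiece.vtag {t : Tag K} {W : Submodule K V} (hW : IsPiece B x ε t W) (h : Ctx B x ε N) : VTag ε t := by
  rcases hW with ⟨p, e, v, hv, rfl, -⟩ | ⟨p, e, v, w, hv, rfl, -⟩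
  · exact Or.inl ⟨p, e, _, hv.mon, hv.irr, hv.p0, hv.self, hv.he, fun hn => by rw [sgn, if_neg hn],
      hv.parity h, rfl⟩
  · exact Or.inr ⟨p, e, hv.mon, hv.irr, hv.p0, hv.he, hv.shape, rfl⟩

theorem IsPiece.nd {t : Tag K} {W : Submodule K V} (hW : IsPiece B x ε t W) (h : Ctx B x ε N) : Nd B W := by
  rcases hW with ⟨p, e, v, hv, -, rfl⟩ | ⟨p, e, v, w, hv, -, rfl⟩
  exacts [hv.nd h, hv.nd h]

theorem IsPiece.inv {t : Tag K} {W : Submodule K V} (hW : IsPiece B x ε t W) : Inv x W := by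
  rcases hW with ⟨p, e, v, hv, -, rfl⟩ | ⟨p, e, v, w, hv, -, rfl⟩
  · exact inv_range_orb v
  · intro u hu
    obtain ⟨a, ha, b, hb, rfl⟩ := Submodule.mem_sup.mp hu
    rw [map_add]
    exact Submodule.add_mem_sup (inv_range_orb v a ha) (inv_range_orb w b hb)

theorem IsPiece.finrank [FiniteDimensional K V] {t : Tag K} {W : Submodule K V} (hW : IsPiece B x ε t W)
    (h : Ctx B x ε N) : Module.finrank K W = t.2.1 * t.1.natDegree := by
  rcases hW with ⟨p, e, v, hv, rfl, rfl⟩ | ⟨p, e, v, w, hv, rfl, rfl⟩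
  exacts [hv.finrank, hv.finrank h]

theorem IsPiece.exists_iso {t : Tag K} {W : Submodule K V} {W' : Submodule K V'}
    (hW : IsPiece B x ε t W) (hW' : IsPiece B' y ε t W') (h : Ctx B x ε N) (h' : Ctx B' y ε N) :
    ∃ T, Iso B x B' y W W' T := by
  rcases hW with ⟨p, e, v, hv, rfl, rfl⟩ | ⟨p, e, v, w, hv, rfl, rfl⟩ <;>
    rcases hW' with ⟨p', e', v', hv', ht, rfl⟩ | ⟨p', e', v', w', hv', ht, rfl⟩ <;>
    simp only [Prod.mk.injEq, reduceCtorEq, and_false, Option.some.injEq, and_true] at ht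
  · obtain ⟨rfl, rfl, hs⟩ := ht
    refine hv.exists_iso hv' h h' fun hpm => ?_
    rw [sgn, sgn, if_pos hpm, if_pos hpm] at hs
    simpa using hs
  · obtain ⟨hP, rfl⟩ := ht
    have h1 : p' ∣ p * du p := hP ▸ dvd_mul_right p' _
    rcases hv'.irr.prime.dvd_mul.mp h1 with h2 | h2
    · obtain rfl := eq_of_monic_of_associated hv'.mon hv.mon (hv'.irr.associated_of_dvd hv.irr h2)
      exact hv.exists_iso hv' h h'
    · obtain rfl := eq_of_monic_of_associated hv'.mon (hv.swap h).mon (hv'.irr.associated_of_dvd (hv.swap h).irr h2)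
      have h3 := hv'.swap h'
      rw [du_du hv.mon hv.p0] at h3
      rw [sup_comm (LinearMap.range (orb y v'))]
      exact hv.exists_iso h3 h h'

end CfsgLib.IsometryClasses
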