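import Cfsg.Agent.Lib.IsometryClasses.Basic

/-!
Counting self-dual polynomials with marked roots.
-/

set_option autoImplicit false
set_option linter.unusedSectionVars false

namespace CfsgLib.IsometryClasses

open Polynomial

universe u

variable (K : Type u) [Field K]

/-- Self-dual monic polynomials of given degree. -/
def SD (n : ℕ) : Type u := {g : K[X] // g.Monic ∧ g.natDegree = n ∧ du g = g ∧ g.coeff 0 ≠ 0}

/-- Palindromic polynomials of even degree. -/
def SD1 (D : ℕ) : Type u := {g : SD K (2 * D) // g.1.coeff 0 = 1}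

/-- Self-dual polynomials with two marks at roots. -/
def SDM (m : ℕ) : Type u :=
  {z : K[X] × Bool × Bool // (z.1.Monic ∧ z.1.natDegree = m ∧ du z.1 = z.1 ∧ z.1.coeff 0 ≠ 0) ∧
    (z.2.1 = true → z.1.IsRoot 1) ∧ (z.2.2 = true → z.1.IsRoot (-1))}

/-- The bound for the number of self-dual polynomials. -/
def sdC (q : ℕ) : ℕ → ℕ
  | 0 => 1
  | 1 => 2
  | 2 => q + 1
  | n + 3 => q * sdC q (n + 1)

/-- The bound for the marked polynomials. -/
def cc (q : ℕ) : ℕ → ℕ
  | 0 => 1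
  | 1 => 4
  | m + 2 => q * cc q m + Nat.choose 4 (m + 2)

theorem sdC_odd (q j : ℕ) : sdC q (2 * j + 1) = 2 * q ^ j := by
  induction j with
  | zero => simp [sdC]
  | succ j ih =>
    rw [show 2 * (j + 1) + 1 = 2 * j + 3 by ring, sdC, show 2 * j + 1 = 2 * j + 1 from rfl, ih]
    ring

theorem sdC_even (q j : ℕ) : sdC q (2 * j + 2) = q ^ (j + 1) + q ^ j := by
  induction j with
  | zero => simp [sdC]
  | succ j ih =>
    rw [show 2 * (j + 1) + 2 = (2 * j + 1) + 3 by ring, sdC, show 2 * j + 1 + 1 = 2 * j + 2 by ring, ih]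
    ring

theorem cc_eq (q : ℕ) : ∀ m, cc q (m + 2) = sdC q (m + 2) + 2 * sdC q (m + 1) + sdC q m
  | 0 => by simp [cc, sdC, Nat.choose] <;> ring
  | 1 => by simp [cc, sdC, Nat.choose] <;> ring
  | 2 => by simp [cc, sdC, Nat.choose]; ring
  | m + 3 => by
    rw [cc, cc_eq q (m + 1), Nat.choose_eq_zero_of_lt (by omega), add_zero, show sdC q (m + 3 + 2) = q * sdC q (m + 3) from rfl,
      show sdC q (m + 3 + 1) = q * sdC q (m + 2) from rfl, show sdC q (m + 3) = q * sdC q (m + 1) from rfl]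
    ring

variable {K}

theorem SD.sq {n : ℕ} (g : SD K n) : g.1.coeff 0 = 1 ∨ g.1.coeff 0 = -1 := by
  obtain ⟨g, hm, hd, hsd, h0⟩ := g
  have h1 := SUClassNumber.dualP_coeff_of_self hsd (Nat.zero_le _)
  rw [Nat.sub_zero, hm.coeff_natDegree, map_one, mul_one, RingHom.id_apply] at h1
  refine mul_self_eq_one_iff.mp ?_
  nth_rewrite 1 [h1]
  exact inv_mul_cancel₀ h0

theorem SD.ext_low {n : ℕ} {g g' : SD K n} (h0 : g.1.coeff 0 = g'.1.coeff 0)
    (h : ∀ i, 1 ≤ i → 2 * i ≤ n → g.1.coeff i = g'.1.coeff i) : g = g' := by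
  obtain ⟨g, hm, hd, hsd, hg0⟩ := g
  obtain ⟨g', hm', hd', hsd', hg0'⟩ := g'
  simp only at h0 h
  refine Subtype.ext (Polynomial.ext fun i => ?_)
  have low : ∀ i, 2 * i ≤ n → g.coeff i = g'.coeff i := fun i hi => by
    rcases Nat.eq_zero_or_pos i with rfl | hi'
    exacts [h0, h i hi' hi]
  rcases le_or_gt i n with hi | hi
  · rcases le_or_gt (2 * i) n with h2 | h2
    · exact low i h2
    · rw [SUClassNumber.dualP_coeff_of_self hsd (hd ▸ hi), SUClassNumber.dualP_coeff_of_self hsd' (hd' ▸ hi), hd, hd',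
        h0, low (n - i) (by omega)]
  · rw [coeff_eq_zero_of_natDegree_lt (p := g) (by omega), coeff_eq_zero_of_natDegree_lt (p := g') (by omega)]

variable [Fintype K]

theorem SD.bound : ∀ n, Finite (SD K n) ∧ Nat.card (SD K n) ≤ sdC (Fintype.card K) n := by
  intro n
  classical
  rcases Nat.even_or_odd n with ⟨j, rfl⟩ | ⟨j, rfl⟩
  · rcases j with _ | j
    · have hs : Subsingleton (SD K (0 + 0)) := ⟨fun g g' => Subtype.ext (by
        rw [eq_one_of_monic_natDegree_zero g.2.1 g.2.2.1, eq_one_of_monic_natDegree_zero g'.2.1 g'.2.2.1])⟩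
      exact ⟨inferInstance, by simp only [add_zero, sdC]; exact Finite.card_le_one_iff_subsingleton.mpr hs⟩
    · let Φ : SD K (j + 1 + (j + 1)) → (Fin (j + 1) → K) ⊕ (Fin j → K) := fun g =>
        if g.1.coeff 0 = 1 then Sum.inl fun i => g.1.coeff (i + 1) else Sum.inr fun i => g.1.coeff (i + 1)
      have hΦ : Function.Injective Φ := by
        intro g g' h
        simp only [Φ] at h
        split_ifs at h with h1 h2 h2 <;> simp only [Sum.inl.injEq, Sum.inr.injEq, funext_iff] at h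
        · refine SD.ext_low (by rw [h1, h2]) fun i hi hi2 => ?_
          simpa [Nat.sub_add_cancel hi] using h ⟨i - 1, by omega⟩
        · have e1 := g.sq.resolve_left h1
          have e2 := g'.sq.resolve_left h2
          refine SD.ext_low (by rw [e1, e2]) fun i hi hi2 => ?_
          by_cases hij : i = j + 1
          · have mid : ∀ f : SD K (j + 1 + (j + 1)), f.1.coeff 0 = -1 → f.1.coeff 0 ≠ 1 → f.1.coeff i = 0 := by
              intro f hf hf1
              have h3 := SUClassNumber.dualP_coeff_of_self f.2.2.2.1 (i := i) (by rw [f.2.2.1]; omega)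
              rw [f.2.2.1, RingHom.id_apply, RingHom.id_apply, show j + 1 + (j + 1) - i = i by omega, hf,
                inv_neg, inv_one, neg_one_mul] at h3
              have h4 : (2 : K) * f.1.coeff i = 0 := by linear_combination h3
              rcases mul_eq_zero.mp h4 with h5 | h5
              · exact absurd (by rw [hf]; linear_combination -h5 : f.1.coeff 0 = 1) hf1
              · exact h5
            rw [mid g e1 h1, mid g' e2 h2]
          · simpa [Nat.sub_add_cancel hi] using h ⟨i - 1, by omega⟩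
      refine ⟨Finite.of_injective Φ hΦ, (Nat.card_le_card_of_injective Φ hΦ).trans (le_of_eq ?_)⟩
      rw [Nat.card_sum, Nat.card_fun, Nat.card_fun, Nat.card_eq_fintype_card (α := K), Nat.card_fin, Nat.card_fin,
        show j + 1 + (j + 1) = 2 * j + 2 by ring, sdC_even]
  · let Φ : SD K (2 * j + 1) → Bool × (Fin j → K) := fun g =>
      (decide (g.1.coeff 0 = 1), fun i => g.1.coeff (i + 1))
    have hΦ : Function.Injective Φ := by
      intro g g' h
      simp only [Φ, Prod.mk.injEq, decide_eq_decide, funext_iff] at h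
      refine SD.ext_low ?_ fun i hi hi2 => by simpa [Nat.sub_add_cancel hi] using h.2 ⟨i - 1, by omega⟩
      by_cases h1 : g.1.coeff 0 = 1
      · rw [h1, h.1.mp h1]
      · rw [g.sq.resolve_left h1, g'.sq.resolve_left (mt h.1.mpr h1)]
    refine ⟨Finite.of_injective Φ hΦ, (Nat.card_le_card_of_injective Φ hΦ).trans (le_of_eq ?_)⟩
    rw [Nat.card_prod, Nat.card_fun, Nat.card_eq_fintype_card (α := K), Nat.card_fin, sdC_odd]
    simp

theorem SD1.bound (D : ℕ) : Finite (SD1 K D) ∧ Nat.card (SD1 K D) ≤ Fintype.card K ^ D := by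
  let Φ : SD1 K D → (Fin D → K) := fun g i => g.1.1.coeff (i + 1)
  have hΦ : Function.Injective Φ := fun g g' h => Subtype.ext (SD.ext_low (by rw [g.2, g'.2]) fun i hi hi2 => by
    simpa [Φ, Nat.sub_add_cancel hi] using congrFun h ⟨i - 1, by omega⟩)
  refine ⟨Finite.of_injective Φ hΦ, (Nat.card_le_card_of_injective Φ hΦ).trans (le_of_eq ?_)⟩
  rw [Nat.card_fun, Nat.card_eq_fintype_card (α := K), Nat.card_fin]

theorem div_root {g : K[X]} {m : ℕ} (hg : g.Monic ∧ g.natDegree = m ∧ du g = g ∧ g.coeff 0 ≠ 0) {a : K}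
    (ha : IsPM (X - C a)) (hroot : g.IsRoot a) :
    ∃ g', g = (X - C a) * g' ∧ 1 ≤ m ∧ g'.Monic ∧ g'.natDegree = m - 1 ∧ du g' = g' ∧ g'.coeff 0 ≠ 0 := by
  obtain ⟨hm, hd, hsd, h0⟩ := hg
  obtain ⟨g', rfl⟩ := dvd_iff_isRoot.mpr hroot
  have hm' : g'.Monic := (monic_X_sub_C a).of_mul_monic_left hm
  rw [natDegree_mul (X_sub_C_ne_zero a) hm'.ne_zero, natDegree_X_sub_C] at hd
  refine ⟨g', rfl, by omega, hm', by omega, ?_, ?_⟩
  · rw [du, SUClassNumber.dualP_mul, ← du, du_pm ha] at hsd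
    exact mul_left_cancel₀ (X_sub_C_ne_zero a) hsd
  · rw [mul_coeff_zero] at h0
    exact right_ne_zero_of_mul h0

theorem SDM.bound (h2 : (2 : K) ≠ 0) (m : ℕ) : Finite (SDM K m) ∧ Nat.card (SDM K m) ≤ cc (Fintype.card K) m := by
  classical
  haveI : ∀ n, Finite (SD K n) := fun n => (SD.bound n).1
  have hp : IsPM (X - C (1 : K)) := Or.inl rfl
  have hn : IsPM (X - C (-1 : K)) := Or.inr rfl
  have both : ∀ z : SDM K m, z.1.2.1 = true → z.1.2.2 = true → ∃ g : SD K (m - 2), 2 ≤ m ∧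
      z.1.1 = (X - C 1) * ((X - C (-1)) * g.1) := by
    intro z h1 h1'
    obtain ⟨g', e1, hm1, hg'⟩ := div_root z.2.1 hp (z.2.2.1 h1)
    have hr : g'.IsRoot (-1) := by
      have := z.2.2.2 h1'
      rw [IsRoot, e1, eval_mul, eval_sub, eval_X, eval_C, mul_eq_zero] at this
      exact this.resolve_left fun h => h2 (by linear_combination -h)
    obtain ⟨g'', e2, hm2, hg''⟩ := div_root hg' hn hr
    exact ⟨⟨g'', by rw [Nat.sub_sub] at hg''; exact hg''⟩, by omega, by rw [e1, e2]⟩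
  let P := SD K m ⊕ ({x : SD K (m - 1) × Bool // 1 ≤ m} ⊕ {x : SD K (m - 2) // 2 ≤ m})
  have ex : ∀ z : SDM K m, ∃ w : P, match w with
      | Sum.inl g => z.1 = (g.1, false, false)
      | Sum.inr (Sum.inl g) => z.1 = ((X - C (if g.1.2 then 1 else -1)) * g.1.1.1, g.1.2, !g.1.2)
      | Sum.inr (Sum.inr g) => z.1 = ((X - C 1) * ((X - C (-1)) * g.1.1), true, true) := by
    rintro z
    obtain ⟨⟨g, b, c⟩, hg, hb, hc⟩ := id z
    have hz := both z
    revert hz
    cases hb1 : z.1.2.1 <;> cases hc1 : z.1.2.2 <;> intro hz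
    · exact ⟨Sum.inl ⟨z.1.1, z.2.1⟩, Prod.ext rfl (Prod.ext hb1 hc1)⟩
    · obtain ⟨g', e1, hm1, hg'⟩ := div_root z.2.1 hn (z.2.2.2 hc1)
      exact ⟨Sum.inr (Sum.inl ⟨(⟨g', hg'⟩, false), hm1⟩), Prod.ext e1 (Prod.ext hb1 hc1)⟩
    · obtain ⟨g', e1, hm1, hg'⟩ := div_root z.2.1 hp (z.2.2.1 hb1)
      exact ⟨Sum.inr (Sum.inl ⟨(⟨g', hg'⟩, true), hm1⟩), Prod.ext e1 (Prod.ext hb1 hc1)⟩
    · obtain ⟨g', hm2, e1⟩ := hz rfl rfl
      exact ⟨Sum.inr (Sum.inr ⟨g', hm2⟩), Prod.ext e1 (Prod.ext hb1 hc1)⟩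
  choose Φ hΦ using ex
  have hinj : Function.Injective Φ := by
    intro z z' h
    have h1 := hΦ z
    have h1' := hΦ z'
    rw [← h] at h1'
    apply Subtype.ext
    rcases hw : Φ z with g | g | g <;> rw [hw] at h1 h1' <;> exact h1.trans h1'.symm
  refine ⟨Finite.of_injective Φ hinj, (Nat.card_le_card_of_injective Φ hinj).trans ?_⟩
  rw [Nat.card_sum, Nat.card_sum]
  have h1 := (SD.bound (K := K) m).2
  match m, h1 with
  | 0, h1 =>
    haveI : IsEmpty {x : SD K (0 - 1) × Bool // 1 ≤ 0} := ⟨fun x => absurd x.2 (by omega)⟩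
    haveI : IsEmpty {x : SD K (0 - 2) // 2 ≤ 0} := ⟨fun x => absurd x.2 (by omega)⟩
    rw [Nat.card_of_isEmpty (α := {x : SD K (0 - 1) × Bool // 1 ≤ 0}), Nat.card_of_isEmpty (α := {x : SD K (0 - 2) // 2 ≤ 0})]
    simpa [cc, sdC] using h1
  | 1, h1 =>
    haveI : IsEmpty {x : SD K (1 - 2) // 2 ≤ 1} := ⟨fun x => absurd x.2 (by omega)⟩
    rw [Nat.card_congr (Equiv.subtypeUnivEquiv fun _ => le_refl 1), Nat.card_of_isEmpty (α := {x : SD K (1 - 2) // 2 ≤ 1}), Nat.card_prod]
    have h3 := (SD.bound (K := K) 0).2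
    simp only [cc, sdC, Nat.card_eq_fintype_card (α := Bool), Fintype.card_bool, Nat.sub_self] at h1 h3 ⊢
    omega
  | m + 2, h1 =>
    rw [Nat.card_congr (Equiv.subtypeUnivEquiv fun _ => (show 1 ≤ m + 2 by omega)),
      Nat.card_congr (Equiv.subtypeUnivEquiv fun _ => (show 2 ≤ m + 2 by omega)), Nat.card_prod, cc_eq,
      Nat.card_eq_fintype_card (α := Bool), Fintype.card_bool]
    have h3 := (SD.bound (K := K) (m + 1)).2
    have h4 := (SD.bound (K := K) m).2
    rw [show m + 2 - 1 = m + 1 by omega, show m + 2 - 2 = m by omega]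
    omega

end CfsgLib.IsometryClasses
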