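import Cfsg.Agent.Lib.IsometryClasses.SelfDual

/-!
The count of symplectic invariants and its numerical bound.
-/

set_option autoImplicit false
set_option linter.unusedSectionVars false

namespace CfsgLib.IsometryClasses

open Polynomial Finset

universe u

variable (K : Type u) [Field K]

/-- The invariant at one exponent. -/
abbrev Datum : Type u := K[X] × Bool × Bool

variable {K}

/-- The half weight of a datum. -/
noncomputable def hw (e : ℕ) (g : K[X]) : ℕ :=
  if Odd e then e * (g.natDegree / 2) else e / 2 * g.natDegree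

/-- Admissible data at an exponent. -/
def OkAt (e : ℕ) (z : Datum K) : Prop :=
  (z.1.Monic ∧ du z.1 = z.1 ∧ z.1.coeff 0 ≠ 0) ∧
    (Odd e → z.1.coeff 0 = 1 ∧ Even z.1.natDegree ∧ z.2.1 = false ∧ z.2.2 = false) ∧
    (z.2.1 = true → z.1.IsRoot 1) ∧ (z.2.2 = true → z.1.IsRoot (-1))

variable (K)

/-- Symplectic invariants of total half weight `n` with exponents at most `2j+1`. -/
def SpData (j n : ℕ) : Type u :=
  {f : ℕ → Datum K // (∀ e, OkAt e (f e)) ∧ (∀ e, (e = 0 ∨ 2 * j + 1 < e) → f e = (1, false, false)) ∧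
    ∑ e ∈ Icc 1 (2 * j + 1), hw e (f e).1 = n}

/-- The recursive bound. -/
def spCount (q : ℕ) : ℕ → ℕ → ℕ
  | 0, n => q ^ n
  | j + 1, n => ∑ D ∈ range (n + 1), ∑ m ∈ range (n + 1),
      if (2 * j + 3) * D + (j + 1) * m ≤ n then
        q ^ D * cc q m * spCount q j (n - ((2 * j + 3) * D + (j + 1) * m)) else 0

variable {K} [Fintype K]

theorem SpData.bound (h2 : (2 : K) ≠ 0) : ∀ j n,
    Finite (SpData K j n) ∧ Nat.card (SpData K j n) ≤ spCount (Fintype.card K) j n := by
  intro j
  induction j with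
  | zero =>
    intro n
    haveI := (SD1.bound (K := K) n).1
    let Φ : SpData K 0 n → SD1 K n := fun f => ⟨⟨(f.1 1).1, (f.2.1 1).1.1, by
      have h := f.2.2.2
      simp only [mul_zero, zero_add, Icc_self, sum_singleton, hw, if_pos odd_one, one_mul] at h
      obtain ⟨k, hk⟩ := ((f.2.1 1).2.1 odd_one).2.1
      omega, (f.2.1 1).1.2.1, (f.2.1 1).1.2.2⟩, ((f.2.1 1).2.1 odd_one).1⟩
    have hΦ : Function.Injective Φ := fun f f' h => by
      refine Subtype.ext (funext fun e => ?_)
      by_cases he : e = 1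
      · subst he
        have h1 : (f.1 1).1 = (f'.1 1).1 := congrArg (fun z => z.1.1) h
        obtain ⟨-, -, a1, a2⟩ := (f.2.1 1).2.1 odd_one
        obtain ⟨-, -, b1, b2⟩ := (f'.2.1 1).2.1 odd_one
        exact Prod.ext h1 (Prod.ext (a1.trans b1.symm) (a2.trans b2.symm))
      · rw [f.2.2.1 e (by omega), f'.2.2.1 e (by omega)]
    exact ⟨Finite.of_injective Φ hΦ, (Nat.card_le_card_of_injective Φ hΦ).trans (SD1.bound n).2⟩
  | succ j ih =>
    intro n
    classical
    have hodd : Odd (2 * j + 3) := ⟨j + 1, by ring⟩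
    have heven : ¬ Odd (2 * j + 2) := Nat.not_odd_iff_even.mpr ⟨j + 1, by ring⟩
    have hsum : ∀ f : SpData K (j + 1) n, ∑ e ∈ Icc 1 (2 * j + 1), hw e (f.1 e).1 +
        (j + 1) * (f.1 (2 * j + 2)).1.natDegree +
        (2 * j + 3) * ((f.1 (2 * j + 3)).1.natDegree / 2) = n := by
      intro f
      have h : ∑ e ∈ Icc 1 (2 * j + 1 + 1 + 1), hw e (f.1 e).1 = n := f.2.2.2
      rw [Finset.sum_Icc_succ_top (by omega),
        Finset.sum_Icc_succ_top (by omega), show 2 * j + 1 + 1 + 1 = 2 * j + 3 by ring,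
        show 2 * j + 1 + 1 = 2 * j + 2 by ring, hw, hw, if_pos hodd, if_neg heven,
        show (2 * j + 2) / 2 = j + 1 by omega] at h
      exact h
    let key : SpData K (j + 1) n → Fin (n + 1) × Fin (n + 1) := fun f =>
      (⟨(f.1 (2 * j + 3)).1.natDegree / 2, by
          have := hsum f
          have := Nat.le_mul_of_pos_left ((f.1 (2 * j + 3)).1.natDegree / 2) (show 0 < 2 * j + 3 by omega)
          omega⟩,
        ⟨(f.1 (2 * j + 2)).1.natDegree, by
          have := hsum f
          have := Nat.le_mul_of_pos_left (f.1 (2 * j + 2)).1.natDegree (show 0 < j + 1 by omega)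
          omega⟩)
    have hfib : ∀ z, Finite {f // key f = z} ∧ Nat.card {f // key f = z} ≤
        if (2 * j + 3) * (z.1 : ℕ) + (j + 1) * (z.2 : ℕ) ≤ n then
          Fintype.card K ^ (z.1 : ℕ) * cc (Fintype.card K) z.2 *
            spCount (Fintype.card K) j (n - ((2 * j + 3) * (z.1 : ℕ) + (j + 1) * (z.2 : ℕ)))
        else 0 := by
      rintro ⟨⟨D, hD⟩, ⟨m, hm⟩⟩
      have hkey : ∀ f : {f // key f = (⟨D, hD⟩, ⟨m, hm⟩)},
          (f.1.1 (2 * j + 3)).1.natDegree / 2 = D ∧ (f.1.1 (2 * j + 2)).1.natDegree = m := fun f =>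
        ⟨congrArg (fun z => (z.1 : ℕ)) f.2, congrArg (fun z => (z.2 : ℕ)) f.2⟩
      simp only
      split_ifs with hle
      swap
      · haveI : IsEmpty {f // key f = (⟨D, hD⟩, ⟨m, hm⟩)} := ⟨fun f => hle (by
          obtain ⟨h1, h1'⟩ := hkey f
          have := hsum f.1
          rw [h1, h1'] at this
          omega)⟩
        exact ⟨inferInstance, (Nat.card_of_isEmpty (α := {f // key f = (⟨D, hD⟩, ⟨m, hm⟩)})).le⟩
      set n' := n - ((2 * j + 3) * D + (j + 1) * m) with hn'
      obtain ⟨_, hS⟩ := ih n'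
      obtain ⟨_, hA⟩ := SD1.bound (K := K) D
      obtain ⟨_, hB⟩ := SDM.bound (K := K) h2 m
      let Φ : {f // key f = (⟨D, hD⟩, ⟨m, hm⟩)} → (SD1 K D × SDM K m) × SpData K j n' := fun f =>
        ((⟨⟨(f.1.1 (2 * j + 3)).1, (f.1.2.1 _).1.1, by
            obtain ⟨k, hk⟩ := ((f.1.2.1 (2 * j + 3)).2.1 hodd).2.1
            have := (hkey f).1
            omega, (f.1.2.1 _).1.2.1, (f.1.2.1 _).1.2.2⟩, ((f.1.2.1 _).2.1 hodd).1⟩,
          ⟨f.1.1 (2 * j + 2), ⟨(f.1.2.1 _).1.1, (hkey f).2, (f.1.2.1 _).1.2.1, (f.1.2.1 _).1.2.2⟩,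
            (f.1.2.1 _).2.2⟩),
        ⟨fun e => if e ≤ 2 * j + 1 then f.1.1 e else (1, false, false),
          fun e => by
            show OkAt e (if e ≤ 2 * j + 1 then f.1.1 e else (1, false, false))
            split_ifs
            · exact f.1.2.1 e
            · exact ⟨⟨monic_one, SUClassNumber.dualP_one, by simp⟩, fun _ => by simp, by simp, by simp⟩,
          fun e he => by
            show (if e ≤ 2 * j + 1 then f.1.1 e else (1, false, false)) = _
            split_ifs with h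
            · exact f.1.2.2.1 e (by omega)
            · rfl,
          by
            have := hsum f.1
            rw [(hkey f).1, (hkey f).2] at this
            rw [Finset.sum_congr rfl (g := fun e => hw e (f.1.1 e).1) fun e he => by
              simp only [Finset.mem_Icc] at he
              simp only [if_pos he.2]]
            omega⟩)
      have hΦ : Function.Injective Φ := by
        intro f f' h
        have h1 : (Φ f).1.1 = (Φ f').1.1 := congrArg (fun z => z.1.1) h
        have h2' : (Φ f).1.2 = (Φ f').1.2 := congrArg (fun z => z.1.2) h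
        have h3 : (Φ f).2 = (Φ f').2 := congrArg (fun z => z.2) h
        refine Subtype.ext (Subtype.ext (funext fun e => ?_))
        by_cases e1 : e ≤ 2 * j + 1
        · have := congrFun (congrArg Subtype.val h3) e
          simpa [Φ, e1] using this
        · by_cases e2 : e = 2 * j + 2
          · subst e2
            exact congrArg Subtype.val h2'
          · by_cases e3 : e = 2 * j + 3
            · subst e3
              obtain ⟨-, -, a1, a2⟩ := (f.1.2.1 _).2.1 hodd
              obtain ⟨-, -, b1, b2⟩ := (f'.1.2.1 _).2.1 hodd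
              exact Prod.ext (congrArg (fun z => z.1.1) h1) (Prod.ext (a1.trans b1.symm) (a2.trans b2.symm))
            · rw [f.1.2.2.1 e (by omega), f'.1.2.2.1 e (by omega)]
      refine ⟨Finite.of_injective Φ hΦ, (Nat.card_le_card_of_injective Φ hΦ).trans ?_⟩
      rw [Nat.card_prod, Nat.card_prod]
      exact Nat.mul_le_mul (Nat.mul_le_mul hA hB) hS
    haveI := fun z => (hfib z).1
    have hfin : Finite (SpData K (j + 1) n) := Finite.of_equiv _ (Equiv.sigmaFiberEquiv key)
    refine ⟨hfin, ?_⟩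
    rw [← Nat.card_congr (Equiv.sigmaFiberEquiv key), Nat.card_sigma]
    refine (Finset.sum_le_sum fun z _ => (hfib z).2).trans (le_of_eq ?_)
    rw [Fintype.sum_prod_type, spCount]
    rw [← Fin.sum_univ_eq_sum_range]
    refine Finset.sum_congr rfl fun D _ => ?_
    rw [← Fin.sum_univ_eq_sum_range]

/-- The leading coefficient. -/
def spLead (x : ℚ) : ℕ → ℚ
  | 0 => 1
  | j + 1 => spLead x j * ((1 + x ^ (j + 1)) ^ 4 / ((1 - x ^ (2 * j + 1)) * (1 - x ^ (2 * j + 2))))

theorem spLead_step (x : ℚ) (hx0 : 0 ≤ x) (hx1 : x < 1) (j : ℕ) :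
    1 ≤ (1 + x ^ (j + 1)) ^ 4 / ((1 - x ^ (2 * j + 1)) * (1 - x ^ (2 * j + 2))) := by
  have h1 : x ^ (2 * j + 1) < 1 := pow_lt_one₀ hx0 hx1 (by omega)
  have h2 : x ^ (2 * j + 2) < 1 := pow_lt_one₀ hx0 hx1 (by omega)
  have h3 : (0 : ℚ) ≤ x ^ (j + 1) := by positivity
  have h4 : (0 : ℚ) ≤ x ^ (2 * j + 1) := by positivity
  have h5 : (0 : ℚ) ≤ x ^ (2 * j + 2) := by positivity
  rw [le_div_iff₀ (mul_pos (by linarith) (by linarith)), one_mul]
  calc (1 - x ^ (2 * j + 1)) * (1 - x ^ (2 * j + 2)) ≤ 1 := mul_le_one₀ (by linarith) (by linarith) (by linarith)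
    _ ≤ _ := one_le_pow₀ (by linarith)

theorem spLead_pos (x : ℚ) (hx0 : 0 ≤ x) (hx1 : x < 1) : ∀ j, 1 ≤ spLead x j := by
  intro j
  induction j with
  | zero => exact le_rfl
  | succ j ih => exact one_le_mul_of_one_le_of_one_le ih (spLead_step x hx0 hx1 j)

theorem cc_series (q : ℕ) (y : ℚ) (hy : 0 ≤ y) (hqy : (q : ℚ) * y ^ 2 < 1) (M : ℕ) :
    ∑ m ∈ range (M + 1), (cc q m : ℚ) * y ^ m ≤ (1 + y) ^ 4 / (1 - q * y ^ 2) := by
  rw [le_div_iff₀ (by linarith)]
  set S : ℕ → ℚ := fun M => ∑ m ∈ range (M + 1), (cc q m : ℚ) * y ^ m with hS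
  set T : ℕ → ℚ := fun M => ∑ m ∈ range M, (Nat.choose 4 m : ℚ) * y ^ m with hT
  have hmono : ∀ M, S M ≤ S (M + 1) := fun M => by
    simp only [hS]
    rw [Finset.sum_range_succ _ (M + 1)]
    exact le_add_of_nonneg_right (by positivity)
  have hrec : ∀ M, S (M + 2) = T (M + 3) + q * y ^ 2 * S M := by
    intro M
    induction M with
    | zero => simp [hS, hT, Finset.sum_range_succ, cc, Nat.choose]; ring
    | succ M ih =>
      simp only [hS, hT] at ih ⊢
      rw [Finset.sum_range_succ _ (M + 3), ih, Finset.sum_range_succ _ (M + 3), Finset.sum_range_succ _ (M + 1),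
        show cc q (M + 3) = q * cc q (M + 1) + Nat.choose 4 (M + 3) from rfl]
      push_cast
      ring
  have hT4 : ∀ M, T M ≤ (1 + y) ^ 4 := fun M => by
    refine le_trans (?_ : T M ≤ T (M + 5)) (le_of_eq ?_)
    · exact Finset.sum_le_sum_of_subset_of_nonneg (Finset.range_subset_range.mpr (by omega)) fun i _ _ => by positivity
    · simp only [hT]
      rw [← Finset.sum_subset (Finset.range_subset_range.mpr (show 5 ≤ M + 5 by omega)) fun i _ hi => by
        rw [Finset.mem_range, not_lt] at hi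
        rw [Nat.choose_eq_zero_of_lt (by omega)]; simp]
      simp [Finset.sum_range_succ, Nat.choose]
      ring
  have hq0 : (0 : ℚ) ≤ (q : ℚ) * y ^ 2 := by positivity
  have hstep : S M ≤ S (M + 2) := (hmono M).trans (hmono (M + 1))
  have h1 := hrec M
  have h2 := hT4 (M + 3)
  show S M * _ ≤ _
  nlinarith

theorem spCount_le_lead (q : ℕ) (hq : 2 ≤ q) :
    ∀ j n : ℕ, (spCount q j n : ℚ) ≤ spLead ((q : ℚ)⁻¹) j * (q : ℚ) ^ n := by
  have hqQ : (q : ℚ) ≠ 0 := Nat.cast_ne_zero.mpr (by omega)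
  have hx0 : (0 : ℚ) ≤ (q : ℚ)⁻¹ := by positivity
  have hx1 : (q : ℚ)⁻¹ < 1 := inv_lt_one_of_one_lt₀ (by exact_mod_cast hq)
  set x : ℚ := (q : ℚ)⁻¹ with hx
  have hqx : (q : ℚ) * x = 1 := mul_inv_cancel₀ hqQ
  intro j
  induction j with
  | zero => intro n; simp [spCount, spLead]
  | succ j ih =>
    intro n
    rw [spCount, spLead]
    push_cast
    have hA : (q : ℚ) * x ^ (2 * j + 3) = x ^ (2 * j + 2) := by
      rw [pow_succ' x (2 * j + 2), ← mul_assoc, hqx, one_mul]
    have hB : (q : ℚ) * (x ^ (j + 1)) ^ 2 = x ^ (2 * j + 1) := by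
      rw [← pow_mul, show (j + 1) * 2 = (2 * j + 1) + 1 by ring, pow_succ' x (2 * j + 1), ← mul_assoc, hqx, one_mul]
    have hb1 : x ^ (2 * j + 1) < 1 := pow_lt_one₀ hx0 hx1 (by omega)
    have hb2 : x ^ (2 * j + 2) < 1 := pow_lt_one₀ hx0 hx1 (by omega)
    have hE := spLead_pos x hx0 hx1 j
    calc ∑ D ∈ range (n + 1), ∑ m ∈ range (n + 1),
          (if (2 * j + 3) * D + (j + 1) * m ≤ n then
            (q : ℚ) ^ D * (cc q m : ℚ) * (spCount q j (n - ((2 * j + 3) * D + (j + 1) * m)) : ℚ) else 0)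
        ≤ ∑ D ∈ range (n + 1), ∑ m ∈ range (n + 1), spLead x j * (q : ℚ) ^ n *
            ((x ^ (2 * j + 2)) ^ D * ((cc q m : ℚ) * (x ^ (j + 1)) ^ m)) := by
          refine Finset.sum_le_sum fun D _ => Finset.sum_le_sum fun m _ => ?_
          split_ifs with hle
          swap
          · positivity
          refine (mul_le_mul_of_nonneg_left (ih _) (by positivity)).trans (le_of_eq ?_)
          have e1 : (q : ℚ) ^ (n - ((2 * j + 3) * D + (j + 1) * m)) =
              (q : ℚ) ^ n * ((x ^ (2 * j + 3)) ^ D * (x ^ (j + 1)) ^ m) := by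
            rw [← pow_mul, ← pow_mul, ← pow_add, hx, pow_sub₀ _ hqQ hle, inv_pow]
          rw [e1, ← hA, mul_pow]
          ring
      _ = spLead x j * (q : ℚ) ^ n * ((∑ D ∈ range (n + 1), (x ^ (2 * j + 2)) ^ D) *
            ∑ m ∈ range (n + 1), (cc q m : ℚ) * (x ^ (j + 1)) ^ m) := by
          rw [Finset.sum_mul_sum, Finset.mul_sum]
          exact Finset.sum_congr rfl fun D _ => by rw [Finset.mul_sum]
      _ ≤ spLead x j * (q : ℚ) ^ n * (1 / (1 - x ^ (2 * j + 2)) * ((1 + x ^ (j + 1)) ^ 4 / (1 - x ^ (2 * j + 1)))) := by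
          refine mul_le_mul_of_nonneg_left (mul_le_mul ?_ ?_ (by positivity) ?_) (by positivity)
          · rw [le_div_iff₀ (by linarith), geom_sum_mul_neg]
            have : (0 : ℚ) ≤ (x ^ (2 * j + 2)) ^ (n + 1) := by positivity
            linarith
          · have h := cc_series q (x ^ (j + 1)) (by positivity) (by rw [hB]; exact hb1) n
            rwa [hB] at h
          · exact div_nonneg zero_le_one (by linarith)
      _ = _ := by
          rw [div_mul_div_comm, one_mul, mul_comm (1 - x ^ (2 * j + 2))]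
          ring

theorem spLead_le (x a B : ℚ) (hx0 : 0 < x) (hx1 : x ≤ 1 / 3) (ha : 2 ≤ a) (ha' : a ≤ 3) (hB : 0 ≤ B)
    (hax : 4 + a + (1 + 1 / x) * x ^ 2 ≤ a / x) (j₀ : ℕ) (hj : 1 ≤ j₀)
    (h0 : spLead x j₀ ≤ B * (1 - a * x ^ j₀)) : ∀ j, spLead x j ≤ B := by
  have hinv : ∀ i, spLead x (j₀ + i) ≤ B * (1 - a * x ^ (j₀ + i)) := by
    intro i
    induction i with
    | zero => exact h0
    | succ i ih =>
      rw [← add_assoc, spLead]
      set k := j₀ + i with hk
      set y := x ^ (k + 1) with hy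
      have hy0 : 0 < y := by positivity
      have hyx : y ≤ x ^ 2 := pow_le_pow_of_le_one hx0.le (by linarith) (by omega)
      have e1 : x ^ k = y / x := by rw [hy, pow_succ]; field_simp
      have e2 : x ^ (2 * k + 2) = y ^ 2 := by rw [hy, ← pow_mul]; ring
      have e3 : x ^ (2 * k + 1) = y ^ 2 / x := by rw [← e2, pow_succ x (2 * k + 1)]; field_simp
      have hb1 : x ^ (2 * k + 1) < 1 := pow_lt_one₀ hx0.le (by linarith) (by omega)
      have hb2 : x ^ (2 * k + 2) < 1 := pow_lt_one₀ hx0.le (by linarith) (by omega)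
      have hden : 0 < (1 - x ^ (2 * k + 1)) * (1 - x ^ (2 * k + 2)) := mul_pos (by linarith) (by linarith)
      refine (mul_le_mul_of_nonneg_right ih (div_nonneg (by positivity) hden.le)).trans ?_
      rw [mul_div_assoc', div_le_iff₀ hden, mul_assoc, mul_assoc]
      refine mul_le_mul_of_nonneg_left ?_ hB
      rw [e1, e2, e3]
      set c := a / x with hc
      rw [show a * (y / x) = c * y by rw [hc]; ring, show y ^ 2 / x = (1 / x) * y ^ 2 by ring]
      set d := 1 / x with hd
      have hd3 : 3 ≤ d := by rw [hd, le_div_iff₀ hx0]; linarith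
      have hc6 : 6 ≤ c := by
        rw [hc, show a / x = a * d by rw [hd]; ring]
        nlinarith
      have h1 : (1 + d) * y ≤ (1 + d) * x ^ 2 := mul_le_mul_of_nonneg_left hyx (by linarith)
      have h2 : 0 ≤ (c - (4 + a + (1 + d) * y)) * y := mul_nonneg (by linarith) hy0.le
      have h3 : 0 ≤ (4 * c - 6) * y ^ 2 := mul_nonneg (by linarith) (by positivity)
      have h4 : 0 ≤ (6 * c - 4) * y ^ 3 := mul_nonneg (by linarith) (by positivity)
      have h5 : 0 ≤ (4 * c - 1) * y ^ 4 := mul_nonneg (by linarith) (by positivity)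
      have h6 : 0 ≤ c * y ^ 5 := mul_nonneg (by linarith) (by positivity)
      have h7 : 0 ≤ a * (1 + d) * y ^ 3 := by positivity
      have h8 : 0 ≤ (1 - a * y) * (d * y ^ 2 * y ^ 2) := by
        refine mul_nonneg ?_ (by positivity)
        nlinarith [mul_le_mul ha' (hyx.trans (pow_le_pow_left₀ hx0.le hx1 2)) hy0.le (by norm_num)]
      nlinarith
  intro j
  rcases le_or_gt j₀ j with h | h
  · obtain ⟨i, rfl⟩ := Nat.exists_eq_add_of_le h
    refine (hinv i).trans ?_
    have : 0 ≤ B * (a * x ^ (j₀ + i)) := by positivity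
    linarith
  · have hmono : Monotone (spLead x) := monotone_nat_of_le_succ fun k => by
      rw [spLead]
      exact le_mul_of_one_le_right (zero_le_one.trans (spLead_pos x hx0.le (by linarith) k))
        (spLead_step x hx0.le (by linarith) k)
    refine ((hmono h.le).trans h0).trans ?_
    have : 0 ≤ B * (a * x ^ j₀) := by positivity
    linarith

theorem spCount_le (q j n : ℕ) (hq : 3 ≤ q) (hq5 : q = 3 ∨ 5 ≤ q) : 5 * spCount q j n ≤ 54 * q ^ n := by
  suffices h : (spCount q j n : ℚ) ≤ 54 / 5 * (q : ℚ) ^ n by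
    have h1 : ((5 * spCount q j n : ℕ) : ℚ) ≤ ((54 * q ^ n : ℕ) : ℚ) := by push_cast; linarith
    exact_mod_cast h1
  refine (spCount_le_lead q (by omega) j n).trans (mul_le_mul_of_nonneg_right ?_ (by positivity))
  rcases hq5 with rfl | h5
  · refine spLead_le _ (9 / 4) (54 / 5) (by norm_num) (by norm_num) (by norm_num) (by norm_num) (by norm_num) (by norm_num) 5
      (by norm_num) ?_ j
    norm_num [spLead]
  · have hx : (q : ℚ)⁻¹ ≤ 1 / 5 := by
      rw [one_div]; exact inv_anti₀ (by norm_num) (by exact_mod_cast h5)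
    have hx0 : (0 : ℚ) < (q : ℚ)⁻¹ := by positivity
    set x : ℚ := (q : ℚ)⁻¹ with hxdef
    have hq' : 5 ≤ 1 / x := by rw [le_div_iff₀ hx0]; linarith
    refine spLead_le x 2 (54 / 5) hx0 (by linarith) le_rfl (by norm_num) (by norm_num) ?_ 1 le_rfl ?_ j
    · have h1 : (1 + 1 / x) * x ^ 2 = x ^ 2 + x := by field_simp
      rw [h1, show (2 : ℚ) / x = 2 * (1 / x) by ring]
      nlinarith
    · have hl : spLead x 1 = (1 + x) ^ 4 / ((1 - x) * (1 - x ^ 2)) := by simp [spLead]
      rw [hl, div_le_iff₀ (mul_pos (by linarith) (by nlinarith))]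
      have h1 : (1 + x) ^ 4 ≤ (6 / 5) ^ 4 := pow_le_pow_left₀ (by linarith) (by linarith) 4
      have h3 : (4 / 5 : ℚ) * (24 / 25) ≤ (1 - x) * (1 - x ^ 2) :=
        mul_le_mul (by linarith) (by nlinarith) (by norm_num) (by linarith)
      have h4 : (3 / 5 : ℚ) ≤ 1 - 2 * x ^ 1 := by linarith
      nlinarith [mul_le_mul h4 h3 (by norm_num) (by linarith)]

end CfsgLib.IsometryClasses
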