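import Cfsg.Agent.Lib.IsometryClasses.Labels
import Cfsg.Agent.Lib.IsometryClasses.SpCount
import Mathlib.LinearAlgebra.SymplecticGroup

/-!
An upper bound for the number of classes of the symplectic group in odd characteristic.
-/

set_option autoImplicit false
set_option linter.unusedSectionVars false

namespace CfsgLib.IsometryClasses

open Polynomial Matrix

universe u v

variable {K : Type u} [Field K] [Fintype K]

theorem weight_sum {ε : K} {S : Finset ℕ} {m : Multiset (Tag K)} (hm : ∀ t ∈ m, VTag ε t)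
    (hS : ∀ t ∈ m, t.2.1 ∈ S) :
    ∑ e ∈ S, e * (lprod m e).natDegree = (m.map fun t => t.2.1 * t.1.natDegree).sum := by
  induction m using Multiset.induction with
  | empty => simp [lprod]
  | cons t m ih =>
    have hm' : ∀ s ∈ m, VTag ε s := fun s hs => hm s (Multiset.mem_cons_of_mem hs)
    rw [Multiset.map_cons, Multiset.sum_cons, ← ih hm' fun s hs => hS s (Multiset.mem_cons_of_mem hs)]
    have h1 : ∀ e, e * (lprod (t ::ₘ m) e).natDegree =
        (if t.2.1 = e then t.2.1 * t.1.natDegree else 0) + e * (lprod m e).natDegree := fun e => by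
      rw [lprod_cons]
      split_ifs with h
      · rw [natDegree_mul (hm t (Multiset.mem_cons_self t m)).facts.1.ne_zero (lprod_facts hm' e).1.ne_zero, mul_add, h]
      · rw [one_mul, zero_add]
    rw [Finset.sum_congr rfl fun e _ => h1 e, Finset.sum_add_distrib, Finset.sum_ite_eq,
      if_pos (hS t (Multiset.mem_cons_self t m))]

theorem VTag.natDegree_pos {ε : K} {t : Tag K} (h : VTag ε t) : 0 < t.1.natDegree := by
  rcases h with ⟨p, e, s, -, hi, -, -, -, -, -, rfl⟩ | ⟨p, e, hm, hi, h0, -, -, rfl⟩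
  · exact hi.natDegree_pos
  · obtain ⟨hm', -, -, -⟩ := du_props ⟨hm, hi⟩ h0
    rw [natDegree_mul hm.ne_zero hm'.ne_zero]
    exact Nat.add_pos_left hi.natDegree_pos _

theorem exponent_le {ε : K} {m : Multiset (Tag K)} (hm : ∀ t ∈ m, VTag ε t) {D : ℕ}
    (hD : (m.map fun t => t.2.1 * t.1.natDegree).sum = D) {t : Tag K} (ht : t ∈ m) : t.2.1 ≤ D :=
  le_trans (le_trans (Nat.le_mul_of_pos_right _ (hm t ht).natDegree_pos)
    (Multiset.single_le_sum (fun _ _ => Nat.zero_le _) _ (Multiset.mem_map_of_mem (fun t : Tag K => t.2.1 * t.1.natDegree) ht))) hD.le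

theorem lprod_of_forall_ne {m : Multiset (Tag K)} {e : ℕ} (h : ∀ t ∈ m, t.2.1 ≠ e) : lprod m e = 1 := by
  rw [lprod, Multiset.filter_eq_nil.mpr h, Multiset.map_zero, Multiset.prod_zero]

open Classical in
/-- The data attached to a multiset of labels. -/
noncomputable def dataFun (m : Multiset (Tag K)) (e : ℕ) : Datum K :=
  (lprod m e, decide ((X - C 1, e, some false) ∈ m), decide ((X - C (-1), e, some false) ∈ m))

theorem dataFun_eq {ε : K} (h2 : (2 : K) ≠ 0) {m m' : Multiset (Tag K)} (hm : ∀ t ∈ m, VTag ε t)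
    (hm' : ∀ t ∈ m', VTag ε t) (hc : Canon m) (hc' : Canon m') (h : dataFun m = dataFun m') : m = m' := by
  classical
  refine labels_ext h2 hm hm' hc hc' (fun e => congrArg Prod.fst (congrFun h e)) fun p e hp => ?_
  rcases hp with rfl | rfl
  · simpa [dataFun] using congrArg (fun z => z.2.1) (congrFun h e)
  · simpa [dataFun] using congrArg (fun z => z.2.2) (congrFun h e)

theorem dataFun_symp (h2 : (2 : K) ≠ 0) {m : Multiset (Tag K)} (hm : ∀ t ∈ m, VTag (-1 : K) t) {n : ℕ}
    (hw2 : (m.map fun t => t.2.1 * t.1.natDegree).sum = 2 * n) :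
    (∀ e, OkAt e (dataFun m e)) ∧ (∀ e, (e = 0 ∨ 2 * n + 1 < e) → dataFun m e = (1, false, false)) ∧
      ∑ e ∈ Finset.Icc 1 (2 * n + 1), hw e (dataFun m e).1 = n := by
  classical
  have hne : (1 : K) ≠ -1 := fun h => h2 (by linear_combination h)
  have hpar : ∀ {e : ℕ}, Odd e → (-1 : K) * (-1) ^ (e - 1) = -1 := fun {e} he => by
    obtain ⟨k, rfl⟩ := he
    rw [show 2 * k + 1 - 1 = 2 * k by omega, pow_mul, neg_one_sq, one_pow, mul_one]
  have hrange : ∀ t ∈ m, t.2.1 ∈ Finset.Icc 1 (2 * n + 1) := fun t ht =>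
    Finset.mem_Icc.mpr ⟨(hm t ht).facts.2.2.2, (exponent_le hm hw2 ht).trans (Nat.le_succ _)⟩
  refine ⟨fun e => ⟨lprod_facts hm e, fun he => ?_, fun hb => ?_, fun hb => ?_⟩, fun e he => ?_, ?_⟩
  · obtain ⟨h1, hd⟩ := lprod_even h2 hm (hpar he)
    refine ⟨h1, hd, ?_, ?_⟩ <;>
    · refine decide_eq_false fun h => hne ?_
      exact (vtag_false (hm _ h)).2.symm.trans (hpar he)
  · exact dvd_iff_isRoot.mp (dvd_lprod (of_decide_eq_true hb))
  · exact dvd_iff_isRoot.mp (dvd_lprod (of_decide_eq_true hb))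
  · have hno : ∀ t ∈ m, t.2.1 ≠ e := fun t ht h => by
      have := Finset.mem_Icc.mp (hrange t ht)
      omega
    have hf : ∀ p, decide ((p, e, some false) ∈ m) = false := fun p => decide_eq_false fun h => hno _ h rfl
    simp only [dataFun, lprod_of_forall_ne hno, hf]
  · have h1 : ∀ e, 2 * hw e (dataFun m e).1 = e * (lprod m e).natDegree := fun e => by
      show 2 * hw e (lprod m e) = _
      rw [hw]
      split_ifs with he
      · obtain ⟨k, hk⟩ := (lprod_even h2 hm (hpar he)).2
        rw [hk, show (k + k) / 2 = k by omega]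
        ring
      · obtain ⟨k, rfl⟩ := Nat.not_odd_iff_even.mp he
        rw [show (k + k) / 2 = k by omega]
        ring
    have h3 := weight_sum hm hrange
    rw [hw2, ← Finset.sum_congr rfl (fun e _ => h1 e), ← Finset.mul_sum] at h3
    omega

variable {n : ℕ}

theorem sp_classes_le (h2 : (2 : K) ≠ 0) :
    Nat.card (ConjClasses (Matrix.symplecticGroup (Fin n) K)) ≤ spCount (Fintype.card K) n n := by
  classical
  set G := ↥(Matrix.symplecticGroup (Fin n) K)
  set B : ((Fin n ⊕ Fin n) → K) →ₗ[K] ((Fin n ⊕ Fin n) → K) →ₗ[K] K :=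
    Matrix.toLinearMap₂' K (Matrix.J (Fin n) K) with hB
  haveI : Finite (Matrix (Fin n ⊕ Fin n) (Fin n ⊕ Fin n) K) := inferInstanceAs (Finite (_ → _ → K))
  haveI : Finite G := Subtype.finite
  have hBapp : ∀ u v, B u v = u ⬝ᵥ Matrix.J (Fin n) K *ᵥ v := fun u v => Matrix.toLinearMap₂'_apply' _ u v
  have hpres : ∀ (A : Matrix (Fin n ⊕ Fin n) (Fin n ⊕ Fin n) K), A ∈ Matrix.symplecticGroup (Fin n) K →
      ∀ u v, B (A *ᵥ u) (A *ᵥ v) = B u v := fun A hA u v => by
    rw [hBapp, hBapp, Matrix.mulVec_mulVec, ← Matrix.vecMul_transpose, ← Matrix.dotProduct_mulVec,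
      Matrix.mulVec_mulVec, ← Matrix.mul_assoc, SymplecticGroup.mem_iff'.mp hA]
  have hctx : ∀ g : G, Ctx B (Matrix.toLinAlgEquiv' g.1) (-1 : K) (Nat.card G) := fun g =>
    ⟨Nat.card_pos,
      by
        rw [← map_pow, show g.1 ^ Nat.card G = ((g ^ Nat.card G : G) : Matrix _ _ K) from (SubmonoidClass.coe_pow g _).symm,
          pow_card_eq_one']
        exact map_one _,
      fun u v => by rw [Matrix.toLinAlgEquiv'_apply, Matrix.toLinAlgEquiv'_apply, hpres g.1 g.2],
      fun u v => by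
        rw [hBapp, hBapp, Matrix.dotProduct_mulVec v, ← Matrix.mulVec_transpose, Matrix.J_transpose, Matrix.neg_mulVec,
          neg_dotProduct, neg_one_mul, neg_neg, dotProduct_comm],
      h2⟩
  have hnd : ∀ u, (∀ w, B w u = 0) → u = 0 := fun u hu => by
    have h1 : Matrix.J (Fin n) K *ᵥ u = 0 := by
      refine funext fun i => ?_
      have := hu (Pi.single i 1)
      rwa [hBapp, single_one_dotProduct] at this
    by_contra hne
    exact (Matrix.isUnit_det_J (Fin n) K).ne_zero (Matrix.exists_mulVec_eq_zero_iff.mp ⟨u, hne, h1⟩)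
  have hframe : ∀ g : G, ∃ m, Frame B (Matrix.toLinAlgEquiv' g.1) (-1 : K) ⊤ m ∧ Canon m := fun g =>
    exists_frame (hctx g) _ ⊤ le_rfl (fun u _ => trivial) fun u _ hz => hnd u fun w => hz w trivial
  choose M hM hcan using hframe
  have hdim : ∀ g : G, ((M g).map fun t => t.2.1 * t.1.natDegree).sum = 2 * n := fun g => by
    rw [← (hM g).finrank (hctx g), finrank_top, Module.finrank_pi, Fintype.card_sum, Fintype.card_fin, two_mul]
  obtain ⟨hfin, hcard⟩ := SpData.bound h2 n n
  let Φ : ConjClasses G → SpData K n n := fun c =>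
    ⟨dataFun (M c.exists_rep.choose), dataFun_symp h2 ((hM _).vtag (hctx _)) (hdim _)⟩
  refine (Nat.card_le_card_of_injective Φ fun c c' h => ?_).trans hcard
  set g := c.exists_rep.choose with hg
  set g' := c'.exists_rep.choose with hg'
  have hmm : M g = M g' := dataFun_eq h2 ((hM g).vtag (hctx g)) ((hM g').vtag (hctx g')) (hcan g) (hcan g')
    (congrArg Subtype.val h)
  obtain ⟨T, hTc, hTp⟩ := exists_equiv_of_frame (hctx g) (hctx g') hnd (hM g) (hmm ▸ hM g')
  rw [← c.exists_rep.choose_spec, ← c'.exists_rep.choose_spec, ← hg, ← hg', ConjClasses.mk_eq_mk_iff_isConj]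
  set t := Matrix.toLinAlgEquiv'.symm T.toLinearMap with ht
  have htT : ∀ u, t *ᵥ u = T u := fun u => by
    rw [← Matrix.toLinAlgEquiv'_apply, ht, AlgEquiv.apply_symm_apply]
    rfl
  have htmem : t ∈ Matrix.symplecticGroup (Fin n) K := by
    rw [SymplecticGroup.mem_iff']
    refine Matrix.ext fun i j => ?_
    have := hTp (Pi.single i 1) (Pi.single j 1)
    rw [← htT, ← htT, hBapp, hBapp, ← Matrix.vecMul_transpose, ← Matrix.dotProduct_mulVec, Matrix.mulVec_mulVec,
      Matrix.mulVec_mulVec] at this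
    simpa [Matrix.mulVec_single_one] using this
  refine isConj_iff.mpr ⟨⟨t, htmem⟩, mul_inv_eq_iff_eq_mul.mpr (Subtype.ext ?_)⟩
  show t * g.1 = g'.1 * t
  refine Matrix.ext_of_mulVec_single fun i => ?_
  rw [← Matrix.mulVec_mulVec, ← Matrix.mulVec_mulVec, htT, htT, ← Matrix.toLinAlgEquiv'_apply g.1,
    ← Matrix.toLinAlgEquiv'_apply g'.1]
  exact hTc _

end CfsgLib.IsometryClasses
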