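import Cfsg.Agent.Lib.IsometryClasses.Layer
import Mathlib.Combinatorics.Enumerative.Partition.Basic

/-!
The labels of unipotent isometries of an alternating form.
-/

set_option autoImplicit false
set_option linter.unusedSectionVars false

namespace CfsgLib.IsometryClasses

open Polynomial

universe u v w

variable {K : Type u} [Field K] [Fintype K] {V : Type v} [AddCommGroup V] [Module K V]
  {B : V →ₗ[K] V →ₗ[K] K} {x : Module.End K V} {ε : K} {N : ℕ}

theorem parity_even_iff (h2 : (2 : K) ≠ 0) {e : ℕ} (he : 1 ≤ e) :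
    (-1 : K) * (-1) ^ (e - 1) = 1 ↔ Even e := by
  have hne : (-1 : K) ≠ 1 := fun h => h2 (by linear_combination -h)
  rw [← pow_succ', Nat.sub_add_cancel he, neg_one_pow_eq_one_iff_even hne]

theorem parity_odd_iff (h2 : (2 : K) ≠ 0) {e : ℕ} (he : 1 ≤ e) :
    (-1 : K) * (-1) ^ (e - 1) = -1 ↔ Odd e := by
  have hne : (-1 : K) ≠ 1 := fun h => h2 (by linear_combination -h)
  rw [← pow_succ', Nat.sub_add_cancel he]
  rcases Nat.even_or_odd e with h | h
  · rw [h.neg_one_pow]
    exact iff_of_false (fun h' => hne h'.symm) (Nat.not_odd_iff_even.mpr h)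
  · rw [h.neg_one_pow]
    exact iff_of_true rfl h

/-- The labels of a unipotent isometry of exponent at most `k`. -/
def UTag (k : ℕ) (t : Tag K) : Prop :=
  (∃ e s, Even e ∧ 1 ≤ e ∧ e ≤ k ∧ t = (X - C 1, e, some s)) ∨
    (∃ e, Odd e ∧ e ≤ k ∧ t = ((X - C 1) * (X - C 1), e, none))

theorem UTag.fst {k : ℕ} {t : Tag K} (h : UTag k t) : t.1 = X - C 1 ∨ t.1 = (X - C 1) * (X - C 1) := by
  rcases h with ⟨e, s, -, -, -, rfl⟩ | ⟨e, -, -, rfl⟩
  exacts [Or.inl rfl, Or.inr rfl]

theorem UTag.bounds {k : ℕ} {t : Tag K} (h : UTag k t) : 1 ≤ t.2.1 ∧ t.2.1 ≤ k := by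
  rcases h with ⟨e, s, -, h1, h2, rfl⟩ | ⟨e, ho, h2, rfl⟩
  exacts [⟨h1, h2⟩, ⟨ho.pos, h2⟩]

theorem eq_X_sub_one_of_dvd {p : K[X]} {k : ℕ} (hm : p.Monic) (hi : Irreducible p)
    (h : p ∣ (X - C (1 : K)) ^ k) : p = X - C 1 :=
  eq_of_monic_of_associated hm (monic_X_sub_C 1)
    (hi.associated_of_dvd (irreducible_X_sub_C 1) (hi.prime.dvd_of_dvd_pow h))

theorem le_of_pow_dvd {e k : ℕ} (h : (X - C (1 : K)) ^ e ∣ (X - C 1) ^ k) : e ≤ k :=
  (pow_dvd_pow_iff (X_sub_C_ne_zero 1) (not_isUnit_X_sub_C 1)).mp h

theorem Frame.utag [FiniteDimensional K V] {U : Submodule K V} {m : Multiset (Tag K)} (hF : Frame B x (-1) U m)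
    (h : Ctx B x (-1) N) {k : ℕ} (hk : (X ^ N - 1 : K[X]) = (X - C 1) ^ k) : ∀ t ∈ m, UTag k t := by
  induction hF with
  | nil => intro t ht; simp at ht
  | @cons t W U m hW _ _ ih =>
    intro s hs
    rcases Multiset.mem_cons.mp hs with rfl | hs
    swap
    · exact ih s hs
    rcases hW with ⟨p, e, v, hv, rfl, -⟩ | ⟨p, e, v, w, hv, rfl, -⟩
    · have hd := hv.dvd h
      rw [hk] at hd
      obtain rfl := eq_X_sub_one_of_dvd hv.mon hv.irr ((dvd_pow_self p (by have := hv.he; omega)).trans hd)
      exact Or.inl ⟨e, _, (parity_even_iff h.two hv.he).mp (hv.parity h isPM_one), hv.he, le_of_pow_dvd hd, rfl⟩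
    · have hd := hv.dvd h
      rw [hk] at hd
      obtain rfl := eq_X_sub_one_of_dvd hv.mon hv.irr ((dvd_pow_self p (by have := hv.he; omega)).trans hd)
      rcases hv.shape with h1 | ⟨-, h1⟩
      · exact absurd (du_pm isPM_one).symm h1
      · exact Or.inr ⟨e, (parity_odd_iff h.two hv.he).mp h1, le_of_pow_dvd hd, by rw [du_pm isPM_one]⟩

/-! ### Transport along an isometric intertwining map -/

variable {V' : Type w} [AddCommGroup V'] [Module K V'] {B' : V' →ₗ[K] V' →ₗ[K] K} {y : Module.End K V'}
  {T : V →ₗ[K] V'}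

theorem act_map (hc : ∀ u, T (x u) = y (T u)) (r : K[X]) (u : V) : act y r (T u) = T (act x r u) := by
  induction r using Polynomial.induction_on' with
  | add a b ha hb => rw [act_add, act_add, map_add, ha, hb]
  | monomial i c =>
    have key : ∀ i, (y ^ i) (T u) = T ((x ^ i) u) := by
      intro i
      induction i with
      | zero => simp
      | succ i ih => rw [pow_succ', Module.End.mul_apply, ih, pow_succ', Module.End.mul_apply, hc]
    simp [act, aeval_monomial, key]

theorem gram_map (hc : ∀ u, T (x u) = y (T u)) (hp : ∀ u v, B' (T u) (T v) = B u v) (u v : V) (r : K[X]) :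
    gram B' y (T u) (T v) r = gram B x u v r := by
  rw [gram_apply, gram_apply, act_map hc, hp]

theorem range_orb_map (hc : ∀ u, T (x u) = y (T u)) (v : V) :
    LinearMap.range (orb y (T v)) = (LinearMap.range (orb x v)).map T := by
  rw [← LinearMap.range_comp]
  congr 1
  exact LinearMap.ext fun r => act_map hc r v

theorem IsPiece.map {t : Tag K} {W : Submodule K V} (hW : IsPiece B x ε t W) (hc : ∀ u, T (x u) = y (T u))
    (hp : ∀ u v, B' (T u) (T v) = B u v) : IsPiece B' y ε t (W.map T) := by
  rcases hW with ⟨p, e, v, hv, rfl, rfl⟩ | ⟨p, e, v, w, hv, rfl, rfl⟩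
  · refine Or.inl ⟨p, e, T v, ⟨hv.mon, hv.irr, hv.he, hv.p0, hv.self, ?_, ?_⟩, ?_, (range_orb_map hc v).symm⟩
    · rw [act_map hc, hv.kill, map_zero]
    · obtain ⟨r, hr⟩ := hv.top
      exact ⟨r, by rwa [gram_map hc hp]⟩
    · rw [sgn, sgn, gram_map hc hp]
  · refine Or.inr ⟨p, e, T v, T w, ⟨hv.mon, hv.irr, hv.he, hv.p0, hv.shape, ?_, ?_, ?_, ?_, ?_⟩, rfl, ?_⟩
    · rw [act_map hc, hv.kill_v, map_zero]
    · rw [act_map hc, hv.kill_w, map_zero]
    · exact fun r => by rw [gram_map hc hp, hv.iso_v]
    · exact fun r => by rw [gram_map hc hp, hv.iso_w]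
    · obtain ⟨r, hr⟩ := hv.top
      exact ⟨r, by rwa [gram_map hc hp]⟩
    · rw [Submodule.map_sup, range_orb_map hc, range_orb_map hc]

theorem Frame.map {U : Submodule K V} {m : Multiset (Tag K)} (hF : Frame B x ε U m)
    (hc : ∀ u, T (x u) = y (T u)) (hp : ∀ u v, B' (T u) (T v) = B u v) : Frame B' y ε (U.map T) m := by
  induction hF with
  | nil => rw [Submodule.map_bot]; exact Frame.nil
  | cons hW ho _ ih =>
    rw [Submodule.map_sup]
    refine Frame.cons (hW.map hc hp) ?_ ih
    rintro - ⟨a, ha, rfl⟩ - ⟨b, hb, rfl⟩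
    rw [hp, ho a ha b hb]

/-! ### The labels are determined by the isometry -/

open Classical in
theorem Canon.count_false {m : Multiset (Tag K)} (hc : Canon m) (t : Tag K) (ht : t.2.2 = some false) : m.count t = if t ∈ m then 1 else 0 := by
  split_ifs with h
  · obtain ⟨m', rfl⟩ := Multiset.exists_cons_of_mem h
    rw [Multiset.count_cons_self, Multiset.count_eq_zero.mpr (hc t m' ht rfl)]
  · exact Multiset.count_eq_zero.mpr h

theorem X_sub_one_sq_ne : (X - C (1 : K)) * (X - C 1) ≠ X - C 1 := fun h => by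
  have := congrArg natDegree h
  rw [natDegree_mul (X_sub_C_ne_zero _) (X_sub_C_ne_zero _), natDegree_X_sub_C] at this
  omega

open Classical in
theorem layerCount_even {k : ℕ} {m : Multiset (Tag K)} (hm : ∀ t ∈ m, UTag k t) {e : ℕ} (he : Even e) :
    layerCount m e = m.count (X - C 1, e, some true) + m.count (X - C 1, e, some false) := by
  have : ((X - C (1 : K)) * (X - C 1), e, none) ∉ m := fun h => by
    rcases hm _ h with ⟨e', s, -, -, -, h'⟩ | ⟨e', ho, -, h'⟩
    · simp at h'
    · simp only [Prod.mk.injEq] at h'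
      exact Nat.not_odd_iff_even.mpr he (h'.2.1 ▸ ho)
  rw [layerCount, Multiset.count_eq_zero.mpr this, mul_zero, add_zero]

open Classical in
theorem layerCount_odd {k : ℕ} {m : Multiset (Tag K)} (hm : ∀ t ∈ m, UTag k t) {e : ℕ} (he : Odd e) : layerCount m e = 2 * m.count ((X - C 1) * (X - C 1), e, none) := by
  have : ∀ s : Bool, (X - C (1 : K), e, some s) ∉ m := fun s h => by
    rcases hm _ h with ⟨e', s', hev, -, -, h'⟩ | ⟨e', -, -, h'⟩
    · simp only [Prod.mk.injEq] at h'
      exact Nat.not_odd_iff_even.mpr hev (h'.2.1 ▸ he)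
    · simp at h'
  rw [layerCount, Multiset.count_eq_zero.mpr (this true), Multiset.count_eq_zero.mpr (this false), zero_add, zero_add]

theorem utags_ext {k : ℕ} {m m' : Multiset (Tag K)} (hm : ∀ t ∈ m, UTag k t) (hm' : ∀ t ∈ m', UTag k t)
    (hc : Canon m) (hc' : Canon m') (hl : ∀ e, layerCount m e = layerCount m' e)
    (hs : ∀ e, (X - C 1, e, some false) ∈ m ↔ (X - C 1, e, some false) ∈ m') : m = m' := by
  classical
  refine Multiset.ext.mpr fun t => ?_
  by_cases ht : UTag k t
  swap
  · rw [Multiset.count_eq_zero.mpr fun h => ht (hm t h), Multiset.count_eq_zero.mpr fun h => ht (hm' t h)]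
  have hf : ∀ e, m.count (X - C 1, e, some false) = m'.count (X - C 1, e, some false) := fun e => by
    rw [hc.count_false _ rfl, hc'.count_false _ rfl]
    simp only [hs e]
  rcases ht with ⟨e, s, he, -, -, rfl⟩ | ⟨e, he, -, rfl⟩
  · cases s
    · exact hf e
    · have := hl e
      rw [layerCount_even hm he, layerCount_even hm' he, hf e] at this
      omega
  · have := hl e
    rw [layerCount_odd hm he, layerCount_odd hm' he] at this
    omega

theorem Frame.tags_unique [FiniteDimensional K V] {m m' : Multiset (Tag K)} (h : Ctx B x (-1) N) {k : ℕ}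
    (hk : (X ^ N - 1 : K[X]) = (X - C 1) ^ k) (hF : Frame B x (-1) ⊤ m) (hF' : Frame B x (-1) ⊤ m')
    (hc : Canon m) (hc' : Canon m') : m = m' := by
  have hm := hF.utag h hk
  have hm' := hF'.utag h hk
  have key : ∀ e, layerCount m e = layerCount m' e ∧
      ((X - C 1, e, some false) ∈ m ↔ (X - C 1, e, some false) ∈ m') := fun e => by
    rcases Nat.eq_zero_or_pos e with rfl | he
    · have : ∀ {n : Multiset (Tag K)}, (∀ t ∈ n, UTag k t) → ∀ q : K[X] × Option Bool, (q.1, 0, q.2) ∉ n :=
        fun hn q hq => absurd (hn _ hq).bounds.1 (by simp)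
      classical
      refine ⟨?_, iff_of_false (this hm (_, _)) (this hm' (_, _))⟩
      simp only [layerCount, Multiset.count_eq_zero.mpr (this hm (_, _)),
        Multiset.count_eq_zero.mpr (this hm' (_, _))]
    · obtain ⟨h1, h2⟩ := LayerBasis.compare h (hF.layer h (fun t ht => (hm t ht).fst) he hc)
        (hF'.layer h (fun t ht => (hm' t ht).fst) he hc')
      exact ⟨h1, not_iff_not.mp h2⟩
  exact utags_ext hm hm' hc hc' (fun e => (key e).1) fun e => (key e).2

/-! ### Counting the label multisets -/

/-- The parts of a multiset of labels. -/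
noncomputable def tagParts (m : Multiset (Tag K)) : Multiset ℕ :=
  m.bind fun t => Multiset.replicate t.1.natDegree t.2.1

theorem tagParts_sum (m : Multiset (Tag K)) : (tagParts m).sum = (m.map fun t => t.2.1 * t.1.natDegree).sum := by
  induction m using Multiset.induction with
  | empty => simp [tagParts]
  | cons t m ih =>
    rw [tagParts] at ih ⊢
    rw [Multiset.cons_bind, Multiset.sum_add, ih, Multiset.map_cons, Multiset.sum_cons, Multiset.sum_replicate,
      smul_eq_mul, mul_comm]

theorem count_tagParts {k : ℕ} {m : Multiset (Tag K)} (hm : ∀ t ∈ m, UTag k t) (e : ℕ) :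
    (tagParts m).count e = layerCount m e := by
  classical
  induction m using Multiset.induction with
  | empty => simp [tagParts, layerCount]
  | cons t m ih =>
    rw [tagParts] at ih ⊢
    rw [Multiset.cons_bind, Multiset.count_add, ih fun s hs => hm s (Multiset.mem_cons_of_mem hs),
      Multiset.count_replicate]
    have hne := X_sub_one_sq_ne (K := K)
    rcases hm t (Multiset.mem_cons_self t m) with ⟨f, s, -, -, -, rfl⟩ | ⟨f, -, -, rfl⟩
    · by_cases hfe : f = e
      · subst hfe
        rw [if_pos rfl, natDegree_X_sub_C]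
        cases s <;> simp [layerCount, Multiset.count_cons, hne] <;> omega
      · simp [layerCount, Multiset.count_cons, hfe, Ne.symm hfe]
    · by_cases hfe : f = e
      · subst hfe
        rw [if_pos rfl, natDegree_mul (X_sub_C_ne_zero _) (X_sub_C_ne_zero _), natDegree_X_sub_C]
        simp [layerCount, Multiset.count_cons, Ne.symm hne]
        omega
      · simp [layerCount, Multiset.count_cons, hfe, Ne.symm hfe]

/-- The admissible multisets of labels of dimension `D`. -/
def UData (K : Type u) [Field K] (k D : ℕ) : Type u :=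
  {m : Multiset (Tag K) // (∀ t ∈ m, UTag k t) ∧ Canon m ∧ (m.map fun t => t.2.1 * t.1.natDegree).sum = D}

/-- The partitions with signs on even part sizes. -/
def partSigns (k D : ℕ) : Finset (Σ _ : Nat.Partition D, Finset ℕ) :=
  (Finset.univ.filter fun μ : Nat.Partition D => ∀ a ∈ μ.parts, a ≤ k ∧ (Odd a → Even (μ.parts.count a))).sigma
    fun μ => (μ.parts.toFinset.filter fun j : ℕ => Even j).powerset

open Classical in
/-- The labels of one part size. -/
noncomputable def partTags (c : ℕ) (S : Finset ℕ) (e : ℕ) : Multiset (Tag K) :=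
  if Even e then
    if e ∈ S then Multiset.replicate 1 (X - C 1, e, some false) + Multiset.replicate (c - 1) (X - C 1, e, some true)
    else Multiset.replicate c (X - C 1, e, some true)
  else Multiset.replicate (c / 2) ((X - C 1) * (X - C 1), e, none)

theorem partTags_level {c : ℕ} {S : Finset ℕ} {e : ℕ} {t : Tag K} (h : t ∈ partTags c S e) : t.2.1 = e := by
  rw [partTags] at h
  split_ifs at h
  · rcases Multiset.mem_add.mp h with h | h <;> rw [Multiset.eq_of_mem_replicate h]
  all_goals rw [Multiset.eq_of_mem_replicate h]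

theorem card_udata (k D : ℕ) : Nat.card (UData K k D) = (partSigns k D).card := by
  classical
  have hparts : ∀ z : UData K k D, ∀ a ∈ tagParts z.1, 1 ≤ a ∧ a ≤ k := fun z a ha => by
    obtain ⟨t, ht, ha⟩ := Multiset.mem_bind.mp ha
    rw [Multiset.eq_of_mem_replicate ha]
    exact (z.2.1 t ht).bounds
  have hev : ∀ z : UData K k D, ∀ a, Odd a → Even ((tagParts z.1).count a) := fun z a ha => by
    rw [count_tagParts z.2.1, layerCount_odd z.2.1 ha]
    exact even_two_mul _
  let f : UData K k D → {q // q ∈ partSigns k D} := fun z =>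
    ⟨⟨⟨tagParts z.1, fun {i} hi => (hparts z i hi).1, by rw [tagParts_sum]; exact z.2.2.2⟩,
      ((tagParts z.1).toFinset.filter fun j : ℕ => Even j).filter fun e => (X - C 1, e, some false) ∈ z.1⟩,
      Finset.mem_sigma.mpr ⟨Finset.mem_filter.mpr ⟨Finset.mem_univ _, fun a ha => ⟨(hparts z a ha).2, hev z a⟩⟩,
        Finset.mem_powerset.mpr (Finset.filter_subset _ _)⟩⟩
  have hfin : ∀ z : UData K k D, ∀ e, (X - C 1, e, some false) ∈ z.1 →
      e ∈ (tagParts z.1).toFinset.filter fun j : ℕ => Even j := fun z e he => by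
    refine Finset.mem_filter.mpr ⟨Multiset.mem_toFinset.mpr (Multiset.mem_bind.mpr ⟨_, he, ?_⟩), ?_⟩
    · rw [natDegree_X_sub_C, Multiset.replicate_one]
      exact Multiset.mem_singleton_self e
    · rcases z.2.1 _ he with ⟨e', s, hev, -, -, h'⟩ | ⟨e', -, -, h'⟩
      · simp only [Prod.mk.injEq] at h'
        exact h'.2.1 ▸ hev
      · simp at h'
  rw [← Nat.card_eq_finsetCard]
  refine Nat.card_congr (Equiv.ofBijective f ⟨fun z z' h => ?_, fun q => ?_⟩)
  · have h0 := congrArg Subtype.val h
    have h1 : tagParts z.1 = tagParts z'.1 := congrArg (fun q : Σ _ : Nat.Partition D, Finset ℕ => q.1.parts) h0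
    have h2 := congrArg (fun q : Σ _ : Nat.Partition D, Finset ℕ => q.2) h0
    simp only [f] at h2
    refine Subtype.ext (utags_ext z.2.1 z'.2.1 z.2.2.1 z'.2.2.1 (fun e => ?_) fun e => ⟨fun he => ?_, fun he => ?_⟩)
    · rw [← count_tagParts z.2.1, ← count_tagParts z'.2.1, h1]
    · have : e ∈ ((tagParts z.1).toFinset.filter fun j : ℕ => Even j).filter fun e => (X - C 1, e, some false) ∈ z.1 :=
        Finset.mem_filter.mpr ⟨hfin z e he, he⟩
      rw [h2] at this
      exact (Finset.mem_filter.mp this).2
    · have : e ∈ ((tagParts z'.1).toFinset.filter fun j : ℕ => Even j).filter fun e => (X - C 1, e, some false) ∈ z'.1 :=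
        Finset.mem_filter.mpr ⟨hfin z' e he, he⟩
      rw [← h2] at this
      exact (Finset.mem_filter.mp this).2
  · obtain ⟨⟨μ, S⟩, hq⟩ := q
    obtain ⟨hμ, hS⟩ := Finset.mem_sigma.mp hq
    rw [Finset.mem_powerset] at hS
    have hμ' := (Finset.mem_filter.mp hμ).2
    set m : Multiset (Tag K) := ∑ e ∈ μ.parts.toFinset, partTags (μ.parts.count e) S e with hm
    have hcount : ∀ t : Tag K, m.count t =
        if t.2.1 ∈ μ.parts.toFinset then (partTags (μ.parts.count t.2.1) S t.2.1).count t else 0 := fun t => by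
      rw [hm, Multiset.count_sum']
      rw [Finset.sum_eq_single t.2.1 (fun e _ hne => Multiset.count_eq_zero.mpr fun h => hne (partTags_level h).symm)
        (fun hn => ?_)]
      · split_ifs with h
        · rfl
        · exact Multiset.count_eq_zero.mpr fun h' => by
            rw [partTags] at h'
            rw [Multiset.mem_toFinset] at h
            have h0 : μ.parts.count t.2.1 = 0 := Multiset.count_eq_zero.mpr h
            have hnS : t.2.1 ∉ S := fun hs => h (Multiset.mem_toFinset.mp (Finset.mem_filter.mp (hS hs)).1)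
            simp [h0, hnS] at h'
      · exact Multiset.count_eq_zero.mpr fun h' => by
          rw [partTags] at h'
          rw [Multiset.mem_toFinset] at hn
          have h0 : μ.parts.count t.2.1 = 0 := Multiset.count_eq_zero.mpr hn
          have hnS : t.2.1 ∉ S := fun hs => hn (Multiset.mem_toFinset.mp (Finset.mem_filter.mp (hS hs)).1)
          simp [h0, hnS] at h'
    have hmu : ∀ t ∈ m, UTag k t := fun t ht => by
      obtain ⟨e, he, ht⟩ := Multiset.mem_sum.mp ht
      rw [Multiset.mem_toFinset] at he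
      have hk := (hμ' e he).1
      have h1 : 1 ≤ e := μ.parts_pos he
      rw [partTags] at ht
      split_ifs at ht with h2 h3
      · rcases Multiset.mem_add.mp ht with ht | ht <;> rw [Multiset.eq_of_mem_replicate ht] <;>
          exact Or.inl ⟨e, _, h2, h1, hk, rfl⟩
      · rw [Multiset.eq_of_mem_replicate ht]; exact Or.inl ⟨e, _, h2, h1, hk, rfl⟩
      · rw [Multiset.eq_of_mem_replicate ht]; exact Or.inr ⟨e, Nat.not_even_iff_odd.mp h2, hk, rfl⟩
    have hfalse : ∀ e, m.count (X - C 1, e, some false) = if e ∈ S then 1 else 0 := fun e => by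
      rw [hcount]
      by_cases hs : e ∈ S
      · obtain ⟨h1, h2⟩ := Finset.mem_filter.mp (hS hs)
        simp [h1, h2, hs, partTags, Multiset.count_replicate]
      · by_cases h2 : Even e <;> simp [hs, h2, partTags, Multiset.count_replicate]
    have hcanon : Canon m := fun t m' hf he hmem => by
      obtain ⟨e, s, -, -, -, rfl⟩ | ⟨e, -, -, rfl⟩ := hmu t (by rw [he]; exact Multiset.mem_cons_self _ _)
      · simp only [Option.some.injEq] at hf
        subst hf
        have := hfalse e
        rw [he, Multiset.count_cons_self] at this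
        have h0 := Multiset.count_pos.mpr hmem
        split_ifs at this <;> omega
      · simp at hf
    have hlayer : tagParts m = μ.parts := Multiset.ext.mpr fun e => by
      rw [count_tagParts hmu]
      rcases Nat.even_or_odd e with hev | hodd
      · rw [layerCount_even hmu hev, hcount, hfalse]
        by_cases hmem : e ∈ μ.parts.toFinset
        · have := Multiset.count_pos.mpr (Multiset.mem_toFinset.mp hmem)
          by_cases hs : e ∈ S <;> simp [hmem, hs, hev, partTags, Multiset.count_replicate]
          omega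
        · have hs : e ∉ S := fun hs => hmem (Finset.mem_filter.mp (hS hs)).1
          rw [Multiset.count_eq_zero.mpr (mt Multiset.mem_toFinset.mpr hmem)]
          simp [hmem, hs]
      · rw [layerCount_odd hmu hodd, hcount]
        by_cases hmem : e ∈ μ.parts.toFinset
        · obtain ⟨j, hj⟩ := (hμ' e (Multiset.mem_toFinset.mp hmem)).2 hodd
          simp [hmem, partTags, Nat.not_even_iff_odd.mpr hodd, Multiset.count_replicate, hj]
          omega
        · rw [Multiset.count_eq_zero.mpr (mt Multiset.mem_toFinset.mpr hmem)]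
          simp [hmem]
    refine ⟨⟨m, hmu, hcanon, by rw [← tagParts_sum, hlayer, μ.parts_sum]⟩, Subtype.ext ?_⟩
    simp only [f, Sigma.mk.injEq, heq_eq_eq]
    refine ⟨Nat.Partition.ext hlayer, Finset.ext fun e => ?_⟩
    rw [hlayer, Finset.mem_filter]
    constructor
    · rintro ⟨-, h⟩
      have := Multiset.count_pos.mpr h
      rw [hfalse] at this
      by_contra hs
      rw [if_neg hs] at this
      omega
    · intro hs
      refine ⟨hS hs, Multiset.count_pos.mp ?_⟩
      rw [hfalse, if_pos hs]
      exact Nat.one_pos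

end CfsgLib.IsometryClasses
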