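import Cfsg.Agent.Lib.IsometryClasses.UniModels
import Mathlib.LinearAlgebra.SymplecticGroup

/-!
The classes of unipotent elements of prime order dividing exponent of the symplectic group in odd characteristic.
-/

set_option autoImplicit false
set_option linter.unusedSectionVars false

namespace CfsgLib.IsometryClasses

open Polynomial Matrix

universe u

variable {K : Type u} [Field K] {n : ℕ}

/-- The standard alternating form. -/
noncomputable def spForm (n : ℕ) (K : Type u) [Field K] :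
    ((Fin n ⊕ Fin n) → K) →ₗ[K] ((Fin n ⊕ Fin n) → K) →ₗ[K] K :=
  Matrix.toLinearMap₂' K (Matrix.J (Fin n) K)

theorem spForm_apply (u v : (Fin n ⊕ Fin n) → K) : spForm n K u v = u ⬝ᵥ Matrix.J (Fin n) K *ᵥ v :=
  Matrix.toLinearMap₂'_apply' _ u v

theorem spForm_symm (u v : (Fin n ⊕ Fin n) → K) : spForm n K u v = (-1) * spForm n K v u := by
  rw [spForm_apply, spForm_apply, Matrix.dotProduct_mulVec v, ← Matrix.mulVec_transpose, Matrix.J_transpose,
    Matrix.neg_mulVec, neg_dotProduct, neg_one_mul, neg_neg, dotProduct_comm]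

theorem spForm_nd (u : (Fin n ⊕ Fin n) → K) (hu : ∀ w, spForm n K w u = 0) : u = 0 := by
  have h1 : Matrix.J (Fin n) K *ᵥ u = 0 := by
    refine funext fun i => ?_
    have := hu (Pi.single i 1)
    rwa [spForm_apply, single_one_dotProduct] at this
  by_contra hne
  exact (Matrix.isUnit_det_J (Fin n) K).ne_zero (Matrix.exists_mulVec_eq_zero_iff.mp ⟨u, hne, h1⟩)

theorem mem_sp_iff (A : Matrix (Fin n ⊕ Fin n) (Fin n ⊕ Fin n) K) :
    A ∈ Matrix.symplecticGroup (Fin n) K ↔ ∀ u v, spForm n K (A *ᵥ u) (A *ᵥ v) = spForm n K u v := by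
  constructor
  · intro hA u v
    rw [spForm_apply, spForm_apply, Matrix.mulVec_mulVec, ← Matrix.vecMul_transpose, ← Matrix.dotProduct_mulVec,
      Matrix.mulVec_mulVec, ← Matrix.mul_assoc, SymplecticGroup.mem_iff'.mp hA]
  · intro h
    rw [SymplecticGroup.mem_iff']
    refine Matrix.ext fun i j => ?_
    have := h (Pi.single i 1) (Pi.single j 1)
    rw [spForm_apply, spForm_apply, ← Matrix.vecMul_transpose, ← Matrix.dotProduct_mulVec, Matrix.mulVec_mulVec,
      Matrix.mulVec_mulVec] at this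
    simpa [Matrix.mulVec_single_one] using this

variable [Fintype K] {p : ℕ} [Fact p.Prime] [CharP K p]

theorem sp_ctx (h2 : (2 : K) ≠ 0) (g : Matrix.symplecticGroup (Fin n) K) {N : ℕ} (hN : 0 < N) (hg : g ^ N = 1) :
    Ctx (spForm n K) (Matrix.toLinAlgEquiv' g.1) (-1) N := by
  refine ⟨hN, ?_, fun u v => ?_, spForm_symm, h2⟩
  · rw [← map_pow, ← SubmonoidClass.coe_pow, hg]
    exact map_one _
  · rw [Matrix.toLinAlgEquiv'_apply, Matrix.toLinAlgEquiv'_apply, (mem_sp_iff g.1).mp g.2]

theorem card_classes_pow_eq_one (h2 : (2 : K) ≠ 0) (n : ℕ) :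
    Nat.card {C : ConjClasses (Matrix.symplecticGroup (Fin n) K) //
      ∃ g : Matrix.symplecticGroup (Fin n) K, ConjClasses.mk g = C ∧ g ^ p = 1} = (partSigns p (2 * n)).card := by
  classical
  rw [← card_udata (K := K)]
  have hp : 0 < p := (Fact.out : p.Prime).pos
  set G := ↥(Matrix.symplecticGroup (Fin n) K)
  have hframe : ∀ (g : G), g ^ p = 1 → ∃ m, Frame (spForm n K) (Matrix.toLinAlgEquiv' g.1) (-1 : K) ⊤ m ∧ Canon m :=
    fun g hg => exists_frame (sp_ctx h2 g hp hg) _ ⊤ le_rfl (fun u _ => trivial) fun u _ hz =>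
      spForm_nd u fun w => hz w trivial
  choose M hM hcan using hframe
  have hdim : ∀ g hg, ((M g hg).map fun t => t.2.1 * t.1.natDegree).sum = 2 * n := fun g hg => by
    rw [← (hM g hg).finrank (sp_ctx h2 g hp hg), finrank_top, Module.finrank_pi, Fintype.card_sum, Fintype.card_fin,
      two_mul]
  have hX : (X ^ p - 1 : K[X]) = (X - C 1) ^ p := X_pow_char_sub_one
  let Φ : {C : ConjClasses G // ∃ g : G, ConjClasses.mk g = C ∧ g ^ p = 1} → UData K p (2 * n) := fun z =>
    ⟨M z.2.choose z.2.choose_spec.2, (hM _ _).utag (sp_ctx h2 _ hp z.2.choose_spec.2) hX, hcan _ _, hdim _ _⟩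
  refine Nat.card_congr (Equiv.ofBijective Φ ⟨fun z z' h => ?_, fun q => ?_⟩)
  · obtain ⟨hz, hzp⟩ := z.2.choose_spec
    obtain ⟨hz', hzp'⟩ := z'.2.choose_spec
    set g := z.2.choose
    set g' := z'.2.choose
    have hmm : M g hzp = M g' hzp' := congrArg Subtype.val h
    obtain ⟨T, hTc, hTp⟩ := exists_equiv_of_frame (sp_ctx h2 g hp hzp) (sp_ctx h2 g' hp hzp') spForm_nd
      (hM g hzp) (hmm ▸ hM g' hzp')
    refine Subtype.ext ?_
    rw [← hz, ← hz', ConjClasses.mk_eq_mk_iff_isConj]
    set t := Matrix.toLinAlgEquiv'.symm T.toLinearMap with ht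
    have htT : ∀ u, t *ᵥ u = T u := fun u => by
      rw [← Matrix.toLinAlgEquiv'_apply, ht, AlgEquiv.apply_symm_apply]
      rfl
    have htmem : t ∈ Matrix.symplecticGroup (Fin n) K :=
      (mem_sp_iff t).mpr fun u v => by rw [htT, htT, hTp]
    refine isConj_iff.mpr ⟨⟨t, htmem⟩, mul_inv_eq_iff_eq_mul.mpr (Subtype.ext ?_)⟩
    show t * g.1 = g'.1 * t
    refine Matrix.ext_of_mulVec_single fun i => ?_
    rw [← Matrix.mulVec_mulVec, ← Matrix.mulVec_mulVec, htT, htT, ← Matrix.toLinAlgEquiv'_apply g.1,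
      ← Matrix.toLinAlgEquiv'_apply g'.1]
    exact hTc _
  · obtain ⟨V, _, _, _, B, x, hx, hF⟩ := hasModel (p := p) h2 q.2.1
    have hrank : Module.finrank K V = 2 * n := by
      rw [← finrank_top, hF.finrank hx]
      exact q.2.2.2
    have hnd : ∀ u, (∀ w, B w u = 0) → u = 0 := fun u hu =>
      hF.nd hx u trivial fun w _ => hu w
    -- the two spaces are isometric
    have h1 : ∀ {W : Type u} [AddCommGroup W] [Module K W] [FiniteDimensional K W] (B' : W →ₗ[K] W →ₗ[K] K)
        (hs : ∀ a b, B' a b = (-1) * B' b a) (hn : ∀ u, (∀ w, B' w u = 0) → u = 0)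
        (hr : Module.finrank K W = 2 * n), Ctx B' (1 : Module.End K W) (-1) 1 ∧
          Frame B' (1 : Module.End K W) (-1) ⊤ (Multiset.replicate n ((X - C 1) * (X - C 1), 1, none)) := by
      intro W _ _ _ B' hs hn hr
      have hc : Ctx B' (1 : Module.End K W) (-1) 1 := ⟨Nat.one_pos, pow_one _, fun u v => rfl, hs, h2⟩
      obtain ⟨m, hm, -⟩ := exists_frame hc _ ⊤ le_rfl (fun u _ => trivial) fun u _ hz => hn u fun w => hz w trivial
      have hu := hm.utag hc (k := 1) (by rw [pow_one, pow_one, C_1])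
      have hall : m = Multiset.replicate m.card ((X - C 1) * (X - C 1), 1, none) := by
        refine Multiset.eq_replicate_card.mpr fun t ht => ?_
        rcases hu t ht with ⟨e, s, he, h1, he1, rfl⟩ | ⟨e, ho, he1, rfl⟩
        · obtain rfl : e = 1 := by omega
          exact absurd he Nat.not_even_one
        · obtain rfl : e = 1 := le_antisymm he1 ho.pos
          rfl
      have hcard := hm.finrank hc
      rw [finrank_top, hr, hall, Multiset.map_replicate, Multiset.sum_replicate, smul_eq_mul, one_mul,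
        natDegree_mul (X_sub_C_ne_zero _) (X_sub_C_ne_zero _), natDegree_X_sub_C] at hcard
      rw [show n = m.card by omega]
      exact ⟨hc, hall ▸ hm⟩
    obtain ⟨hc₁, hF₁⟩ := h1 B hx.symm hnd hrank
    obtain ⟨hc₂, hF₂⟩ := h1 (spForm n K) spForm_symm spForm_nd
      (by rw [Module.finrank_pi, Fintype.card_sum, Fintype.card_fin, two_mul])
    obtain ⟨T, hT⟩ := hF₁.exists_iso hc₁ hc₂ hF₂
    have hinj : Function.Injective T := by
      rw [← LinearMap.ker_eq_bot, LinearMap.ker_eq_bot']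
      exact fun u hu => hnd u fun w => by rw [← hT.pres w trivial u trivial, hu, map_zero]
    let E : V ≃ₗ[K] ((Fin n ⊕ Fin n) → K) := LinearEquiv.ofBijective T ⟨hinj,
      (LinearMap.injective_iff_surjective_of_finrank_eq_finrank (by
        rw [hrank, Module.finrank_pi, Fintype.card_sum, Fintype.card_fin, two_mul])).mp hinj⟩
    have hE : ∀ u v, spForm n K (E u) (E v) = B u v := fun u v => hT.pres u trivial v trivial
    set A := Matrix.toLinAlgEquiv'.symm (E.toLinearMap ∘ₗ x ∘ₗ E.symm.toLinearMap) with hA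
    have hAx : ∀ u, A *ᵥ E u = E (x u) := fun u => by
      rw [← Matrix.toLinAlgEquiv'_apply, hA, AlgEquiv.apply_symm_apply]
      simp
    have hAmem : A ∈ Matrix.symplecticGroup (Fin n) K := (mem_sp_iff A).mpr fun u v => by
      obtain ⟨u, rfl⟩ := E.surjective u
      obtain ⟨v, rfl⟩ := E.surjective v
      rw [hAx, hAx, hE, hE, hx.iso]
    have hApow : (⟨A, hAmem⟩ : G) ^ p = 1 := by
      refine Subtype.ext ?_
      rw [SubmonoidClass.coe_pow]
      show A ^ p = 1
      have key : ∀ i u, (A ^ i) *ᵥ E u = E ((x ^ i) u) := fun i => by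
        induction i with
        | zero => intro u; simp
        | succ i ih =>
          intro u
          rw [pow_succ, ← Matrix.mulVec_mulVec, hAx, ih, pow_succ, Module.End.mul_apply]
      refine Matrix.ext_of_mulVec_single fun i => ?_
      obtain ⟨u, hu⟩ := E.surjective (Pi.single i 1)
      rw [← hu, key, hx.pow_eq, Matrix.one_mulVec, Module.End.one_apply]
    set g : G := ⟨A, hAmem⟩ with hg
    refine ⟨⟨ConjClasses.mk g, g, rfl, hApow⟩, Subtype.ext ?_⟩
    have hex : ∃ g' : G, ConjClasses.mk g' = ConjClasses.mk g ∧ g' ^ p = 1 := ⟨g, rfl, hApow⟩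
    show M hex.choose hex.choose_spec.2 = q.1
    have hgp := hex.choose_spec.2
    obtain ⟨c, hc⟩ := isConj_iff.mp (ConjClasses.mk_eq_mk_iff_isConj.mp hex.choose_spec.1.symm)
    set g' := hex.choose
    have hF₃ := hF.map (B' := spForm n K) (y := Matrix.toLinAlgEquiv' g.1) (T := E.toLinearMap)
      (fun u => (hAx u).symm.trans (Matrix.toLinAlgEquiv'_apply g.1 (E u)).symm) hE
    rw [Submodule.map_top, E.range] at hF₃
    have hcc : (c.1 : Matrix _ _ K) * g.1 = g'.1 * c.1 :=
      congrArg Subtype.val (mul_inv_eq_iff_eq_mul.mp hc)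
    have hF₄ := hF₃.map (B' := spForm n K) (y := Matrix.toLinAlgEquiv' g'.1) (T := Matrix.toLinAlgEquiv' c.1)
      (fun u => by
        simp only [Matrix.toLinAlgEquiv'_apply, Matrix.mulVec_mulVec, hcc])
      (fun u v => by rw [Matrix.toLinAlgEquiv'_apply, Matrix.toLinAlgEquiv'_apply, (mem_sp_iff c.1).mp c.2])
    have htop : (⊤ : Submodule K ((Fin n ⊕ Fin n) → K)).map (Matrix.toLinAlgEquiv' c.1) = ⊤ := by
      rw [Submodule.map_top, LinearMap.range_eq_top]
      intro u
      refine ⟨(c⁻¹).1 *ᵥ u, ?_⟩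
      have hcv : (c.1 : Matrix _ _ K) * (c⁻¹).1 = 1 := congrArg Subtype.val (mul_inv_cancel c)
      rw [Matrix.toLinAlgEquiv'_apply, Matrix.mulVec_mulVec, hcv, Matrix.one_mulVec]
    rw [htop] at hF₄
    exact Frame.tags_unique (sp_ctx h2 g' hp hgp) hX (hM g' hgp) hF₄ (hcan g' hgp) q.2.2.1

end CfsgLib.IsometryClasses
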