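import Cfsg.Agent.Lib.IsometryClasses.Uni
import Mathlib.RingTheory.AdjoinRoot

/-!
Models of the pieces of a unipotent isometry of an alternating form, and their orthogonal sums.
-/

set_option autoImplicit false
set_option linter.unusedSectionVars false

namespace CfsgLib.IsometryClasses

open Polynomial

universe u

variable {K : Type u} [Field K] [Fintype K]

/-- There is a unipotent isometry of an alternating space with these labels. -/
def HasModel (N : ℕ) (m : Multiset (Tag K)) : Prop :=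
  ∃ (V : Type u) (_ : AddCommGroup V) (_ : Module K V) (_ : FiniteDimensional K V)
    (B : V →ₗ[K] V →ₗ[K] K) (x : Module.End K V), Ctx B x (-1) N ∧ Frame B x (-1) ⊤ m

section Local

variable {p : ℕ} [Fact p.Prime] [CharP K p]

theorem X_pow_char_sub_one : (X ^ p - 1 : K[X]) = (X - C 1) ^ p := by
  rw [sub_pow_char, C_1, one_pow]

theorem pow_dvd_X_pow_sub_one {e : ℕ} (hep : e ≤ p) : (X - C (1 : K)) ^ e ∣ X ^ p - 1 := by
  rw [X_pow_char_sub_one]
  exact pow_dvd_pow _ hep

theorem exists_adjoint {e : ℕ} (hep : e ≤ p) :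
    ∃ σ : AdjoinRoot ((X - C (1 : K)) ^ e) →ₐ[K] AdjoinRoot ((X - C (1 : K)) ^ e),
      (∀ r, σ (AdjoinRoot.mk _ r) = AdjoinRoot.mk _ (rev p r)) ∧ (∀ a, σ (σ a) = a) ∧
        σ (AdjoinRoot.root _) * AdjoinRoot.root _ = 1 := by
  set f : K[X] := (X - C (1 : K)) ^ e with hf
  have hp : 0 < p := (Fact.out : p.Prime).pos
  have hfN : f ∣ X ^ p - 1 := pow_dvd_X_pow_sub_one hep
  have hdvd : f ∣ rev p f :=
    dvd_rev_self hp (by simp) (du_pm isPM_one) hfN dvd_rfl
  let σ : AdjoinRoot f →ₐ[K] AdjoinRoot f := AdjoinRoot.liftAlgHom f (Algebra.ofId K _)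
    (AdjoinRoot.mk f (X ^ (p - 1))) (by
      have h1 : AdjoinRoot.mk f (rev p f) = 0 := AdjoinRoot.mk_eq_zero.mpr hdvd
      rw [rev, Polynomial.comp, hom_eval₂] at h1
      exact h1)
  have hσ : ∀ r, σ (AdjoinRoot.mk f r) = AdjoinRoot.mk f (rev p r) := fun r => by
    show _ = AdjoinRoot.mk f (r.comp (X ^ (p - 1)))
    rw [show AdjoinRoot.mk f (r.comp (X ^ (p - 1))) = r.eval₂ ((AdjoinRoot.mk f).comp C) (AdjoinRoot.mk f (X ^ (p - 1)))
      from hom_eval₂ r C (AdjoinRoot.mk f) (X ^ (p - 1))]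
    rfl
  refine ⟨σ, hσ, fun a => ?_, ?_⟩
  · obtain ⟨r, rfl⟩ := AdjoinRoot.mk_surjective a
    rw [hσ, hσ, AdjoinRoot.mk_eq_mk]
    exact hfN.trans (rev_rev hp r)
  · rw [← AdjoinRoot.mk_X, hσ, ← map_mul, ← map_one (AdjoinRoot.mk f), AdjoinRoot.mk_eq_mk, rev_X, ← pow_succ,
      Nat.sub_add_cancel hp]
    exact hfN

/-- Multiplication by the root. -/
noncomputable def rootMul (f : K[X]) : Module.End K (AdjoinRoot f) := LinearMap.mulLeft K (AdjoinRoot.root f)

theorem act_rootMul (f r : K[X]) (a : AdjoinRoot f) : act (rootMul f) r a = AdjoinRoot.mk f r * a := by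
  induction r using Polynomial.induction_on' with
  | add b c hb hc => rw [act_add, map_add, add_mul, hb, hc]
  | monomial i c =>
    rw [act, aeval_monomial, rootMul, LinearMap.pow_mulLeft, Module.End.mul_apply, Module.algebraMap_end_apply,
      LinearMap.mulLeft_apply, ← C_mul_X_pow_eq_monomial, map_mul, map_pow, AdjoinRoot.mk_X, AdjoinRoot.mk_C,
      Algebra.smul_def, AdjoinRoot.algebraMap_eq, mul_assoc]

theorem rootMul_pow_char {e : ℕ} (hep : e ≤ p) : rootMul ((X - C (1 : K)) ^ e) ^ p = 1 := by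
  refine LinearMap.ext fun a => ?_
  rw [rootMul, LinearMap.pow_mulLeft, LinearMap.mulLeft_apply, Module.End.one_apply, ← AdjoinRoot.mk_X, ← map_pow,
    show AdjoinRoot.mk ((X - C (1 : K)) ^ e) (X ^ p) = 1 by
      rw [← map_one (AdjoinRoot.mk _), AdjoinRoot.mk_eq_mk]
      exact pow_dvd_X_pow_sub_one hep, one_mul]

theorem mk_top_ne {e : ℕ} (he : 1 ≤ e) :
    AdjoinRoot.mk ((X - C (1 : K)) ^ e) ((X - C 1) ^ (e - 1)) ≠ 0 := by
  rw [Ne, AdjoinRoot.mk_eq_zero]
  exact fun h => absurd (le_of_pow_dvd h) (by omega)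

theorem exists_functional {e : ℕ} (he : 1 ≤ e) (d : K) :
    ∃ τ : AdjoinRoot ((X - C (1 : K)) ^ e) →ₗ[K] K, τ (AdjoinRoot.mk _ ((X - C 1) ^ (e - 1))) = d := by
  obtain ⟨φ, hφ⟩ := not_forall.mp (mt (Module.forall_dual_apply_eq_zero_iff K _).mp (mk_top_ne (K := K) he))
  refine ⟨(d / φ (AdjoinRoot.mk _ ((X - C 1) ^ (e - 1)))) • φ, ?_⟩
  rw [LinearMap.smul_apply, smul_eq_mul, div_mul_cancel₀ _ hφ]

/-- A cyclic model. -/
theorem hasModel_C (h2 : (2 : K) ≠ 0) {e : ℕ} (he : Even e) (h1 : 1 ≤ e) (hep : e ≤ p) (s : Bool) :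
    HasModel p {((X - C (1 : K)), e, some s)} := by
  classical
  set f : K[X] := (X - C (1 : K)) ^ e with hf
  haveI : Module.Finite K (AdjoinRoot f) := ((monic_X_sub_C 1).pow e).finite_adjoinRoot
  have hchar : ringChar K ≠ 2 := fun hc => h2 (by
    have : ((ringChar K : ℕ) : K) = 0 := ringChar.Nat.cast_ringChar
    rw [hc] at this
    exact_mod_cast this)
  obtain ⟨d, hd0, hd⟩ : ∃ d : K, d ≠ 0 ∧ decide (IsSquare d) = s := by
    cases s
    · obtain ⟨d, hd⟩ := FiniteField.exists_nonsquare hchar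
      exact ⟨d, fun h => hd (h ▸ ⟨0, by simp⟩), by simp [hd]⟩
    · exact ⟨1, one_ne_zero, by simp⟩
  obtain ⟨σ, hσ, hσσ, hroot⟩ := exists_adjoint (K := K) hep
  obtain ⟨τ, hτ⟩ := exists_functional (K := K) h1 (d / 2)
  let L : AdjoinRoot f →ₗ[K] K := τ - τ.comp σ.toLinearMap
  have hL : ∀ a, L (σ a) = -L a := fun a => by
    simp [L, hσσ]
  let B : AdjoinRoot f →ₗ[K] AdjoinRoot f →ₗ[K] K := ((LinearMap.mul K (AdjoinRoot f)).comp σ.toLinearMap).compr₂ L
  have hB : ∀ a b, B a b = L (σ a * b) := fun a b => rfl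
  have hctx : Ctx B (rootMul f) (-1) p :=
    ⟨(Fact.out : p.Prime).pos, rootMul_pow_char hep, fun a b => by
      rw [hB, hB, rootMul, LinearMap.mulLeft_apply, LinearMap.mulLeft_apply, map_mul σ, mul_mul_mul_comm, hroot,
        one_mul],
    fun a b => by rw [hB, hB, neg_one_mul, ← hL, map_mul σ, hσσ, mul_comm], h2⟩
  have hgram : ∀ r, gram B (rootMul f) 1 1 r = L (AdjoinRoot.mk f r) := fun r => by
    rw [gram_apply, hB, act_rootMul, map_one σ, one_mul, mul_one]
  have htop : L (AdjoinRoot.mk f ((X - C 1) ^ (e - 1))) = d := by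
    have h3 : σ (AdjoinRoot.mk f ((X - C 1) ^ (e - 1))) = AdjoinRoot.mk f (C (-1) * (X - C 1) ^ (e - 1)) := by
      rw [hσ, AdjoinRoot.mk_eq_mk]
      have h4 := rev_pm (Fact.out : p.Prime).pos (p := X - C (1 : K)) isPM_one h1 (pow_dvd_X_pow_sub_one hep)
      rwa [((Nat.Even.sub_odd h1 he odd_one).neg_one_pow : (-1 : K) ^ (e - 1) = -1)] at h4
    simp only [L, LinearMap.sub_apply, LinearMap.comp_apply, AlgHom.toLinearMap_apply]
    rw [h3, map_mul (AdjoinRoot.mk f), AdjoinRoot.mk_C, map_neg (AdjoinRoot.of f), map_one (AdjoinRoot.of f),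
      neg_one_mul, map_neg τ, hτ]
    field_simp
    ring
  have hC : IsC B (rootMul f) (X - C 1) e (1 : AdjoinRoot f) := by
    refine ⟨monic_X_sub_C 1, irreducible_X_sub_C 1, h1, by simp, du_pm isPM_one, ?_, 1, ?_⟩
    · rw [act_rootMul, AdjoinRoot.mk_self, zero_mul]
    · rw [one_mul, hgram, htop]
      exact hd0
  have hs : sgn B (rootMul f) (X - C 1) e (1 : AdjoinRoot f) = s := by
    rw [sgn, if_pos isPM_one, hgram, htop, hd]
  refine ⟨AdjoinRoot f, inferInstance, inferInstance, inferInstance, B, rootMul f, hctx, ?_⟩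
  have hrange : LinearMap.range (orb (rootMul f) (1 : AdjoinRoot f)) = ⊤ := by
    refine LinearMap.range_eq_top.mpr fun a => ?_
    obtain ⟨r, rfl⟩ := AdjoinRoot.mk_surjective a
    exact ⟨r, by rw [orb_apply, act_rootMul, mul_one]⟩
  have := Frame.cons (B := B) (x := rootMul f) (ε := -1) (W := LinearMap.range (orb (rootMul f) (1 : AdjoinRoot f)))
    (Or.inl ⟨_, e, 1, hC, rfl, rfl⟩) (fun u _ w hw => by rw [(Submodule.mem_bot K).mp hw, map_zero]) Frame.nil
  rwa [hs, sup_bot_eq, hrange] at this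

/-- A hyperbolic model. -/
theorem hasModel_H (h2 : (2 : K) ≠ 0) {e : ℕ} (he : Odd e) (hep : e ≤ p) :
    HasModel p {((X - C (1 : K)) * (X - C 1), e, none)} := by
  classical
  set f : K[X] := (X - C (1 : K)) ^ e with hf
  haveI : Module.Finite K (AdjoinRoot f) := ((monic_X_sub_C 1).pow e).finite_adjoinRoot
  obtain ⟨σ, hσ, hσσ, hroot⟩ := exists_adjoint (K := K) hep
  obtain ⟨τ, hτ⟩ := exists_functional (K := K) he.pos 1
  let P : AdjoinRoot f →ₗ[K] AdjoinRoot f →ₗ[K] K := ((LinearMap.mul K (AdjoinRoot f)).comp σ.toLinearMap).compr₂ τ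
  have hP : ∀ a b, P a b = τ (σ a * b) := fun a b => rfl
  let fst := LinearMap.fst K (AdjoinRoot f) (AdjoinRoot f)
  let snd := LinearMap.snd K (AdjoinRoot f) (AdjoinRoot f)
  let B : AdjoinRoot f × AdjoinRoot f →ₗ[K] AdjoinRoot f × AdjoinRoot f →ₗ[K] K :=
    (P.compl₁₂ snd fst) - (P.compl₁₂ snd fst).flip
  have hB : ∀ a b, B a b = τ (σ a.2 * b.1) - τ (σ b.2 * a.1) := fun a b => rfl
  let y : Module.End K (AdjoinRoot f × AdjoinRoot f) := (rootMul f).prodMap (rootMul f)
  have hy : ∀ r a, act y r a = (AdjoinRoot.mk f r * a.1, AdjoinRoot.mk f r * a.2) := fun r a => by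
    have h1 : act (rootMul f) r (fst a) = fst (act y r a) := act_map (T := fst) (fun u => rfl) r a
    have h3 : act (rootMul f) r (snd a) = snd (act y r a) := act_map (T := snd) (fun u => rfl) r a
    rw [act_rootMul] at h1 h3
    exact Prod.ext h1.symm h3.symm
  have hctx : Ctx B y (-1) p := by
    refine ⟨(Fact.out : p.Prime).pos, ?_, fun a b => ?_, fun a b => ?_, h2⟩
    · refine LinearMap.ext fun a => ?_
      have h1 := hy (X ^ p) a
      have h0 : AdjoinRoot.mk f (X ^ p) = 1 := by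
        rw [← map_one (AdjoinRoot.mk f), AdjoinRoot.mk_eq_mk]
        exact pow_dvd_X_pow_sub_one hep
      simpa [h0, act] using h1
    · have hk : ∀ c d : AdjoinRoot f, σ (rootMul f c) * rootMul f d = σ c * d := fun c d => by
        rw [rootMul, LinearMap.mulLeft_apply, LinearMap.mulLeft_apply, map_mul, mul_mul_mul_comm, hroot, one_mul]
      rw [hB, hB]
      simp only [y, LinearMap.prodMap_apply, hk]
    · rw [hB, hB]
      ring
  have hg : ∀ (u v : AdjoinRoot f × AdjoinRoot f) r,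
      gram B y u v r = τ (σ u.2 * (AdjoinRoot.mk f r * v.1)) - τ (σ (AdjoinRoot.mk f r * v.2) * u.1) := fun u v r => by
    rw [gram_apply, hB, hy]
  have hH : IsH B y (-1) (X - C 1) e ((1 : AdjoinRoot f), (0 : AdjoinRoot f)) (0, 1) := by
    refine ⟨monic_X_sub_C 1, irreducible_X_sub_C 1, he.pos, by simp,
      Or.inr ⟨isPM_one, (parity_odd_iff h2 he.pos).mpr he⟩, ?_, ?_, fun r => by simp [hg], fun r => by simp [hg],
      1, ?_⟩
    · rw [hy]
      simp only [← hf, AdjoinRoot.mk_self, zero_mul]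
      rfl
    · rw [du_pm isPM_one, hy]
      simp only [← hf, AdjoinRoot.mk_self, zero_mul]
      rfl
    · rw [one_mul, hg]
      simp only [map_one σ, one_mul, mul_one, map_zero, mul_zero, zero_mul, sub_zero]
      rw [hτ]
      exact one_ne_zero
  refine ⟨AdjoinRoot f × AdjoinRoot f, inferInstance, inferInstance, inferInstance, B, y, hctx, ?_⟩
  have hrange : LinearMap.range (orb y ((1 : AdjoinRoot f), (0 : AdjoinRoot f))) ⊔
      LinearMap.range (orb y ((0 : AdjoinRoot f), (1 : AdjoinRoot f))) = ⊤ := by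
    refine eq_top_iff.mpr fun a _ => ?_
    obtain ⟨r, hr⟩ := AdjoinRoot.mk_surjective a.1
    obtain ⟨s, hs⟩ := AdjoinRoot.mk_surjective a.2
    refine Submodule.mem_sup.mpr ⟨_, ⟨r, rfl⟩, _, ⟨s, rfl⟩, ?_⟩
    rw [orb_apply, orb_apply, hy, hy, hr, hs]
    simp
  have := Frame.cons (B := B) (x := y) (ε := -1) (Or.inr ⟨_, e, _, _, hH, rfl, rfl⟩)
    (fun u _ w hw => by rw [(Submodule.mem_bot K).mp hw, map_zero]) Frame.nil
  rwa [du_pm isPM_one, sup_bot_eq, hrange] at this

theorem hasModel (h2 : (2 : K) ≠ 0) : ∀ {m : Multiset (Tag K)}, (∀ t ∈ m, UTag p t) → HasModel p m := by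
  intro m
  induction m using Multiset.induction with
  | empty =>
    intro _
    refine ⟨PUnit, inferInstance, inferInstance, inferInstance, 0, 1,
      ⟨(Fact.out : p.Prime).pos, one_pow p, fun u v => rfl, fun u v => by simp, h2⟩, ?_⟩
    rw [Subsingleton.elim (⊤ : Submodule K PUnit.{u + 1}) ⊥]
    exact Frame.nil
  | cons t m ih =>
    intro hm
    obtain ⟨V, _, _, _, B, x, hx, hF⟩ := ih fun s hs => hm s (Multiset.mem_cons_of_mem hs)
    have h0 : HasModel p ({t} : Multiset (Tag K)) := by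
      rcases hm t (Multiset.mem_cons_self t m) with ⟨e, s, he, h1, hep, rfl⟩ | ⟨e, he, hep, rfl⟩
      exacts [hasModel_C h2 he h1 hep s, hasModel_H h2 he hep]
    obtain ⟨W, _, _, _, B₀, x₀, hx₀, hF₀⟩ := h0
    obtain ⟨W', U', hW', -, hsup, hnil⟩ := hF₀.extract hx₀ (a := t) (m' := 0) rfl
    obtain rfl : U' = ⊥ := by
      refine Submodule.finrank_eq_zero.mp ?_
      rw [hnil.finrank hx₀]
      rfl
    rw [sup_bot_eq] at hsup
    subst hsup
    let B' : (W × V) →ₗ[K] (W × V) →ₗ[K] K :=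
      B₀.compl₁₂ (LinearMap.fst K W V) (LinearMap.fst K W V) + B.compl₁₂ (LinearMap.snd K W V) (LinearMap.snd K W V)
    have hB' : ∀ a b, B' a b = B₀ a.1 b.1 + B a.2 b.2 := fun a b => rfl
    have hctx : Ctx B' (x₀.prodMap x) (-1) p := by
      refine ⟨(Fact.out : p.Prime).pos, ?_, fun a b => ?_, fun a b => ?_, h2⟩
      · have key : ∀ i, (x₀.prodMap x) ^ i = (x₀ ^ i).prodMap (x ^ i) := fun i => by
          induction i with
          | zero => rw [pow_zero, pow_zero, pow_zero]; exact LinearMap.ext fun a => rfl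
          | succ i ih => rw [pow_succ, pow_succ, pow_succ, ih]; exact LinearMap.ext fun a => rfl
        rw [key, hx₀.pow_eq, hx.pow_eq]
        exact LinearMap.ext fun a => rfl
      · simp only [hB', LinearMap.prodMap_apply, hx₀.iso, hx.iso]
      · rw [hB', hB', hx₀.symm, hx.symm, mul_add]
    have h1 := hW'.map (B' := B') (y := x₀.prodMap x) (T := LinearMap.inl K W V) (fun u => by simp)
      (fun u v => by simp [hB'])
    have h3 := hF.map (B' := B') (y := x₀.prodMap x) (T := LinearMap.inr K W V) (fun u => by simp)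
      (fun u v => by simp [hB'])
    refine ⟨W × V, inferInstance, inferInstance, inferInstance, B', x₀.prodMap x, hctx, ?_⟩
    have h4 := Frame.cons h1 ?_ h3
    · rwa [Submodule.map_top, Submodule.map_top, LinearMap.sup_range_inl_inr] at h4
    · rintro - ⟨a, -, rfl⟩ - ⟨b, -, rfl⟩
      simp [hB']

end Local

end CfsgLib.IsometryClasses
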